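import Cfsg.Agent.Lib.DerangeIndex3.LinearMain

/-!
# The linear bound for modules of every size

Counting incidences between the elements of order `r` of `K` outside `A` and the orbit of a vector with a
stabiliser in `K` of largest order replaces the estimates valid for large modules only.
-/

set_option linter.style.haveILetI false
set_option linter.unusedSectionVars false

namespace Cfsg.Agent.Lib.DerangeIndex3.Linear

open MulAction Pointwise

universe u v

variable {Y : Type u} [Group Y] [Finite Y] {V : Type v} [AddCommGroup V] [Finite V]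
  [DistribMulAction Y V] {B : Subgroup Y}

/-- Incidences between an invariant set of elements and the orbit of a vector. -/
theorem Hyp.pair_count (hH : Hyp B V) {L : Subgroup Y} (hL : Cover B L) {X : Subgroup Y}
    (hX : X ≤ L ⊓ B) (S : Finset Y) (hS : ∀ l ∈ L, ∀ e ∈ S, l * e * l⁻¹ ∈ S) {W : ℕ}
    (hW : ∀ e ∈ S, Nat.card (fixV ({e} : Set Y) : AddSubgroup V) ≤ W) {w : V} (hw0 : w ≠ 0)
    [DecidableEq V] :
    B.index * (orbit X w).ncard * (S.filter fun e => e • w = w).card ≤ S.card * (W - 1) := by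
  classical
  haveI := hH.normal
  haveI := Fintype.ofFinite V
  let T : Finset V := Finset.univ.filter fun v => v ∈ orbit L w
  have hT : B.index * (orbit X w).ncard ≤ T.card := by
    have h1 : T.card = (orbit L w).ncard := by
      rw [Set.ncard_eq_toFinset_card']
      congr 1
      ext v
      simp [T]
    have h2 : stabilizer Y w ⊓ L ≤ L ⊓ B := fun y hy => ⟨hy.2, by
      by_contra hc
      exact hw0 (hH.fpf y hc w hy.1)⟩
    have h3 := Subgroup.relIndex_mul_relIndex (stabilizer Y w ⊓ L) (L ⊓ B) L h2 inf_le_left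
    rw [Subgroup.inf_relIndex_right, Subgroup.inf_relIndex_left, relIndex_eq_index hL] at h3
    have h4 : (stabilizer Y w ⊓ L).relIndex (L ⊓ B) = (stabilizer Y w).relIndex (L ⊓ B) := by
      rw [← Subgroup.inf_relIndex_right (H := stabilizer Y w ⊓ L), inf_assoc,
        inf_eq_right.mpr (inf_le_left : L ⊓ B ≤ L), Subgroup.inf_relIndex_right]
    rw [h1, ncard_orbit L, ← h3, h4, ← ncard_orbit (L ⊓ B), mul_comm]
    exact Nat.mul_le_mul_right _ (Set.ncard_le_ncard (orbit_mono hX w) (Set.toFinite _))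
  have hTne : ∀ v ∈ T, v ≠ 0 := by
    intro v hv h0
    obtain ⟨l, rfl⟩ := (Finset.mem_filter.mp hv).2
    exact hw0 ((smul_eq_zero_iff_eq (l : Y)).mp h0)
  have hconst : ∀ v ∈ T, (S.filter fun e => e • v = v).card = (S.filter fun e => e • w = w).card := by
    intro v hv
    obtain ⟨⟨l, hl⟩, rfl⟩ := (Finset.mem_filter.mp hv).2
    refine (Finset.card_bij' (fun e _ => l⁻¹ * e * l) (fun e _ => l * e * l⁻¹) (fun e he => ?_)
      (fun e he => ?_) (fun e _ => by group) (fun e _ => by group))
    · simp only [Finset.mem_filter] at he ⊢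
      refine ⟨by simpa using hS l⁻¹ (inv_mem hl) e he.1, ?_⟩
      have h3 : e • (l • w) = l • w := he.2
      rw [mul_smul, mul_smul, h3, inv_smul_smul]
    · simp only [Finset.mem_filter] at he ⊢
      refine ⟨hS l hl e he.1, ?_⟩
      change (l * e * l⁻¹) • (l • w) = l • w
      rw [mul_smul, mul_smul, inv_smul_smul, he.2]
  have hle : ∀ e ∈ S, (T.filter fun v => e • v = v).card ≤ W - 1 := by
    intro e he
    have h1 : ((T.filter fun v => e • v = v) : Set V) ⊆
        ((fixV ({e} : Set Y) : AddSubgroup V) : Set V) \ {0} := by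
      intro v hv
      simp only [Finset.coe_filter, Set.mem_ofPred_eq] at hv
      exact ⟨fun s hs => by rw [Set.mem_singleton_iff.mp hs]; exact hv.2, hTne v hv.1⟩
    have h2 := Set.ncard_le_ncard h1 (Set.toFinite _)
    rw [Set.ncard_coe_finset, Set.ncard_sdiff_singleton_of_mem
      (show (0 : V) ∈ ((fixV ({e} : Set Y) : AddSubgroup V) : Set V) from zero_mem _)] at h2
    exact h2.trans (Nat.sub_le_sub_right ((Nat.card_coe_set_eq _).symm.trans_le (hW e he)) 1)
  calc B.index * (orbit X w).ncard * (S.filter fun e => e • w = w).card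
      ≤ T.card * (S.filter fun e => e • w = w).card := Nat.mul_le_mul_right _ hT
    _ = ∑ v ∈ T, (S.filter fun e => e • v = v).card := by
        rw [Finset.sum_congr rfl hconst, Finset.sum_const, smul_eq_mul]
    _ = ∑ e ∈ S, (T.filter fun v => e • v = v).card :=
        (Finset.sum_card_bipartiteAbove_eq_sum_card_bipartiteBelow (fun e v => e • v = v)).symm
    _ ≤ ∑ _e ∈ S, (W - 1) := Finset.sum_le_sum hle
    _ = S.card * (W - 1) := by rw [Finset.sum_const, smul_eq_mul]

namespace Loc

variable {r : ℕ} [hr : Fact r.Prime] (Q : Loc V B r)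

/-- A nontrivial element of `K` with a fixed vector has order `r` and lies outside `A`. -/
theorem fix_mem {x : Y} (hx : x ∈ Q.K) (hx1 : x ≠ 1) {w : V} (hw0 : w ≠ 0) (hw : x • w = w) :
    x ∉ Q.A ∧ x ^ r = 1 := by
  refine ⟨fun hA => hw0 (Q.hfpf x hA hx1 w hw), ?_⟩
  by_contra hne
  exact hw0 (Q.hfpf _ (Q.K_pow hx) hne w ((stabilizer Y w).pow_mem hw r))

/-- For a largest stabiliser `B₀` in `K` and `r = 2`, few involutions of `K` lie outside `A`. -/
theorem two_torsion_count [FaithfulSMul Y V] [Nontrivial V] (hr2 : r = 2) (S : Finset Y)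
    (hS : ∀ s ∈ S, s ∈ Q.K ∧ s ∉ Q.A ∧ s ^ 2 = 1) {w : V} (hw0 : w ≠ 0)
    (hmax : ∀ v : V, v ≠ 0 →
      Nat.card ↥(Q.K ⊓ stabilizer Y v) ≤ Nat.card ↥(Q.K ⊓ stabilizer Y w))
    (h2 : 2 ≤ Nat.card ↥(Q.K ⊓ stabilizer Y w)) :
    S.card * Nat.card ↥(Q.K ⊓ stabilizer Y w) ≤
      Nat.card ↥Q.K * (Nat.card ↥(Q.K ⊓ stabilizer Y w) - 1) := by
  classical
  haveI := Fintype.ofFinite Y
  subst hr2
  set B₀ := Q.K ⊓ stabilizer Y w with hB₀
  set s := Nat.card ↥B₀ with hs
  set C := Q.K ⊓ Subgroup.centralizer (B₀ : Set Y) with hC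
  have hsq : ∀ b ∈ B₀, b * b = 1 := by
    intro b hb
    by_cases hb1 : b = 1
    · rw [hb1, mul_one]
    · rw [← sq]; exact (Q.fix_mem hb.1 hb1 hw0 hb.2).2
  have hBcomm : ∀ a ∈ B₀, ∀ b ∈ B₀, a * b = b * a := by
    intro a ha b hb
    have h := hsq _ (mul_mem ha hb)
    calc a * b = (a * b)⁻¹ := (inv_eq_of_mul_eq_one_right h).symm
      _ = b * a := by
        rw [mul_inv_rev, inv_eq_of_mul_eq_one_right (hsq a ha), inv_eq_of_mul_eq_one_right (hsq b hb)]
  have hBC : B₀ ≤ C := fun b hb =>
    ⟨hb.1, Subgroup.mem_centralizer_iff.mpr fun c hc => hBcomm c hc b hb⟩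
  have hzC : Q.z ∈ C := ⟨Q.A_le_K Q.hzA, Subgroup.mem_centralizer_iff.mpr fun b hb =>
    Q.K_commA hb.1 Q.hzA⟩
  let cnt : Subgroup Y → Finset Y := fun H => Finset.univ.filter (· ∈ H)
  have hcnt : ∀ H : Subgroup Y, (cnt H).card = Nat.card ↥H := fun H => by
    rw [Nat.card_eq_fintype_card, Fintype.card_subtype]
  have hzB : ∀ b ∈ B₀, b * Q.z ∉ B₀ := by
    intro b hb h
    have : Q.z ∈ B₀ := by simpa using mul_mem (inv_mem hb) h
    exact hw0 (Q.hfpf Q.z Q.hzA Q.z_ne_one w this.2)
  have h2C : 2 * s ≤ Nat.card ↥C := by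
    rw [← hcnt C, two_mul]
    nth_rw 1 [hs, ← hcnt B₀]
    rw [hs, ← hcnt B₀]
    conv_lhs => arg 2; rw [← Finset.card_image_of_injective _ (mul_left_injective Q.z)]
    rw [← Finset.card_union_of_disjoint]
    · refine Finset.card_le_card fun x hx => ?_
      simp only [cnt, Finset.mem_union, Finset.mem_image, Finset.mem_filter, Finset.mem_univ,
        true_and] at hx ⊢
      rcases hx with hx | ⟨b, hb, rfl⟩
      · exact hBC hx
      · exact mul_mem (hBC hb) hzC
    · rw [Finset.disjoint_right]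
      intro x hx hx'
      simp only [cnt, Finset.mem_image, Finset.mem_filter, Finset.mem_univ, true_and] at hx hx'
      obtain ⟨b, hb, rfl⟩ := hx
      exact hzB b hb hx'
  -- inside the centraliser
  have hin : (S.filter (· ∈ C)).card ≤ 2 * (s - 1) := by
    have hsub : S.filter (· ∈ C) ⊆
        (cnt B₀).erase 1 ∪ ((cnt B₀).erase 1).image (· * Q.z) := by
      intro e he
      obtain ⟨heS, heC⟩ := Finset.mem_filter.mp he
      obtain ⟨heK, heA, he2⟩ := hS e heS
      have he1 : e ≠ 1 := fun h => heA (h ▸ one_mem _)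
      have hee : e * e = 1 := by rw [← sq]; exact he2
      rw [Finset.mem_union, Finset.mem_image]
      by_cases hv : w + e • w = 0
      · right
        have hz : Q.z • w = -w := by
          refine eq_neg_of_add_eq_zero_left (Q.hfpf Q.z Q.hzA Q.z_ne_one _ ?_)
          rw [smul_add, smul_smul, ← sq, Q.z_pow, one_smul, add_comm]
        have hew : e • w = -w := eq_neg_of_add_eq_zero_right hv
        have hmem : e * Q.z ∈ B₀ := ⟨mul_mem heK (Q.A_le_K Q.hzA), by
          change (e * Q.z) • w = w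
          rw [mul_smul, hz, smul_neg, hew, neg_neg]⟩
        have hzz : Q.z * Q.z = 1 := by rw [← sq]; exact Q.z_pow
        refine ⟨e * Q.z, Finset.mem_erase.mpr ⟨fun h => heA ?_, by simp [cnt, hmem]⟩, ?_⟩
        · rw [eq_inv_of_mul_eq_one_left h]; exact inv_mem Q.hzA
        · rw [mul_assoc, hzz, mul_one]
      · left
        have hfix : e • (w + e • w) = w + e • w := by
          rw [smul_add, smul_smul, hee, one_smul, add_comm]
        have hle : B₀ ≤ Q.K ⊓ stabilizer Y (w + e • w) := fun b hb => ⟨hb.1, by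
          change b • (w + e • w) = w + e • w
          rw [smul_add, smul_smul, Subgroup.mem_centralizer_iff.mp heC.2 b hb, ← smul_smul,
            show b • w = w from hb.2]⟩
        have heq := Subgroup.eq_of_le_of_card_ge hle (hmax _ hv)
        refine Finset.mem_erase.mpr ⟨he1, ?_⟩
        simp only [cnt, Finset.mem_filter, Finset.mem_univ, true_and]
        rw [heq]
        exact ⟨heK, hfix⟩
    have hB1 : ((cnt B₀).erase 1).card = s - 1 := by
      rw [Finset.card_erase_of_mem (by simp [cnt]), hcnt]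
    refine (Finset.card_le_card hsub).trans ((Finset.card_union_le _ _).trans ?_)
    have := Finset.card_image_le (s := (cnt B₀).erase 1) (f := (· * Q.z))
    omega
  -- outside the centraliser
  have hout : 2 * (S.filter (· ∉ C)).card + Nat.card ↥C ≤ Nat.card ↥Q.K := by
    let pick : Set Y → Y := fun P => if h : P.Nonempty then h.some else 1
    let P : Y → Set Y := fun y => {b | b ∈ B₀ ∧ y * b ≠ b * y}
    have hne : ∀ y ∈ S.filter (· ∉ C), (P y).Nonempty := by
      intro y hy
      obtain ⟨hyS, hyC⟩ := Finset.mem_filter.mp hy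
      by_contra hc
      refine hyC ⟨(hS y hyS).1, Subgroup.mem_centralizer_iff.mpr fun b hb => ?_⟩
      by_contra hne
      exact hc ⟨b, hb, fun h => hne h.symm⟩
    have hpick : ∀ y ∈ S.filter (· ∉ C), pick (P y) ∈ P y := fun y hy => by
      simp only [pick, dif_pos (hne y hy)]
      exact (hne y hy).some_mem
    have hkey : ∀ y ∈ S.filter (· ∉ C), y * pick (P y) ∈ Q.K ∧ y * pick (P y) ∉ C ∧
        (y * pick (P y)) * (y * pick (P y)) = Q.z := by
      intro y hy
      obtain ⟨hyS, hyC⟩ := Finset.mem_filter.mp hy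
      obtain ⟨hyK, -, hy2⟩ := hS y hyS
      obtain ⟨hb, hyb⟩ := hpick y hy
      generalize pick (P y) = b at hb hyb ⊢
      refine ⟨mul_mem hyK hb.1, fun h => hyC ?_, ?_⟩
      · simpa using mul_mem h (inv_mem (hBC hb))
      · have hc : b⁻¹ * y * b * y⁻¹ = Q.z := by
          have hmem := Q.K_comm_mem hb.1 hyK
          rw [mem_zpowers_iff_mem_range_orderOf, Q.hz, Finset.mem_image] at hmem
          obtain ⟨i, hi, hieq⟩ := hmem
          rw [Finset.mem_range] at hi
          interval_cases i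
          · rw [pow_zero, eq_comm, mul_inv_eq_one, mul_assoc, inv_mul_eq_iff_eq_mul] at hieq
            exact absurd hieq hyb
          · rw [← hieq, pow_one]
        calc y * b * (y * b) = y * (b * b) * (b⁻¹ * y * b * y⁻¹) * y := by group
          _ = y * Q.z * y := by rw [hsq b hb, hc, mul_one]
          _ = Q.z * (y * y) := by rw [Q.K_commA hyK Q.hzA, mul_assoc]
          _ = Q.z := by rw [← sq, hy2, mul_one]
    have hinj : Set.InjOn (fun y => y * pick (P y)) (S.filter (· ∉ C) : Finset Y) := by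
      intro y hy y' hy' he
      have hb := (hpick y hy).1
      have hb' := (hpick y' hy').1
      simp only at he
      have hPP : P y = P y' := by
        have h1 : y' = y * (pick (P y) * (pick (P y'))⁻¹) := by
          rw [← mul_assoc, he, mul_inv_cancel_right]
        set t := pick (P y) * (pick (P y'))⁻¹
        have ht : t ∈ B₀ := mul_mem hb (inv_mem hb')
        ext c
        simp only [P, Set.mem_ofPred_eq]
        refine and_congr_right fun hc => ?_
        rw [h1, ← mul_assoc c, mul_assoc y t c, hBcomm t ht c hc, ← mul_assoc]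
        exact ⟨fun h h' => h (mul_right_cancel h'), fun h h' => h (by rw [h'])⟩
      rw [hPP] at he
      exact mul_right_cancel he
    let I := (S.filter (· ∉ C)).image fun y => y * pick (P y)
    have hI : I.card = (S.filter (· ∉ C)).card := Finset.card_image_of_injOn hinj
    have hd : Disjoint (S.filter (· ∉ C)) I := by
      rw [Finset.disjoint_right]
      intro x hx hx'
      obtain ⟨y, hy, rfl⟩ := Finset.mem_image.mp hx
      have := (hkey y hy).2.2
      rw [← sq, (hS _ (Finset.mem_filter.mp hx').1).2.2] at this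
      exact Q.z_ne_one this.symm
    have hd2 : Disjoint (S.filter (· ∉ C) ∪ I) (cnt C) := by
      rw [Finset.disjoint_left]
      intro x hx hx'
      simp only [cnt, Finset.mem_filter, Finset.mem_univ, true_and] at hx'
      rcases Finset.mem_union.mp hx with h | h
      · exact (Finset.mem_filter.mp h).2 hx'
      · obtain ⟨y, hy, rfl⟩ := Finset.mem_image.mp h
        exact (hkey y hy).2.1 hx'
    have hsub : S.filter (· ∉ C) ∪ I ∪ cnt C ⊆ cnt Q.K := by
      intro x hx
      simp only [cnt, Finset.mem_filter, Finset.mem_univ, true_and]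
      rcases Finset.mem_union.mp hx with hx | hx
      · rcases Finset.mem_union.mp hx with h | h
        · exact (hS x (Finset.mem_filter.mp h).1).1
        · obtain ⟨y, hy, rfl⟩ := Finset.mem_image.mp h
          exact (hkey y hy).1
      · simp only [cnt, Finset.mem_filter, Finset.mem_univ, true_and] at hx
        exact hx.1
    have := Finset.card_le_card hsub
    rw [Finset.card_union_of_disjoint hd2, Finset.card_union_of_disjoint hd, hI, hcnt, hcnt] at this
    omega
  have hsplit := Finset.card_filter_add_card_filter_not (s := S) (fun x => x ∈ C)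
  set N := S.card
  set k := Nat.card ↥Q.K
  have h3 : 2 * N + Nat.card ↥C ≤ k + 4 * (s - 1) := by omega
  have h4 : 2 * s ≤ k := le_trans h2C (Subgroup.card_le_of_le inf_le_left)
  obtain ⟨t, ht⟩ : ∃ t, s = t + 2 := ⟨s - 2, by omega⟩
  rw [ht] at h3 h4 h2C ⊢
  rw [show t + 2 - 1 = t + 1 by omega] at h3 ⊢
  have h5 : 2 * N + 2 * (t + 2) ≤ k + 4 * (t + 1) := by omega
  nlinarith [Nat.mul_le_mul_right (t + 2) h5, Nat.mul_le_mul_right t h4]

/-- An element of order `r` in `K` outside `A` is impossible. -/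
theorem false_of_torsion [FaithfulSMul Y V] [Nontrivial V] {e : Y} (he : e ∈ Q.K) (heA : e ∉ Q.A)
    (her : e ^ r = 1) : False := by
  classical
  haveI := Fintype.ofFinite Y
  haveI := Fintype.ofFinite V
  let S : Finset Y := Finset.univ.filter fun s => s ∈ Q.K ∧ s ∉ Q.A ∧ s ^ r = 1
  have hS : ∀ s ∈ S, s ∈ Q.K ∧ s ∉ Q.A ∧ s ^ r = 1 := fun s hs => (Finset.mem_filter.mp hs).2
  have hSL : ∀ l ∈ Q.L, ∀ x ∈ S, l * x * l⁻¹ ∈ S := by
    intro l hl x hx
    obtain ⟨hxK, hxA, hxr⟩ := hS x hx
    simp only [S, Finset.mem_filter, Finset.mem_univ, true_and]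
    refine ⟨(Subgroup.mem_normalizer_iff.mp (Q.L_le_normalizer_K hl) x).mp hxK, fun h => hxA ?_,
      by rw [conj_pow, hxr]; group⟩
    simpa [mul_assoc] using Q.conj_mem' hl h
  let fc : Y → ℕ := fun x => Nat.card (fixV ({x} : Set Y) : AddSubgroup V)
  obtain ⟨x₁, hx₁, hx₁max⟩ := S.exists_max_image fc ⟨e, by simp [S, he, heA, her]⟩
  obtain ⟨hx₁K, hx₁A, -⟩ := hS x₁ hx₁
  have hpow : fc x₁ ^ r ≤ Nat.card V :=
    Q.pow_card_fix_le (e := x₁) (Q.K_commA hx₁K Q.hzA).symm (fun i => Q.exists_ψ hx₁K hx₁A i)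
  obtain ⟨w₁, hw₁, hew₁⟩ := Q.exists_fix he heA her
  obtain ⟨w, hw, hmax⟩ := (Finset.univ.filter fun v : V => v ≠ 0).exists_max_image
    (fun v => Nat.card ↥(Q.K ⊓ stabilizer Y v)) ⟨w₁, by simp [hw₁]⟩
  simp only [Finset.mem_filter, Finset.mem_univ, true_and] at hw hmax
  set s := Nat.card ↥(Q.K ⊓ stabilizer Y w) with hs
  have hrs : r ≤ s := by
    refine le_trans ?_ (hmax w₁ hw₁)
    have he1 : e ≠ 1 := fun h => heA (h ▸ one_mem _)
    have hmem : e ∈ Q.K ⊓ stabilizer Y w₁ := ⟨he, hew₁⟩
    have h1 := Subgroup.card_le_of_le (Subgroup.zpowers_le.mpr hmem)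
    rwa [Nat.card_zpowers, orderOf_eq_prime her he1] at h1
  have hfilt : (S.filter fun x => x • w = w).card = s - 1 := by
    have : (S.filter fun x => x • w = w) =
        (Finset.univ.filter fun x => x ∈ Q.K ⊓ stabilizer Y w).erase 1 := by
      ext x
      simp only [S, Finset.mem_filter, Finset.mem_univ, true_and, Finset.mem_erase, Subgroup.mem_inf,
        mem_stabilizer_iff]
      exact ⟨fun h => ⟨fun h1 => h.1.2.1 (h1 ▸ one_mem _), h.1.1, h.2⟩,
        fun h => ⟨⟨h.2.1, Q.fix_mem h.2.1 h.1 hw h.2.2⟩, h.2.2⟩⟩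
    rw [this, Finset.card_erase_of_mem (by simp [one_mem]), hs, Nat.card_eq_fintype_card,
      Fintype.card_subtype]
  have hcount := Q.hH.pair_count Q.cover (X := Q.K)
    (le_inf (Q.K_le_R.trans Q.hRL) (Q.K_le_R.trans Q.hRB)) S hSL hx₁max hw
  rw [hfilt] at hcount
  set o := (orbit ↥Q.K w).ncard with ho
  have hos : o * s = Nat.card ↥Q.K := by
    have h := Subgroup.relIndex_mul_relIndex ⊥ (stabilizer Y w ⊓ Q.K) Q.K bot_le inf_le_right
    rw [Subgroup.relIndex_bot_left, Subgroup.relIndex_bot_left, Subgroup.inf_relIndex_right] at h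
    rw [ho, ncard_orbit, hs, inf_comm, mul_comm]
    exact h
  have ho0 : 0 < o := (Set.ncard_pos (Set.toFinite _)).mpr ⟨w, mem_orbit_self w⟩
  have hr2 := hr.out.two_le
  set W := fc x₁ with hW
  have hW1 : 1 ≤ W := Nat.card_pos
  set m := B.index with hm
  apply Q.small
  rcases hr.out.eq_two_or_odd' with h2r | hodd
  · have hN := Q.two_torsion_count h2r S (fun x hx => h2r ▸ hS x hx) hw hmax (by omega)
    rw [← hs, ← hos] at hN
    have h2 : m * (o * s * (s - 1)) ≤ (W - 1) * (o * s * (s - 1)) :=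
      calc m * (o * s * (s - 1)) = m * o * (s - 1) * s := by ring
        _ ≤ S.card * (W - 1) * s := Nat.mul_le_mul_right s hcount
        _ = S.card * s * (W - 1) := by ring
        _ ≤ o * s * (s - 1) * (W - 1) := Nat.mul_le_mul_right _ hN
        _ = _ := by ring
    have h3 := Nat.le_of_mul_le_mul_right h2
      (Nat.mul_pos (Nat.mul_pos ho0 (by omega)) (by omega))
    exact le_trans (Nat.pow_le_pow_left (by omega : m + 1 ≤ W) 2) (h2r ▸ hpow)
  · have hr3 : 3 ≤ r := by
      obtain ⟨k, hk⟩ := hodd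
      omega
    have hSK : S.card ≤ o * s := by
      rw [hos, Nat.card_eq_fintype_card, Fintype.card_subtype]
      exact Finset.card_le_card fun x hx => by simp [(hS x hx).1]
    have h2 : 2 * m * ((s - 1) * o) ≤ 3 * (W - 1) * ((s - 1) * o) :=
      calc 2 * m * ((s - 1) * o) = 2 * (m * o * (s - 1)) := by ring
        _ ≤ 2 * (S.card * (W - 1)) := Nat.mul_le_mul_left _ hcount
        _ ≤ 2 * (o * s * (W - 1)) := Nat.mul_le_mul_left _ (Nat.mul_le_mul_right _ hSK)
        _ = (2 * s) * (o * (W - 1)) := by ring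
        _ ≤ (3 * (s - 1)) * (o * (W - 1)) := Nat.mul_le_mul_right _ (by omega)
        _ = _ := by ring
    have h3 := Nat.le_of_mul_le_mul_right h2 (Nat.mul_pos (by omega) ho0)
    refine le_trans ?_ (le_trans (Nat.pow_le_pow_right hW1 hr3) hpow)
    obtain ⟨t, ht⟩ : ∃ t, W = t + 1 := ⟨W - 1, by omega⟩
    rw [ht] at h3 ⊢
    rw [Nat.add_sub_cancel] at h3
    nlinarith [Nat.mul_le_mul h3 h3, Nat.zero_le (t ^ 2), Nat.zero_le (t ^ 3), h3]

end Loc

/-- **The linear bound, for every size of module.** -/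
theorem Hyp.bound_all [FaithfulSMul Y V] (hH : Hyp B V) {b : Y} (hbB : b ∈ B) (hb1 : b ≠ 1) {w : V}
    (hbw : b • w = w) (hw0 : w ≠ 0) : (B.index + 1) ^ 2 ≤ Nat.card V := by
  by_contra hsmall
  haveI := hH.normal
  haveI : Nontrivial V := ⟨⟨w, 0, hw0⟩⟩
  obtain ⟨r, hr, hrb⟩ := Nat.exists_prime_and_dvd (mt orderOf_eq_one_iff.mp hb1)
  haveI := Fact.mk hr
  let e := b ^ (orderOf b / r)
  have her : orderOf e = r := orderOf_pow_orderOf_div (orderOf_pos b).ne' hrb
  have heB : e ∈ B := pow_mem hbB _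
  have hew : e • w = w := (stabilizer Y w).pow_mem (mem_stabilizer_iff.mpr hbw) _
  have her' : e ^ r = 1 := orderOf_dvd_iff_pow_eq_one.mp (dvd_of_eq her)
  have he1 : e ≠ 1 := fun h => by rw [h, orderOf_one] at her; exact hr.one_lt.ne her
  have hp : IsPGroup r (Subgroup.zpowers (⟨e, heB⟩ : ↥B)) := by
    refine IsPGroup.of_card (n := 1) ?_
    rw [Nat.card_zpowers, ← Subgroup.orderOf_coe, pow_one]
    exact her
  obtain ⟨P, hP⟩ := hp.exists_le_sylow
  let R : Subgroup Y := (P : Subgroup ↥B).map B.subtype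
  let L : Subgroup Y := Subgroup.normalizer (R : Set Y)
  have heR : e ∈ R := ⟨⟨e, heB⟩, hP (Subgroup.mem_zpowers _), rfl⟩
  have cover : Cover B L := Sylow.normalizer_sup_eq_top P
  have hRne : R ≠ ⊥ := fun h => he1 (by rw [h] at heR; exact heR)
  obtain ⟨Q, hQL, hQR⟩ := hH.exists_loc hsmall L cover R (Subgroup.map_subtype_le _)
    (P.isPGroup'.map _) Subgroup.le_normalizer le_rfl hRne
  have heQ : e ∈ Q.R := hQR ▸ heR
  have heA : e ∉ Q.A := fun h => hw0 (Q.hfpf e h he1 w hew)
  by_cases hC : Q.R ⊓ Subgroup.centralizer (Q.A : Set Y) ≤ Q.A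
  · exact Q.false_of_selfCentralizing hC heQ her hew hw0
  · obtain ⟨f, hf, hfA, hfr⟩ := Q.exists_torsion hC heQ her' heA
    exact Q.false_of_torsion hf hfA hfr

end Cfsg.Agent.Lib.DerangeIndex3.Linear
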