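import Cfsg.Agent.Lib.Characters.Transitive
import Cfsg.Agent.Lib.Characters.Linear
import Cfsg.Agent.Lib.Characters.Kernel
import Mathlib.GroupTheory.Transfer

/-!
# A regular abelian Sylow subgroup with small fixed-point-free normaliser in a group that is not 2-transitive

If a transitive group `K`, not 2-transitive, is generated by the conjugates of a regular abelian Sylow
subgroup `Q` whose normaliser in a point stabiliser acts semiregularly on `Q` and has small order,
then `Q` is the whole group.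
-/

set_option linter.style.haveILetI false
set_option linter.unusedSectionVars false

namespace Cfsg.Agent.Lib.DerangeIndex3.TI

open scoped ComplexConjugate
open MulAction Cfsg.Agent.Lib.Induced.Basic Cfsg.Agent.Lib.Characters.Basic
  Cfsg.Agent.Lib.Characters.Complete Cfsg.Agent.Lib.Characters.Transitive
  Cfsg.Agent.Lib.Characters.Linear

universe u v

variable {K : Type u} [Group K] [Finite K] {Ω : Type v} [MulAction K Ω] [Finite Ω]
  (Q : Subgroup K) (a : Ω)

/-- The standing hypotheses. -/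
structure Hyp : Prop where
  comm : ∀ x ∈ Q, ∀ y ∈ Q, x * y = y * x
  trans : IsPretransitive ↥Q Ω
  free : ∀ x ∈ Q, ∀ ω : Ω, x • ω = ω → x = 1
  semi : ∀ b : K, b • a = a → b ∈ Subgroup.normalizer (Q : Set K) →
    ∀ y ∈ Q, y ≠ 1 → b * y = y * b → b = 1
  ti : ∀ x : K, ∀ y ∈ Q, y ≠ 1 → x⁻¹ * y * x ∈ Q → x ∈ Subgroup.normalizer (Q : Set K)

variable {Q a}

/-- The normaliser of `Q` in the point stabiliser. -/
abbrev BN (Q : Subgroup K) (a : Ω) : Subgroup K := stabilizer K a ⊓ Subgroup.normalizer (Q : Set K)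

theorem card_of_regular (htr : IsPretransitive ↥Q Ω) (hfree : ∀ x ∈ Q, ∀ ω : Ω, x • ω = ω → x = 1)
    (a : Ω) : Nat.card ↥Q = Nat.card Ω := by
  refine Nat.card_congr (Equiv.ofBijective (fun x : ↥Q => x • a) ⟨fun x y hxy => ?_, fun ω => exists_smul_eq ↥Q a ω⟩)
  have h1 := hfree _ (mul_mem (inv_mem y.2) x.2) a (by
    change (x : K) • a = (y : K) • a at hxy
    rw [mul_smul, hxy, inv_smul_smul])
  exact Subtype.ext (inv_mul_eq_one.mp h1).symm

theorem card_Q (h : Hyp Q a) : Nat.card ↥Q = Nat.card Ω := card_of_regular h.trans h.free a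

theorem conj_mem {Q : Subgroup K} {a : Ω} (β : ↥(BN Q a)) {y : K} (hy : y ∈ Q) :
    (β : K) * y * (β : K)⁻¹ ∈ Q := (Subgroup.mem_normalizer_iff.mp β.2.2 y).mp hy

/-- Conjugation on `Q`. -/
def cj {Q : Subgroup K} {a : Ω} (β : ↥(BN Q a)) : ↥Q ≃* ↥Q where
  toFun y := ⟨(β : K) * y * (β : K)⁻¹, conj_mem β y.2⟩
  invFun y := ⟨((β⁻¹ : ↥(BN Q a)) : K) * y * ((β⁻¹ : ↥(BN Q a)) : K)⁻¹, conj_mem β⁻¹ y.2⟩
  left_inv y := Subtype.ext (by simp only [InvMemClass.coe_inv]; group)
  right_inv y := Subtype.ext (by simp only [InvMemClass.coe_inv]; group)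
  map_mul' x y := Subtype.ext (by simp only [Subgroup.coe_mul]; group)

/-- Conjugate of an irreducible character of `Q`. -/
def act (lam : Cfsg.IrrCharacter ↥Q) (β : ↥(BN Q a)) : Cfsg.IrrCharacter ↥Q :=
  ⟨(lam : ↥Q → ℂ) ∘ (cj β).toMonoidHom, isIrrCharacter_comp _ (cj β).surjective lam.2⟩

theorem act_apply (lam : Cfsg.IrrCharacter ↥Q) (β : ↥(BN Q a)) (y : ↥Q) :
    (act lam β : ↥Q → ℂ) y = (lam : ↥Q → ℂ) (cj β y) := rfl

theorem act_one (lam : Cfsg.IrrCharacter ↥Q) : act lam (1 : ↥(BN Q a)) = lam :=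
  Subtype.ext (funext fun y => congrArg (lam : ↥Q → ℂ) (Subtype.ext (by
    show (1 : K) * y * (1 : K)⁻¹ = y
    group)))

theorem act_mul (lam : Cfsg.IrrCharacter ↥Q) (β γ : ↥(BN Q a)) :
    act (act lam β) γ = act lam (β * γ) :=
  Subtype.ext (funext fun y => congrArg (lam : ↥Q → ℂ) (Subtype.ext (by
    show (β : K) * ((γ : K) * y * (γ : K)⁻¹) * (β : K)⁻¹ = ((β * γ : ↥(BN Q a)) : K) * y * ((β * γ : ↥(BN Q a)) : K)⁻¹
    rw [Subgroup.coe_mul]; group)))

theorem lin_one (h : Hyp Q a) (lam : Cfsg.IrrCharacter ↥Q) : (lam : ↥Q → ℂ) 1 = 1 :=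
  degree_eq_one_of_comm (fun x y => Subtype.ext (h.comm x x.2 y y.2)) lam

theorem lin_mul (h : Hyp Q a) (lam : Cfsg.IrrCharacter ↥Q) (x y : ↥Q) :
    (lam : ↥Q → ℂ) (x * y) = (lam : ↥Q → ℂ) x * (lam : ↥Q → ℂ) y :=
  apply_mul_of_degree_one (isCharacter_irr lam) (lin_one h lam) x y

theorem act_trivial (β : ↥(BN Q a)) : act (oneChar ↥Q) β = oneChar ↥Q :=
  Subtype.ext (funext fun _ => rfl)

/-- The normaliser acts semiregularly on nontrivial characters. -/
theorem act_free (h : Hyp Q a) {lam : Cfsg.IrrCharacter ↥Q} (hlam : lam ≠ oneChar ↥Q)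
    {β γ : ↥(BN Q a)} (he : act lam β = act lam γ) : β = γ := by
  have hfix : act lam (β * γ⁻¹) = lam := by
    rw [← act_mul, he, act_mul, mul_inv_cancel, act_one]
  by_contra hne
  let δ := β * γ⁻¹
  have hδ : (δ : K) ≠ 1 := fun h1 => hne (mul_inv_eq_one.mp (Subtype.ext h1))
  refine hlam (Subtype.ext (funext fun y => ?_))
  have hinj : Function.Injective (fun x : ↥Q => x⁻¹ * cj δ x) := by
    intro x z hxz
    simp only at hxz
    have hcomm : ∀ p q : ↥Q, p * q = q * p := fun p q => Subtype.ext (h.comm p p.2 q q.2)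
    have h1 : cj δ (x * z⁻¹) = x * z⁻¹ := by
      rw [map_mul, map_inv]
      have e1 : cj δ x = x * (z⁻¹ * cj δ z) := by rw [← hxz, mul_inv_cancel_left]
      rw [e1, mul_assoc, mul_assoc, mul_inv_cancel, mul_one]
    by_contra hne'
    refine hδ (h.semi _ δ.2.1 δ.2.2 _ (x * z⁻¹).2
      (fun h2 => hne' (mul_inv_eq_one.mp (Subtype.ext h2))) ?_)
    have h2 : (δ : K) * ((x * z⁻¹ : ↥Q) : K) * (δ : K)⁻¹ = ((x * z⁻¹ : ↥Q) : K) := congrArg Subtype.val h1
    exact mul_inv_eq_iff_eq_mul.mp h2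
  obtain ⟨x, rfl⟩ := (Finite.injective_iff_surjective.mp hinj) y
  show (lam : ↥Q → ℂ) (x⁻¹ * cj δ x) = 1
  have h1 : (lam : ↥Q → ℂ) (cj δ x) = (lam : ↥Q → ℂ) x := congrFun (congrArg Subtype.val hfix) x
  rw [lin_mul h, h1, ← lin_mul h, inv_mul_cancel, lin_one h]

/-- Restriction to `Q`. -/
def res (Q : Subgroup K) (f : K → ℂ) : ↥Q → ℂ := fun y => f y

theorem isChar_res {f : K → ℂ} (hf : Cfsg.IsCharacter K f) : Cfsg.IsCharacter ↥Q (res Q f) :=
  isCharacter_comp Q.subtype hf

/-- Multiplicity of a character of `Q` in a restriction. -/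
noncomputable def mult [Fintype ↥Q] (χ : Cfsg.IrrCharacter K) (lam : Cfsg.IrrCharacter ↥Q) : ℕ :=
  (exists_classInner_nat (isChar_res (Q := Q) (isCharacter_irr χ)) (isCharacter_irr lam)).choose

theorem classInner_mult [Fintype ↥Q] (χ : Cfsg.IrrCharacter K) (lam : Cfsg.IrrCharacter ↥Q) :
    Cfsg.classInner (res Q (χ : K → ℂ)) lam = mult χ lam :=
  (exists_classInner_nat (isChar_res (Q := Q) (isCharacter_irr χ)) (isCharacter_irr lam)).choose_spec

theorem res_eq_sum [Fintype ↥Q] [Fintype (Cfsg.IrrCharacter ↥Q)] (χ : Cfsg.IrrCharacter K) (y : ↥Q) :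
    (χ : K → ℂ) y = ∑ lam : Cfsg.IrrCharacter ↥Q, (mult χ lam : ℂ) * (lam : ↥Q → ℂ) y := by
  have h := congrFun (classFunction_eq_sum (isClassFunction_of_isCharacter
    (isChar_res (Q := Q) (isCharacter_irr χ)))) y
  rw [Finset.sum_apply] at h
  exact h.trans (Finset.sum_congr rfl fun lam _ => by rw [Pi.smul_apply, classInner_mult, smul_eq_mul])

theorem mult_act [Fintype ↥Q] (χ : Cfsg.IrrCharacter K) (lam : Cfsg.IrrCharacter ↥Q)
    (β : ↥(BN Q a)) : mult χ (act lam β) = mult χ lam := by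
  have h : Cfsg.classInner (res Q (χ : K → ℂ)) (act lam β : ↥Q → ℂ) =
      Cfsg.classInner (res Q (χ : K → ℂ)) lam := by
    simp only [Cfsg.classInner]
    congr 1
    refine Fintype.sum_equiv (cj β).toEquiv _ _ fun y => ?_
    rw [act_apply]
    congr 1
    exact (isClassFunction_irr χ (y : K) (β : K)).symm
  rw [classInner_mult, classInner_mult] at h
  exact_mod_cast h

/-- Induced functions vanishing at the identity, restricted to `Q`. -/
theorem indFun_res [Fintype K] [Fintype ↥Q] [Fintype ↥(BN Q a)] (h : Hyp Q a) {f : ↥Q → ℂ} (hf : f 1 = 0)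
    (y : ↥Q) : Cfsg.indFun Q f (y : K) = ∑ β : ↥(BN Q a), f (cj β y) := by
  classical
  haveI := h.trans
  by_cases hy : y = 1
  · subst hy
    rw [Cfsg.indFun, Finset.sum_eq_zero, mul_zero, Finset.sum_eq_zero]
    · intro β _; rw [map_one, hf]
    · intro x _
      rw [show x⁻¹ * ((1 : ↥Q) : K) * x = ((1 : ↥Q) : K) by simp, extendByZero_coe, hf]
  let e : ↥Q × ↥(BN Q a) → K := fun p => (p.1 : K) * (p.2 : K)⁻¹
  have hinj : Function.Injective e := by
    rintro ⟨u, β⟩ ⟨u', β'⟩ he
    simp only [e] at he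
    have h1 : ∀ γ : ↥(BN Q a), (γ : K)⁻¹ • a = a := fun γ =>
      mem_stabilizer_iff.mp (inv_mem (Subgroup.mem_inf.mp γ.2).1)
    have h2 : (u : K) • a = (u' : K) • a := by
      have := congrArg (· • a) he
      simp only [mul_smul, h1] at this
      exact this
    have h3 := h.free _ (mul_mem (inv_mem u'.2) u.2) a (by rw [mul_smul, h2, inv_smul_smul])
    have hu : u = u' := Subtype.ext (inv_mul_eq_one.mp h3).symm
    subst hu
    exact Prod.ext rfl (Subtype.ext (inv_injective (mul_left_cancel he)))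
  rw [Cfsg.indFun]
  have hsum : ∑ x : K, Cfsg.extendByZero Q f (x⁻¹ * y * x) =
      ∑ p : ↥Q × ↥(BN Q a), f (cj p.2 y) := by
    refine (Finset.sum_of_injOn e hinj.injOn (fun p _ => Finset.mem_univ _) (fun x _ hx => ?_) fun p _ => ?_).symm
    · by_contra hne
      have hxQ : x⁻¹ * y * x ∈ Q := by
        by_contra hc
        exact hne (extendByZero_of_not_mem _ _ hc)
      have hxN := h.ti x y y.2 (fun h1 => hy (Subtype.ext h1)) hxQ
      obtain ⟨u, hu⟩ := exists_smul_eq ↥Q a (x • a)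
      have hu' : (u : K) • a = x • a := hu
      have hβ : x⁻¹ * (u : K) ∈ BN Q a :=
        ⟨mem_stabilizer_iff.mpr (by rw [mul_smul, hu', inv_smul_smul]),
          mul_mem ((Subgroup.normalizer (Q : Set K)).inv_mem hxN) (Subgroup.le_normalizer u.2)⟩
      refine hx ⟨(u, ⟨_, hβ⟩), Finset.mem_coe.mpr (Finset.mem_univ _), ?_⟩
      simp only [e, mul_inv_rev, inv_inv, mul_inv_cancel_left]
    · have he : (e p)⁻¹ * (y : K) * e p = ((cj p.2 y : ↥Q) : K) := by
        show ((p.1 : K) * (p.2 : K)⁻¹)⁻¹ * y * ((p.1 : K) * (p.2 : K)⁻¹) = (p.2 : K) * y * (p.2 : K)⁻¹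
        calc _ = (p.2 : K) * ((p.1 : K)⁻¹ * ((y : K) * p.1)) * (p.2 : K)⁻¹ := by group
          _ = (p.2 : K) * ((p.1 : K)⁻¹ * ((p.1 : K) * y)) * (p.2 : K)⁻¹ := by rw [h.comm _ y.2 _ p.1.2]
          _ = _ := by group
      rw [he, extendByZero_coe]
  rw [hsum, Fintype.sum_prod_type]
  dsimp only
  rw [Finset.sum_const, Finset.card_univ, nsmul_eq_mul, ← mul_assoc,
    ← Nat.card_eq_fintype_card, inv_mul_cancel₀ (subgroup_card_ne_zero Q), one_mul]

/-- Parseval for a function induced from `Q`. -/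
theorem parseval [Fintype K] [Fintype ↥Q] [Fintype ↥(BN Q a)] [Fintype (Cfsg.IrrCharacter K)] (h : Hyp Q a)
    (lam mu : Cfsg.IrrCharacter ↥Q) :
    ((∑ χ : Cfsg.IrrCharacter K, ((mult χ lam : ℤ) - mult χ mu) ^ 2 : ℤ) : ℂ) =
      ∑ β : ↥(BN Q a), Cfsg.classInner ((lam : ↥Q → ℂ) - (mu : ↥Q → ℂ)) ((act lam β : ↥Q → ℂ) - (act mu β : ↥Q → ℂ)) := by
  classical
  let f : ↥Q → ℂ := (lam : ↥Q → ℂ) - mu
  have hf : f 1 = 0 := by simp [f, lin_one h]
  have hcl := isClassFunction_indFun Q f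
  have hcoef : ∀ χ : Cfsg.IrrCharacter K,
      Cfsg.classInner (Cfsg.indFun Q f) χ = (((mult χ lam : ℤ) - mult χ mu : ℤ) : ℂ) := by
    intro χ
    rw [frobenius_reciprocity Q f (isClassFunction_irr χ), ← classInner_conj_symm]
    show conj (Cfsg.classInner (res Q (χ : K → ℂ)) ((lam : ↥Q → ℂ) - mu)) = _
    rw [classInner_sub_right, classInner_mult, classInner_mult]
    simp
  have h1 : Cfsg.classInner (Cfsg.indFun Q f) (Cfsg.indFun Q f) =
      ((∑ χ : Cfsg.IrrCharacter K, ((mult χ lam : ℤ) - mult χ mu) ^ 2 : ℤ) : ℂ) := by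
    conv_lhs => arg 1; rw [classFunction_eq_sum hcl]
    rw [classInner_sum_left]
    push_cast
    refine Finset.sum_congr rfl fun χ _ => ?_
    rw [classInner_smul_left, ← classInner_conj_symm (Cfsg.indFun Q f) (χ : K → ℂ), hcoef, map_intCast, sq]
    push_cast
    ring
  rw [← h1, frobenius_reciprocity Q f hcl]
  have h2 : (fun y : ↥Q => Cfsg.indFun Q f (y : K)) =
      ∑ β : ↥(BN Q a), ((act lam β : ↥Q → ℂ) - act mu β) := funext fun y => by
    rw [indFun_res h hf, Finset.sum_apply]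
    rfl
  rw [h2, classInner_sum_right]

theorem card_irr (h : Hyp Q a) : Nat.card (Cfsg.IrrCharacter ↥Q) = Nat.card Ω := by
  rw [card_irr_eq_card_conjClasses, ← card_Q h]
  refine (Nat.card_congr (Equiv.ofBijective ConjClasses.mk ⟨fun x y hxy => ?_, ConjClasses.mk_surjective⟩)).symm
  obtain ⟨c, hc⟩ := isConj_iff.mp (ConjClasses.mk_eq_mk_iff_isConj.mp hxy)
  have hcomm : c * x = x * c := Subtype.ext (h.comm c c.2 x x.2)
  rw [hcomm, mul_inv_cancel_right] at hc
  exact hc

/-- The conjugates of a nontrivial character form an orbit. -/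
def SameOrbit (a : Ω) (lam mu : Cfsg.IrrCharacter ↥Q) : Prop := ∃ β : ↥(BN Q a), act lam β = mu

theorem parseval_pair [Fintype K] [Fintype ↥Q] [Fintype (Cfsg.IrrCharacter K)] (h : Hyp Q a)
    {lam mu : Cfsg.IrrCharacter ↥Q} (hlam : lam ≠ oneChar ↥Q) (hmu : mu ≠ oneChar ↥Q)
    (hne : ¬ SameOrbit a lam mu) :
    ∑ χ : Cfsg.IrrCharacter K, ((mult χ lam : ℤ) - mult χ mu) ^ 2 = 2 := by
  classical
  haveI := Fintype.ofFinite ↥(BN Q a)
  have key := parseval h lam mu
  have hterm : ∀ β : ↥(BN Q a), Cfsg.classInner ((lam : ↥Q → ℂ) - (mu : ↥Q → ℂ)) ((act lam β : ↥Q → ℂ) - (act mu β : ↥Q → ℂ)) =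
      if β = 1 then (2 : ℂ) else 0 := by
    intro β
    rw [classInner_sub_left, classInner_sub_right, classInner_sub_right, classInner_irr, classInner_irr,
      classInner_irr, classInner_irr]
    have n1 : lam ≠ act mu β := fun he => hne ⟨β⁻¹, by rw [he, act_mul, mul_inv_cancel, act_one]⟩
    have n2 : mu ≠ act lam β := fun he => hne ⟨β, he.symm⟩
    rw [if_neg n1, if_neg n2]
    by_cases hβ : β = 1
    · subst hβ
      rw [if_pos (act_one lam).symm, if_pos (act_one mu).symm, if_pos rfl]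
      norm_num
    · have n3 : lam ≠ act lam β := fun he => hβ (act_free h hlam (β := β) (γ := 1) (by rw [act_one, ← he]))
      have n4 : mu ≠ act mu β := fun he => hβ (act_free h hmu (β := β) (γ := 1) (by rw [act_one, ← he]))
      rw [if_neg n3, if_neg n4, if_neg hβ]
      norm_num
  rw [Finset.sum_congr rfl fun β _ => hterm β, Finset.sum_ite_eq', if_pos (Finset.mem_univ _)] at key
  exact_mod_cast key

theorem parseval_one [Fintype K] [Fintype ↥Q] [Fintype (Cfsg.IrrCharacter K)] (h : Hyp Q a)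
    {lam : Cfsg.IrrCharacter ↥Q} (hlam : lam ≠ oneChar ↥Q) :
    ∑ χ : Cfsg.IrrCharacter K, ((mult χ (oneChar ↥Q) : ℤ) - mult χ lam) ^ 2 = Nat.card ↥(BN Q a) + 1 := by
  classical
  haveI := Fintype.ofFinite ↥(BN Q a)
  have key := parseval h (oneChar ↥Q) lam
  have hterm : ∀ β : ↥(BN Q a), Cfsg.classInner ((oneChar ↥Q : ↥Q → ℂ) - (lam : ↥Q → ℂ))
      ((act (oneChar ↥Q) β : ↥Q → ℂ) - (act lam β : ↥Q → ℂ)) = 1 + if β = 1 then (1 : ℂ) else 0 := by
    intro β
    rw [classInner_sub_left, classInner_sub_right, classInner_sub_right, classInner_irr, classInner_irr,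
      classInner_irr, classInner_irr, act_trivial]
    have n1 : oneChar ↥Q ≠ act lam β := fun he => hlam (by
      calc lam = act (act lam β) β⁻¹ := by rw [act_mul, mul_inv_cancel, act_one]
        _ = oneChar ↥Q := by rw [← he, act_trivial])
    rw [if_neg n1, if_neg hlam, if_pos rfl]
    by_cases hβ : β = 1
    · subst hβ
      rw [if_pos (act_one lam).symm, if_pos rfl]
      norm_num
    · have n3 : lam ≠ act lam β := fun he => hβ (act_free h hlam (β := β) (γ := 1) (by rw [act_one, ← he]))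
      rw [if_neg n3, if_neg hβ]
      norm_num
  rw [Finset.sum_congr rfl fun β _ => hterm β, Finset.sum_add_distrib, Finset.sum_ite_eq',
    if_pos (Finset.mem_univ _), Finset.sum_const, Finset.card_univ, nsmul_eq_mul, mul_one,
    ← Nat.card_eq_fintype_card] at key
  exact_mod_cast key

/-- An irreducible character of degree-valued restriction to `Q`, when `Q` generates `K` normally. -/
theorem eq_one_of_trivial [Fintype K] (hclos : Subgroup.normalClosure (Q : Set K) = ⊤)
    (χ : Cfsg.IrrCharacter K) (hχ : ∀ y : ↥Q, (χ : K → ℂ) y = (χ : K → ℂ) 1) : χ = oneChar K := by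
  have hker := Cfsg.Agent.Lib.Characters.Kernel.charKer_normal (isCharacter_irr χ)
  have htop : Cfsg.Agent.Lib.Characters.Kernel.charKer (isCharacter_irr χ) = ⊤ :=
    top_le_iff.mp (hclos ▸ Subgroup.normalClosure_le_normal fun y hy =>
      (Cfsg.Agent.Lib.Characters.Kernel.mem_charKer _ y).mpr (hχ ⟨y, hy⟩))
  have hconst : ∀ g : K, (χ : K → ℂ) g = (χ : K → ℂ) 1 := fun g =>
    (Cfsg.Agent.Lib.Characters.Kernel.mem_charKer (isCharacter_irr χ) g).mp (htop ▸ Subgroup.mem_top g)
  by_contra hne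
  have h0 := classInner_irr_of_ne hne
  simp only [Cfsg.classInner, hconst, oneChar_apply, map_one, mul_one, Finset.sum_const, Finset.card_univ,
    nsmul_eq_mul, ← Nat.card_eq_fintype_card, ← mul_assoc, inv_mul_cancel₀ natCard_ne_zero, one_mul] at h0
  exact apply_one_ne_zero χ h0

/-- A trivial normaliser in the stabiliser forces `Q` to be everything. -/
theorem eq_top_of_trivial [FaithfulSMul K Ω] (hcomm : ∀ x ∈ Q, ∀ y ∈ Q, x * y = y * x)
    (htr : IsPretransitive ↥Q Ω) (hfree : ∀ x ∈ Q, ∀ ω : Ω, x • ω = ω → x = 1) {q : ℕ} [Fact q.Prime] (P : Sylow q K)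
    (hP : (P : Subgroup K) = Q) (hb : BN Q a = ⊥) : Q = ⊤ := by
  classical
  haveI := htr
  haveI : IsPretransitive K Ω := .mk fun x y => by
    obtain ⟨u, hu⟩ := exists_smul_eq ↥Q x y
    exact ⟨u, hu⟩
  have hN : Subgroup.normalizer (Q : Set K) ≤ Q := by
    intro x hx
    obtain ⟨u, hu⟩ := exists_smul_eq ↥Q a (x • a)
    have hu' : (u : K) • a = x • a := hu
    have hmem : (u : K)⁻¹ * x ∈ BN Q a :=
      ⟨mem_stabilizer_iff.mpr (by rw [mul_smul, ← hu', inv_smul_smul]),
        (Subgroup.normalizer (Q : Set K)).mul_mem ((Subgroup.normalizer (Q : Set K)).inv_mem (Subgroup.le_normalizer u.2)) hx⟩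
    rw [hb, Subgroup.mem_bot, inv_mul_eq_one] at hmem
    exact hmem ▸ u.2
  have hPc : Subgroup.normalizer ((P : Subgroup K) : Set K) ≤ Subgroup.centralizer ((P : Subgroup K) : Set K) := by
    rw [hP]
    exact hN.trans fun x hx => Subgroup.mem_centralizer_iff.mpr fun y hy => hcomm y hy x hx
  let N := (MonoidHom.transferSylow P hPc).ker
  have hcompl : Subgroup.IsComplement' N (P : Subgroup K) := MonoidHom.ker_transferSylow_isComplement' P hPc
  have hcop : (Nat.card ↥N).Coprime (Nat.card Ω) := by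
    rw [← card_of_regular htr hfree a, ← hP]
    obtain ⟨k, hk⟩ := IsPGroup.iff_card.mp P.isPGroup'
    rw [hk]
    exact ((Fact.out : q.Prime).coprime_iff_not_dvd.mpr
      (MonoidHom.not_dvd_card_ker_transferSylow P hPc)).symm.pow_right k
  have hNbot : N = ⊥ := by
    refine (Subgroup.eq_bot_iff_forall N).mpr fun x hx => eq_of_smul_eq_smul fun ω : Ω => ?_
    rw [one_smul]
    have hB : IsBlock K (orbit ↥N ω) := IsBlock.orbit_of_normal ω
    have h1 : (orbit ↥N ω).ncard ∣ Nat.card Ω := hB.ncard_dvd_card ⟨ω, mem_orbit_self ω⟩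
    have h2 : (orbit ↥N ω).ncard ∣ Nat.card ↥N := by
      rw [← index_stabilizer]
      exact Subgroup.index_dvd_card _
    have h3 := Nat.eq_one_of_dvd_coprimes hcop h2 h1
    obtain ⟨ω', hω'⟩ := Set.ncard_eq_one.mp h3
    have e1 : ω ∈ orbit ↥N ω := mem_orbit_self ω
    have e2 : x • ω ∈ orbit ↥N ω := ⟨⟨x, hx⟩, rfl⟩
    rw [hω', Set.mem_singleton_iff] at e1 e2
    rw [e2, e1]
  have := hcompl.sup_eq_top
  rw [hNbot, bot_sup_eq, hP] at this
  exact this

/-- The main statement. -/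
theorem eq_top [FaithfulSMul K Ω] (h : Hyp Q a) {q : ℕ} [Fact q.Prime] (P : Sylow q K)
    (hP : (P : Subgroup K) = Q) (hclos : Subgroup.normalClosure (Q : Set K) = ⊤)
    (hb1 : Nat.card ↥(BN Q a) * (Nat.card ↥(BN Q a) - 1) ≤ Nat.card Ω - 1)
    (hb2 : Nat.card ↥(BN Q a) * (Nat.card ↥(BN Q a) - 1) = Nat.card Ω - 1 → 5 ≤ Nat.card ↥(BN Q a))
    (hno : ¬ IsMultiplyPretransitive K Ω 2) : Q = ⊤ := by
  classical
  haveI := h.trans
  haveI : IsPretransitive K Ω := .mk fun x y => by
    obtain ⟨u, hu⟩ := exists_smul_eq ↥Q x y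
    exact ⟨u, hu⟩
  haveI : Nonempty Ω := ⟨a⟩
  haveI := Fintype.ofFinite K
  haveI := Fintype.ofFinite ↥Q
  haveI := Fintype.ofFinite (Cfsg.IrrCharacter K)
  haveI := Fintype.ofFinite (Cfsg.IrrCharacter ↥Q)
  haveI := Fintype.ofFinite ↥(BN Q a)
  set b := Nat.card ↥(BN Q a) with hb
  have hb0 : 0 < b := Nat.card_pos
  rcases Nat.lt_or_ge (Nat.card Ω) 2 with hn | hn
  · have : Q = ⊥ := Subgroup.card_eq_one.mp (by
      have := card_Q h
      have : 0 < Nat.card Ω := Nat.card_pos
      omega)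
    rw [this] at hclos ⊢
    rwa [Subgroup.normalClosure_eq_self] at hclos
  set o := oneChar ↥Q with ho
  -- the permutation character
  have hπ : Cfsg.IsCharacter K (permChar Ω) := by
    have h1 := isCharacter_permChar_sub_one (G := K) Ω
    have h2 := isCharacter_add h1 (isCharacter_one (G := K))
    convert h2 using 1
    funext g
    simp
  choose c hc using fun χ : Cfsg.IrrCharacter K => exists_classInner_nat hπ (isCharacter_irr χ)
  have hπsum : ∀ g : K, permChar Ω g = ∑ χ : Cfsg.IrrCharacter K, (c χ : ℂ) * (χ : K → ℂ) g := fun g => by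
    conv_lhs => rw [classFunction_eq_sum (isClassFunction_of_isCharacter hπ)]
    rw [Finset.sum_apply]
    exact Finset.sum_congr rfl fun χ _ => by rw [Pi.smul_apply, hc, smul_eq_mul]
  have hπres : ∀ lam : Cfsg.IrrCharacter ↥Q, ∑ χ : Cfsg.IrrCharacter K, c χ * mult χ lam = 1 := by
    intro lam
    have h1 : Cfsg.classInner (res Q (permChar Ω)) (lam : ↥Q → ℂ) = 1 := by
      simp only [Cfsg.classInner]
      rw [Finset.sum_eq_single (1 : ↥Q)]
      · simp only [res, Subgroup.coe_one, lin_one h lam, map_one, mul_one, permChar]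
        have hu : fixedBy Ω (1 : K) = Set.univ := by ext; simp
        rw [hu, Nat.card_univ, card_Q h, inv_mul_cancel₀ (Nat.cast_ne_zero.mpr (by omega))]
      · intro y _ hy
        simp only [res, permChar]
        have : IsEmpty (fixedBy Ω (y : K)) := ⟨fun ω => hy (Subtype.ext (h.free y y.2 ω.1 ω.2))⟩
        rw [Nat.card_of_isEmpty, Nat.cast_zero, zero_mul]
      · intro hcon
        exact absurd (Finset.mem_univ _) hcon
    have h2 : res Q (permChar Ω) = ∑ χ : Cfsg.IrrCharacter K, (c χ : ℂ) • res Q (χ : K → ℂ) := funext fun y => by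
      simp only [res, hπsum, Finset.sum_apply, Pi.smul_apply, smul_eq_mul]
    rw [h2, classInner_sum_left] at h1
    simp only [classInner_smul_left, classInner_mult] at h1
    exact_mod_cast h1
  have mult_one : ∀ lam, mult (oneChar K) lam = if lam = o then 1 else 0 := fun lam => by
    have h1 : Cfsg.classInner (res Q (oneChar K : K → ℂ)) (lam : ↥Q → ℂ) = if o = lam then 1 else 0 :=
      classInner_irr o lam
    rw [classInner_mult] at h1
    by_cases hl : lam = o
    · rw [if_pos hl.symm] at h1; rw [if_pos hl]; exact_mod_cast h1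
    · rw [if_neg (Ne.symm hl)] at h1; rw [if_neg hl]; exact_mod_cast h1
  have hc1 : c (oneChar K) = 1 := by
    have := hc (oneChar K)
    rw [show ((oneChar K : Cfsg.IrrCharacter K) : K → ℂ) = fun _ => 1 from rfl,
      classInner_permChar_one (G := K) Ω] at this
    exact_mod_cast this.symm
  have huniq : ∀ (lam : Cfsg.IrrCharacter ↥Q) (χ χ' : Cfsg.IrrCharacter K), c χ * mult χ lam ≠ 0 → c χ' * mult χ' lam ≠ 0 → χ = χ' ∧ c χ = 1 ∧ mult χ lam = 1 := by
    intro lam χ χ' h1 h2
    have hle : ∀ χ₀, c χ₀ * mult χ₀ lam ≤ 1 := fun χ₀ =>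
      (hπres lam) ▸ Finset.single_le_sum (f := fun x => c x * mult x lam) (fun _ _ => Nat.zero_le _) (Finset.mem_univ χ₀)
    refine ⟨?_, ?_⟩
    · by_contra hne
      have := Finset.sum_le_sum_of_subset (f := fun x => c x * mult x lam)
        (Finset.subset_univ {χ, χ'})
      rw [Finset.sum_pair hne, hπres] at this
      omega
    · have : c χ * mult χ lam = 1 := by have := hle χ; omega
      exact ⟨Nat.eq_one_of_mul_eq_one_right this, Nat.eq_one_of_mul_eq_one_left this⟩
  have hex : ∀ lam, ∃ χ, c χ * mult χ lam ≠ 0 := fun lam => by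
    by_contra hcon
    push Not at hcon
    have := hπres lam
    rw [Finset.sum_eq_zero fun χ _ => hcon χ] at this
    exact zero_ne_one this
  choose θ hθ using hex
  have hθc : ∀ lam, c (θ lam) = 1 := fun lam => (huniq lam _ _ (hθ lam) (hθ lam)).2.1
  have hθm : ∀ lam, mult (θ lam) lam = 1 := fun lam => (huniq lam _ _ (hθ lam) (hθ lam)).2.2
  have hθ0 : ∀ lam mu, θ lam ≠ θ mu → mult (θ lam) mu = 0 := by
    intro lam mu hne
    by_contra h0
    exact hne (huniq mu (θ lam) (θ mu) (by rw [hθc, one_mul]; exact h0) (hθ mu)).1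
  have hθone : θ o = oneChar K :=
    (huniq o _ _ (hθ o) (by rw [hc1, mult_one, if_pos rfl]; norm_num)).1
  have hθne : ∀ lam, lam ≠ o → θ lam ≠ oneChar K := fun lam hl he => by
    have := hθm lam
    rw [he, mult_one, if_neg hl] at this
    exact zero_ne_one this
  have hθo : ∀ lam, lam ≠ o → mult (θ lam) o = 0 := fun lam hl =>
    hθ0 lam o (hθone ▸ hθne lam hl)
  have hθorb : ∀ lam mu, SameOrbit a lam mu → θ lam = θ mu := by
    rintro lam _ ⟨β, rfl⟩
    by_contra hne
    have := hθ0 lam _ hne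
    rw [mult_act, hθm] at this
    exact one_ne_zero this
  -- a nontrivial character
  obtain ⟨lam₀, hlam₀⟩ : ∃ lam, lam ≠ o := by
    have := card_irr h
    haveI : Nontrivial (Cfsg.IrrCharacter ↥Q) := Finite.one_lt_card_iff_nontrivial.mp (by omega)
    exact exists_ne o
  -- not all nontrivial characters in one constituent
  obtain ⟨mu₀, hmu₀, hdiff⟩ : ∃ mu, mu ≠ o ∧ θ mu ≠ θ lam₀ := by
    by_contra hcon
    push Not at hcon
    refine hno ((isIrrCharacter_iff (G := K) Ω hn).mp ?_)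
    have hothers : ∀ χ, χ ≠ oneChar K → χ ≠ θ lam₀ → c χ = 0 := by
      intro χ h1 h2
      by_contra hc0
      obtain ⟨nu, hnu⟩ : ∃ nu : Cfsg.IrrCharacter ↥Q, mult χ nu ≠ 0 := by
        by_contra hall
        push Not at hall
        have := res_eq_sum χ (1 : ↥Q)
        simp only [hall, Nat.cast_zero, zero_mul, Finset.sum_const_zero, Subgroup.coe_one] at this
        exact apply_one_ne_zero χ this
      have h3 := (huniq nu χ (θ nu) (mul_ne_zero hc0 hnu) (hθ nu)).1
      by_cases hno' : nu = o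
      · exact h1 (by rw [h3, hno', hθone])
      · exact h2 (by rw [h3, hcon nu hno'])
    have heq : (fun g => permChar Ω g - 1) = ((θ lam₀ : Cfsg.IrrCharacter K) : K → ℂ) := funext fun g => by
      rw [hπsum, ← Finset.sum_subset (Finset.subset_univ {oneChar K, θ lam₀}) (fun χ _ hχ => by
        simp only [Finset.mem_insert, Finset.mem_singleton, not_or] at hχ
        rw [hothers χ hχ.1 hχ.2]; simp),
        Finset.sum_pair (fun he => hθne lam₀ hlam₀ he.symm), hc1, hθc, oneChar_apply]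
      simp
    exact heq ▸ (θ lam₀).2
  -- constituents and orbits correspond
  have hpair : ∀ lam mu, lam ≠ o → mu ≠ o → θ lam ≠ θ mu → ∀ χ, χ ≠ θ lam → χ ≠ θ mu →
      mult χ lam = mult χ mu := by
    intro lam mu hl hm hne χ h1 h2
    have hs := parseval_pair h hl hm (fun ho => hne (hθorb _ _ ho))
    rw [← Finset.add_sum_erase _ _ (Finset.mem_univ (θ lam)),
      ← Finset.add_sum_erase _ _ (Finset.mem_erase.mpr ⟨hne.symm, Finset.mem_univ (θ mu)⟩),
      hθm lam, hθ0 lam mu hne, hθ0 mu lam hne.symm, hθm mu] at hs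
    norm_num at hs
    have := (Finset.sum_eq_zero_iff_of_nonneg (f := fun x : Cfsg.IrrCharacter K => ((mult x lam : ℤ) - mult x mu) ^ 2)
      (s := (Finset.univ.erase (θ lam)).erase (θ mu)) (fun x _ => sq_nonneg _)).mp (by linarith) χ
      (Finset.mem_erase.mpr ⟨h2, Finset.mem_erase.mpr ⟨h1, Finset.mem_univ _⟩⟩)
    rw [sq_eq_zero_iff, sub_eq_zero] at this
    exact_mod_cast this
  have hbij : ∀ lam mu, lam ≠ o → mu ≠ o → θ lam = θ mu → SameOrbit a lam mu := by
    intro lam mu hl hm he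
    by_contra hne
    obtain ⟨nu, hnu, hnu'⟩ : ∃ nu, nu ≠ o ∧ θ nu ≠ θ lam := by
      by_cases hcase : θ lam₀ = θ lam
      · exact ⟨mu₀, hmu₀, hcase ▸ hdiff⟩
      · exact ⟨lam₀, hlam₀, hcase⟩
    have hs := parseval_pair h hl hm hne
    rw [Finset.sum_eq_zero] at hs
    · norm_num at hs
    intro χ _
    rw [sq_eq_zero_iff, sub_eq_zero, Nat.cast_inj]
    by_cases h1 : χ = θ lam
    · subst h1; rw [hθm, he, hθm]
    · by_cases h2 : χ = θ nu
      · subst h2; rw [hθ0 nu lam hnu', hθ0 nu mu (he ▸ hnu')]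
      · rw [hpair lam nu hl hnu hnu'.symm χ h1 h2, hpair mu nu hm hnu (he ▸ hnu'.symm) χ (he ▸ h1) h2]
  -- the restriction of the constituent at `lam₀`
  have hres : ∀ y : ↥Q, ((θ lam₀ : Cfsg.IrrCharacter K) : K → ℂ) y =
      ∑ β : ↥(BN Q a), (act lam₀ β : ↥Q → ℂ) y := by
    intro y
    rw [res_eq_sum, ← Finset.sum_image (f := fun nu : Cfsg.IrrCharacter ↥Q => (nu : ↥Q → ℂ) y)
      (g := fun β : ↥(BN Q a) => act lam₀ β) (s := Finset.univ)
      (fun β _ γ _ he => act_free h hlam₀ he)]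
    rw [← Finset.sum_subset (Finset.subset_univ (Finset.univ.image fun β : ↥(BN Q a) => act lam₀ β))]
    · refine Finset.sum_congr rfl fun nu hnu => ?_
      obtain ⟨β, -, rfl⟩ := Finset.mem_image.mp hnu
      rw [mult_act, hθm, Nat.cast_one, one_mul]
    · intro nu _ hnu
      have : mult (θ lam₀) nu = 0 := by
        by_cases hnuo : nu = o
        · rw [hnuo]; exact hθo lam₀ hlam₀
        · refine hθ0 lam₀ nu fun he => hnu ?_
          obtain ⟨β, hβ⟩ := hbij lam₀ nu hlam₀ hnuo he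
          exact Finset.mem_image.mpr ⟨β, Finset.mem_univ _, hβ⟩
      rw [this, Nat.cast_zero, zero_mul]
  -- the products of pairs of conjugates
  have hprodirr : ∀ p : ↥(BN Q a) × ↥(BN Q a), Cfsg.IsIrrCharacter ↥Q
      (fun y => (act lam₀ p.1 : ↥Q → ℂ) y * conj ((act lam₀ p.2 : ↥Q → ℂ) y)) := fun p =>
    isIrrCharacter_of_degree_one
      (isCharacter_mul (isCharacter_irr (act lam₀ p.1)) (isCharacter_conj (isCharacter_irr (act lam₀ p.2))))
      (by simp [lin_one h])
  let pr : ↥(BN Q a) × ↥(BN Q a) → Cfsg.IrrCharacter ↥Q := fun p => ⟨_, hprodirr p⟩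
  have hpro : ∀ p, pr p = o ↔ p.1 = p.2 := by
    intro p
    have hunit : ∀ (nu : Cfsg.IrrCharacter ↥Q) y, (nu : ↥Q → ℂ) y * conj ((nu : ↥Q → ℂ) y) = 1 := fun nu y => by
      rw [← apply_inv (isCharacter_irr nu), ← lin_mul h, mul_inv_cancel, lin_one h]
    constructor
    · intro he
      refine act_free h hlam₀ (Subtype.ext (funext fun y => ?_))
      have h1 : (act lam₀ p.1 : ↥Q → ℂ) y * conj ((act lam₀ p.2 : ↥Q → ℂ) y) = 1 :=
        congrFun (congrArg Subtype.val he) y
      calc (act lam₀ p.1 : ↥Q → ℂ) y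
          = (act lam₀ p.1 : ↥Q → ℂ) y * ((act lam₀ p.2 : ↥Q → ℂ) y * conj ((act lam₀ p.2 : ↥Q → ℂ) y)) := by
            rw [hunit, mul_one]
        _ = ((act lam₀ p.1 : ↥Q → ℂ) y * conj ((act lam₀ p.2 : ↥Q → ℂ) y)) * (act lam₀ p.2 : ↥Q → ℂ) y := by ring
        _ = _ := by rw [h1, one_mul]
    · intro he
      refine Subtype.ext (funext fun y => ?_)
      show (act lam₀ p.1 : ↥Q → ℂ) y * conj ((act lam₀ p.2 : ↥Q → ℂ) y) = 1
      rw [he, hunit]
  let cnt : Cfsg.IrrCharacter ↥Q → ℕ := fun nu => (Finset.univ.filter fun p => pr p = nu).card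
  -- the character `θ · conj θ`
  let W : K → ℂ := fun g => ((θ lam₀ : Cfsg.IrrCharacter K) : K → ℂ) g * conj (((θ lam₀ : Cfsg.IrrCharacter K) : K → ℂ) g)
  have hW : Cfsg.IsCharacter K W :=
    isCharacter_mul (isCharacter_irr _) (isCharacter_conj (isCharacter_irr _))
  choose d hd using fun χ : Cfsg.IrrCharacter K => exists_classInner_nat hW (isCharacter_irr χ)
  have hcnt : ∀ nu, cnt nu = ∑ χ : Cfsg.IrrCharacter K, d χ * mult χ nu := by
    intro nu
    have h1 : res Q W = ∑ p : ↥(BN Q a) × ↥(BN Q a), (pr p : ↥Q → ℂ) := funext fun y => by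
      rw [Finset.sum_apply, Fintype.sum_prod_type]
      show W y = _
      simp only [W, hres, map_sum, Finset.sum_mul, Finset.mul_sum]
      rw [Finset.sum_comm]
    have h2 : Cfsg.classInner (res Q W) (nu : ↥Q → ℂ) = cnt nu := by
      rw [h1, classInner_sum_left]
      simp only [classInner_irr, Finset.sum_boole, cnt]
    have h3 : res Q W = ∑ χ : Cfsg.IrrCharacter K, (d χ : ℂ) • res Q (χ : K → ℂ) := funext fun y => by
      show W y = _
      conv_lhs => rw [classFunction_eq_sum (isClassFunction_of_isCharacter hW)]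
      simp only [Finset.sum_apply, Pi.smul_apply, hd, res, smul_eq_mul]
    rw [h3, classInner_sum_left] at h2
    simp only [classInner_smul_left, classInner_mult] at h2
    exact_mod_cast h2.symm
  have hd1 : d (oneChar K) = 1 := by
    have h1 : Cfsg.classInner W (oneChar K : K → ℂ) =
        Cfsg.classInner ((θ lam₀ : Cfsg.IrrCharacter K) : K → ℂ) (θ lam₀) := by
      simp only [Cfsg.classInner, W, oneChar_apply, map_one, mul_one]
    rw [hd, classInner_self_irr] at h1
    exact_mod_cast h1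
  have hcnto : cnt o = b := by
    have : (Finset.univ.filter fun p => pr p = o) =
        (Finset.univ : Finset ↥(BN Q a)).image (fun β => (β, β)) := by
      ext p
      simp only [Finset.mem_filter, Finset.mem_univ, true_and, Finset.mem_image, hpro]
      exact ⟨fun he => ⟨p.1, Prod.ext rfl he⟩, fun ⟨β, hβ⟩ => hβ ▸ rfl⟩
    simp only [cnt, this]
    rw [Finset.card_image_of_injective _ (fun x y hxy => congrArg Prod.fst hxy :
      Function.Injective fun β : ↥(BN Q a) => (β, β)), Finset.card_univ, ← Nat.card_eq_fintype_card]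
  -- constituents outside the orbit ones are constant
  have hconst : ∀ χ, (∀ nu, nu ≠ o → χ ≠ θ nu) → ∀ nu mu, nu ≠ o → mu ≠ o → mult χ nu = mult χ mu := by
    intro χ hχ nu mu hn' hm
    by_cases he : θ nu = θ mu
    · obtain ⟨β, rfl⟩ := hbij nu mu hn' hm he
      exact (mult_act χ nu β).symm
    · exact hpair nu mu hn' hm he χ (hχ nu hn') (hχ mu hm)
  have hkill : ∀ χ, (∀ nu, nu ≠ o → mult χ nu = 0) → χ = oneChar K := by
    intro χ hall
    have hval : ∀ y : ↥Q, (χ : K → ℂ) y = mult χ o := fun y => by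
      rw [res_eq_sum, Finset.sum_eq_single o (fun nu _ hne => by rw [hall nu hne]; simp)
        (fun hh => absurd (Finset.mem_univ o) hh), ho, oneChar_apply, mul_one]
    refine eq_one_of_trivial hclos χ fun y => ?_
    rw [hval]
    exact (hval 1).symm
  by_cases hzero : ∃ nu, nu ≠ o ∧ cnt nu = 0
  · obtain ⟨nu, hnu, hnu0⟩ := hzero
    rw [hcnt, Finset.sum_eq_zero_iff] at hnu0
    have hb1' : b = 1 := by
      rw [← hcnto, hcnt, Finset.sum_eq_single (oneChar K)]
      · rw [hd1, mult_one, if_pos rfl]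
      · intro χ _ hne
        by_contra hne0
        have hd0 : d χ ≠ 0 := fun h0 => hne0 (by rw [h0, zero_mul])
        have hnu' : mult χ nu = 0 := by
          rcases Nat.mul_eq_zero.mp (hnu0 χ (Finset.mem_univ _)) with h0 | h0
          · exact absurd h0 hd0
          · exact h0
        by_cases hexc : ∀ mu, mu ≠ o → χ ≠ θ mu
        · exact hne (hkill χ fun mu hmu => (hconst χ hexc mu nu hmu hnu).trans hnu')
        · push Not at hexc
          obtain ⟨mu, hmu, rfl⟩ := hexc
          exact hne0 (by rw [hθo mu hmu, mul_zero])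
      · intro hh; exact absurd (Finset.mem_univ _) hh
    exact eq_top_of_trivial h.comm h.trans h.free P hP (Subgroup.card_eq_one.mp hb1')
  · exfalso
    push Not at hzero
    let T : Finset (Cfsg.IrrCharacter ↥Q) := Finset.univ.erase o
    have hsum : ∑ nu ∈ T, cnt nu = b * b - b := by
      have h1 : ∑ nu : Cfsg.IrrCharacter ↥Q, cnt nu = b * b := by
        rw [← Finset.card_eq_sum_card_fiberwise (fun p _ => Finset.mem_univ (pr p)), Finset.card_univ,
          Fintype.card_prod, ← Nat.card_eq_fintype_card]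
      have h2 := Finset.add_sum_erase (Finset.univ : Finset (Cfsg.IrrCharacter ↥Q)) cnt (Finset.mem_univ o)
      rw [h1, hcnto] at h2
      show ∑ nu ∈ Finset.univ.erase o, cnt nu = b * b - b
      omega
    have hcardT : T.card = Nat.card Ω - 1 := by
      rw [Finset.card_erase_of_mem (Finset.mem_univ o), Finset.card_univ, ← Nat.card_eq_fintype_card, card_irr h]
    have hge : ∀ nu ∈ T, 1 ≤ cnt nu := fun nu hnu =>
      Nat.one_le_iff_ne_zero.mpr (hzero nu (Finset.mem_erase.mp hnu).1)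
    have hle : T.card ≤ ∑ nu ∈ T, cnt nu := by
      rw [Finset.card_eq_sum_ones]; exact Finset.sum_le_sum hge
    have hmulb : b * (b - 1) = b * b - b := by rw [Nat.mul_sub, mul_one]
    have heq : b * (b - 1) = Nat.card Ω - 1 := by omega
    have hb5 := hb2 heq
    have hall1 : ∀ nu, nu ≠ o → cnt nu = 1 := by
      intro nu hnu
      have hmem : nu ∈ T := Finset.mem_erase.mpr ⟨hnu, Finset.mem_univ _⟩
      by_contra hne
      have : T.card < ∑ nu ∈ T, cnt nu := by
        rw [Finset.card_eq_sum_ones]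
        exact Finset.sum_lt_sum hge ⟨nu, hmem, lt_of_le_of_ne (hge nu hmem) (Ne.symm hne)⟩
      omega
    have hsumo : ∑ χ ∈ Finset.univ.erase (oneChar K), d χ * mult χ o = b - 1 := by
      have h2 := Finset.add_sum_erase (Finset.univ : Finset (Cfsg.IrrCharacter K))
        (fun χ => d χ * mult χ o) (Finset.mem_univ (oneChar K))
      simp only [hd1, mult_one, if_pos, mul_one] at h2
      have h3 : cnt o = ∑ χ : Cfsg.IrrCharacter K, d χ * mult χ o := hcnt o
      rw [hcnto] at h3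
      omega
    have hfine : ∀ χ, χ ≠ oneChar K → d χ * mult χ o ≠ 0 → d χ * mult χ lam₀ ≥ 1 ∧ mult χ lam₀ ≥ 1 := by
      intro χ hne h0
      have hd0 : d χ ≠ 0 := fun e => h0 (by rw [e, zero_mul])
      by_cases hexc : ∀ mu, mu ≠ o → χ ≠ θ mu
      · have hpos : mult χ lam₀ ≠ 0 := fun e =>
          hne (hkill χ fun mu hmu => (hconst χ hexc mu lam₀ hmu hlam₀).trans e)
        exact ⟨Nat.one_le_iff_ne_zero.mpr (mul_ne_zero hd0 hpos), Nat.one_le_iff_ne_zero.mpr hpos⟩
      · push Not at hexc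
        obtain ⟨mu, hmu, rfl⟩ := hexc
        exact absurd (by rw [hθo mu hmu, mul_zero]) h0
    obtain ⟨χ, hχne, hχ0⟩ : ∃ χ, χ ≠ oneChar K ∧ d χ * mult χ o ≠ 0 := by
      by_contra hcon
      push Not at hcon
      rw [Finset.sum_eq_zero fun χ hχ => hcon χ (Finset.mem_erase.mp hχ).1] at hsumo
      omega
    have hle1 : ∀ χ', d χ' * mult χ' lam₀ ≤ 1 := fun χ' => by
      rw [← hall1 lam₀ hlam₀, hcnt]
      exact Finset.single_le_sum (f := fun x => d x * mult x lam₀) (fun _ _ => Nat.zero_le _) (Finset.mem_univ χ')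
    have hdk := le_antisymm (hle1 χ) (hfine χ hχne hχ0).1
    have hd_one := Nat.eq_one_of_mul_eq_one_right hdk
    have hk := Nat.eq_one_of_mul_eq_one_left hdk
    have honly : ∀ χ' ∈ Finset.univ.erase (oneChar K), χ' ≠ χ → d χ' * mult χ' o = 0 := by
      intro χ' hχ' hne'
      by_contra h0
      have h1 := (hfine χ' (Finset.mem_erase.mp hχ').1 h0).1
      have h2 := Finset.sum_le_sum_of_subset (f := fun x => d x * mult x lam₀) (Finset.subset_univ {χ, χ'})
      rw [Finset.sum_pair (Ne.symm hne'), ← hcnt, hall1 lam₀ hlam₀, hd_one, hk] at h2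
      omega
    rw [Finset.sum_eq_single_of_mem χ (Finset.mem_erase.mpr ⟨hχne, Finset.mem_univ _⟩) honly,
      hd_one, one_mul] at hsumo
    have hp1 := parseval_one h hlam₀
    have h2 := Finset.sum_le_sum_of_subset_of_nonneg (f := fun x : Cfsg.IrrCharacter K =>
        ((mult x (oneChar ↥Q) : ℤ) - mult x lam₀) ^ 2) (Finset.subset_univ {oneChar K, χ})
      (fun x _ _ => sq_nonneg _)
    rw [hp1, Finset.sum_pair (Ne.symm hχne), ← ho, hk, hsumo, mult_one, mult_one, if_pos rfl, if_neg hlam₀,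
      Nat.cast_sub (by omega), ← hb] at h2
    norm_num at h2
    have h5 : (5 : ℤ) ≤ b := by exact_mod_cast hb5
    nlinarith

end Cfsg.Agent.Lib.DerangeIndex3.TI
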