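import Cfsg.Agent.Lib.DerangeIndex3.Prime
import Cfsg.Agent.Lib.DerangeIndex3.TI
import Cfsg.Agent.Lib.DerangeIndex3.LinearSharp

/-!
# The affine case: a regular Sylow subgroup of the derangement subgroup
-/

set_option linter.style.haveILetI false
set_option linter.unusedSectionVars false

namespace Cfsg.Agent.Lib.DerangeIndex3.Affine

open MulAction
open Cfsg.Agent.Lib.DerangeIndex3.Setup

universe u v

variable {G : Type u} [Group G] [Finite G] {Ω : Type v} [MulAction G Ω] [Finite Ω]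
  {q : ℕ} [Fact q.Prime] {D Q : Subgroup G}

/-- The regular Sylow subgroup. -/
structure Reg (q : ℕ) (D Q : Subgroup G) (a : Ω) : Prop where
  le : Q ≤ D
  pgroup : IsPGroup q ↥Q
  card : Nat.card ↥Q = Nat.card Ω
  trans : IsPretransitive ↥Q Ω
  free : ∀ x ∈ Q, ∀ ω : Ω, x • ω = ω → x = 1
  cover : Cover D (Subgroup.normalizer (Q : Set G))
  cop : ¬ q ∣ Nat.card ↥(D ⊓ stabilizer G a)

variable {a : Ω}

theorem Reg.exists_smul (r : Reg q D Q a) (x : Ω) : ∃ u ∈ Q, u • a = x := by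
  haveI := r.trans
  obtain ⟨u, hu⟩ := exists_smul_eq ↥Q a x
  exact ⟨u, u.2, hu⟩

theorem Reg.relIndex_eq (r : Reg q D Q a) (h : Hyp D Ω) :
    Q.relIndex D = Nat.card ↥(D ⊓ stabilizer G a) := by
  refine Nat.eq_of_mul_eq_mul_right (Nat.card_pos (α := ↥Q)) ?_
  rw [Setup.relIndex_mul_card' r.le, r.card, Prime.card_stab_mul h a]

theorem Reg.sylow (r : Reg q D Q a) (h : Hyp D Ω) {H : Subgroup G} (h1 : Q ≤ H) (h2 : H ≤ D) :
    ∃ P : Sylow q ↥H, (P : Subgroup ↥H) = Q.subgroupOf H := by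
  have hp : IsPGroup q ↥(Q.subgroupOf H) := r.pgroup.of_equiv (Subgroup.subgroupOfEquivOfLe h1).symm
  have hi : ¬ q ∣ (Q.subgroupOf H).index := fun hd => r.cop (by
    rw [← r.relIndex_eq h, ← Subgroup.relIndex_mul_relIndex Q H D h1 h2]
    exact hd.mul_right _)
  exact ⟨hp.toSylow hi, rfl⟩

theorem Reg.isSylowIn (r : Reg q D Q a) (h : Hyp D Ω) {H : Subgroup G} (h1 : Q ≤ H) (h2 : H ≤ D) :
    Prime.IsSylowIn q H Q := by
  obtain ⟨P, hP⟩ := r.sylow h h1 h2
  refine ⟨h1, ?_⟩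
  have := P.card_eq_multiplicity
  rwa [hP, Nat.card_congr (Subgroup.subgroupOfEquivOfLe h1).toEquiv] at this

/-- In the semiregular case the regular Sylow subgroup is normal in `D`. -/
theorem normal_of_semi [FaithfulSMul G Ω] (r : Reg q D Q a) (h : Hyp D Ω) (hD : D ≠ ⊤)
    (hcomm : ∀ x ∈ Q, ∀ y ∈ Q, x * y = y * x)
    (hsemi : ∀ b ∈ D, b • a = a → b ∈ Subgroup.normalizer (Q : Set G) →
      ∀ u ∈ Q, u ≠ 1 → b * u = u * b → b = 1)
    (hcard : D.index * Nat.card ↥((stabilizer G a ⊓ Subgroup.normalizer (Q : Set G)) ⊓ D) ∣ Nat.card Ω - 1)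
    (hn2 : 2 ≤ Nat.card Ω) (h5 : ∀ b : ℕ, b * (b - 1) = Nat.card Ω - 1 → 5 ≤ b)
    (hn : ¬ (D.index + 1) ^ 2 ≤ Nat.card Ω) : ∀ d ∈ D, d ∈ Subgroup.normalizer (Q : Set G) := by
  classical
  haveI := h.normal
  haveI : Nontrivial Ω := Finite.one_lt_card_iff_nontrivial.mp hn2
  obtain ⟨c, hca⟩ := exists_ne a
  -- centralisers
  have hC : ∀ u ∈ Q, u ≠ 1 → ∀ x ∈ D, x * u = u * x → x ∈ Q := by
    intro u hu hu1 x hx hxu
    set C := D ⊓ Subgroup.centralizer ({u} : Set G) with hCdef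
    have hQC : Q ≤ C := fun y hy =>
      ⟨r.le hy, Subgroup.mem_centralizer_iff.mpr fun z hz => by
        rw [Set.mem_singleton_iff.mp hz]; exact hcomm u hu y hy⟩
    obtain ⟨P, hP⟩ := r.sylow h hQC inf_le_left
    have htop : Q.subgroupOf C = ⊤ := by
      refine TI.eq_top_of_trivial (a := a) (fun x hx y hy => Subtype.ext (hcomm _ hx _ hy)) ?_
        (fun x hx ω hω => Subtype.ext (r.free _ hx ω hω)) P hP ?_
      · refine .mk fun x y => ?_
        haveI := r.trans
        obtain ⟨v, hv⟩ := exists_smul_eq ↥Q x y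
        exact ⟨⟨⟨v, hQC v.2⟩, Subgroup.mem_subgroupOf.mpr v.2⟩, hv⟩
      · refine (Subgroup.eq_bot_iff_forall _).mpr fun b hb => Subtype.ext ?_
        have hbN : (b : G) ∈ Subgroup.normalizer (Q : Set G) := by
          refine Subgroup.mem_normalizer_iff.mpr fun y => ?_
          by_cases hy : y ∈ C
          · exact Subgroup.mem_normalizer_iff.mp hb.2 ⟨y, hy⟩
          · refine iff_of_false (fun h' => hy (hQC h')) fun h' => hy ?_
            have := C.mul_mem (C.mul_mem (C.inv_mem b.2) (hQC h')) b.2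
            simpa [mul_assoc] using this
        refine hsemi b b.2.1 hb.1 hbN u hu hu1 ?_
        exact (Subgroup.mem_centralizer_iff.mp b.2.2 u rfl).symm
    exact Subgroup.subgroupOf_eq_top.mp htop
      ⟨hx, Subgroup.mem_centralizer_iff.mpr fun z hz => by rw [Set.mem_singleton_iff.mp hz]; exact hxu.symm⟩
  -- trivial intersection
  have hti : ∀ x ∈ D, ∀ y ∈ Q, y ≠ 1 → x⁻¹ * y * x ∈ Q → x ∈ Subgroup.normalizer (Q : Set G) := by
    intro x hx y hy hy1 hz
    have hle : Q.map (MulAut.conj x).toMonoidHom ≤ Q := by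
      rintro _ ⟨u, hu, rfl⟩
      refine hC y hy hy1 _ (D.mul_mem (D.mul_mem hx (r.le hu)) (D.inv_mem hx)) ?_
      show x * u * x⁻¹ * y = y * (x * u * x⁻¹)
      calc x * u * x⁻¹ * y = x * (u * (x⁻¹ * y * x)) * x⁻¹ := by group
        _ = x * ((x⁻¹ * y * x) * u) * x⁻¹ := by rw [hcomm u hu _ hz]
        _ = _ := by group
    have heq := Subgroup.eq_of_le_of_card_ge hle (Prime.card_map_conj Q x).ge
    refine Subgroup.mem_normalizer_iff.mpr fun u => ?_
    conv_rhs => rw [← heq]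
    exact (Subgroup.mem_map_iff_mem (f := (MulAut.conj x).toMonoidHom) (MulAut.conj x).injective).symm
  -- the subgroup generated by the conjugates
  set K0 := Subgroup.closure {z : G | ∃ d ∈ D, ∃ u ∈ Q, d * u * d⁻¹ = z} with hK0
  have hQK : Q ≤ K0 := fun u hu => Subgroup.subset_closure ⟨1, D.one_mem, u, hu, by group⟩
  have hKD : K0 ≤ D := by
    rw [hK0, Subgroup.closure_le]
    rintro _ ⟨d, hd, u, hu, rfl⟩
    exact D.mul_mem (D.mul_mem hd (r.le hu)) (D.inv_mem hd)
  obtain ⟨P, hP⟩ := r.sylow h hQK hKD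
  haveI hQtr := r.trans
  have htrK : IsPretransitive ↥(Q.subgroupOf K0) Ω := .mk fun x y => by
    obtain ⟨v, hv⟩ := exists_smul_eq ↥Q x y
    exact ⟨⟨⟨v, hQK v.2⟩, Subgroup.mem_subgroupOf.mpr v.2⟩, hv⟩
  have hnorm : ∀ b : ↥K0, b ∈ Subgroup.normalizer ((Q.subgroupOf K0 : Subgroup ↥K0) : Set ↥K0) →
      (b : G) ∈ Subgroup.normalizer (Q : Set G) := by
    intro b hb
    refine Subgroup.mem_normalizer_iff.mpr fun y => ?_
    by_cases hy : y ∈ K0
    · exact Subgroup.mem_normalizer_iff.mp hb ⟨y, hy⟩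
    · refine iff_of_false (fun h' => hy (hQK h')) fun h' => hy ?_
      have := K0.mul_mem (K0.mul_mem (K0.inv_mem b.2) (hQK h')) b.2
      simpa [mul_assoc] using this
  have hTI : TI.Hyp (Q.subgroupOf K0) a := by
    refine ⟨fun x hx y hy => Subtype.ext (hcomm _ hx _ hy), htrK,
      fun x hx ω hω => Subtype.ext (r.free _ hx ω hω), fun b hb hbN y hy hy1 hby => ?_,
      fun x y hy hy1 hz => ?_⟩
    · exact Subtype.ext (hsemi b (hKD b.2) hb (hnorm b hbN) y hy
        (fun he => hy1 (Subtype.ext he)) (congrArg Subtype.val hby))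
    · have hN := hti x (hKD x.2) y hy (fun he => hy1 (Subtype.ext he)) hz
      exact Subgroup.mem_normalizer_iff.mpr fun u => Subgroup.mem_normalizer_iff.mp hN (u : G)
  have hclos : Subgroup.normalClosure ((Q.subgroupOf K0 : Subgroup ↥K0) : Set ↥K0) = ⊤ := by
    refine eq_top_iff.mpr fun x _ => ?_
    set N := Subgroup.normalClosure ((Q.subgroupOf K0 : Subgroup ↥K0) : Set ↥K0)
    haveI : N.Normal := Subgroup.normalClosure_normal
    have hmem : K0 ≤ N.map K0.subtype := by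
      conv_lhs => rw [hK0]
      rw [Subgroup.closure_le]
      rintro _ ⟨d, hd, u, hu, rfl⟩
      obtain ⟨k, hk, hn'⟩ := (r.isSylowIn h hQK hKD).frattini d fun z hz =>
        Subgroup.subset_closure ⟨d, hd, z, hz, rfl⟩
      have hw : k * d * u * (k * d)⁻¹ ∈ Q := (Subgroup.mem_normalizer_iff.mp hn' u).mp hu
      have h2 : (⟨k, hk⟩ : ↥K0)⁻¹ * ⟨k * d * u * (k * d)⁻¹, hQK hw⟩ * ⟨k, hk⟩ ∈ N := by
        have := (inferInstance : N.Normal).conj_mem _
          (Subgroup.subset_normalClosure (s := ((Q.subgroupOf K0 : Subgroup ↥K0) : Set ↥K0))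
            (show (⟨k * d * u * (k * d)⁻¹, hQK hw⟩ : ↥K0) ∈ Q.subgroupOf K0 from hw)) (⟨k, hk⟩ : ↥K0)⁻¹
        simpa using this
      refine ⟨_, h2, ?_⟩
      show k⁻¹ * (k * d * u * (k * d)⁻¹) * k = d * u * d⁻¹
      group
    obtain ⟨y, hy, hyx⟩ := hmem x.2
    exact (Subtype.ext hyx : y = x) ▸ hy
  set β := Nat.card ↥((stabilizer G a ⊓ Subgroup.normalizer (Q : Set G)) ⊓ D) with hβ
  set β' := Nat.card ↥(TI.BN (Q.subgroupOf K0) a) with hβ'
  have hle : β' ≤ β := by
    refine le_trans (Subgroup.card_map_of_injective (f := K0.subtype) K0.subtype_injective).symm.le ?_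
    refine Nat.le_of_dvd Nat.card_pos (Subgroup.card_dvd_of_le ?_)
    rintro _ ⟨b, hb, rfl⟩
    exact ⟨⟨hb.1, hnorm b hb.2⟩, hKD b.2⟩
  have hpos : 0 < Nat.card Ω - 1 := by omega
  have hmul : D.index * β ≤ Nat.card Ω - 1 := Nat.le_of_dvd hpos hcard
  have hlt : Nat.card Ω < (D.index + 1) ^ 2 := not_le.mp hn
  have hβm : β ≤ D.index + 1 := by
    by_contra hc
    have : D.index * (D.index + 2) ≤ D.index * β := Nat.mul_le_mul_left _ (by omega)
    have : (D.index + 1) ^ 2 = D.index * (D.index + 2) + 1 := by ring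
    omega
  have hββ : β * (β - 1) ≤ D.index * β := by
    rw [mul_comm D.index]
    exact Nat.mul_le_mul_left _ (by omega)
  have hβ0 : 0 < β := Nat.card_pos
  have h1 : β' * (β' - 1) ≤ β * (β - 1) := Nat.mul_le_mul hle (by omega)
  have hno : ¬ IsMultiplyPretransitive ↥K0 Ω 2 := by
    intro h2
    refine hD (h.eq_top_of_two_transitive (Ne.symm hca) fun x y hxy => ?_)
    obtain ⟨k, hk1, hk2⟩ := is_two_pretransitive_iff.mp h2 (Ne.symm hca) hxy
    exact ⟨k, hKD k.2, hk1, hk2⟩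
  have htop : Q.subgroupOf K0 = ⊤ := TI.eq_top hTI P hP hclos (h1.trans (hββ.trans hmul)) (h5 β') hno
  intro d hd
  have hle : Q.map (MulAut.conj d).toMonoidHom ≤ Q := by
    rintro _ ⟨u, hu, rfl⟩
    exact Subgroup.subgroupOf_eq_top.mp htop (Subgroup.subset_closure ⟨d, hd, u, hu, rfl⟩)
  have heq := Subgroup.eq_of_le_of_card_ge hle (Prime.card_map_conj Q d).ge
  refine Subgroup.mem_normalizer_iff.mpr fun u => ?_
  conv_rhs => rw [← heq]
  exact (Subgroup.mem_map_iff_mem (f := (MulAut.conj d).toMonoidHom) (MulAut.conj d).injective).symm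
/-- The affine case: without the bound, the regular Sylow subgroup is abelian and normal in `D`, and
its normaliser in the point stabiliser of `D` acts semiregularly on it. -/
theorem regular_normal [FaithfulSMul G Ω] (r : Reg q D Q a) (h : Hyp D Ω) (hD : D ≠ ⊤)
    (hn2 : 2 ≤ Nat.card Ω) (h5 : ∀ b : ℕ, b * (b - 1) = Nat.card Ω - 1 → 5 ≤ b)
    (hn : ¬ (D.index + 1) ^ 2 ≤ Nat.card Ω) :
    (∀ x ∈ Q, ∀ y ∈ Q, x * y = y * x) ∧ (∀ d ∈ D, d ∈ Subgroup.normalizer (Q : Set G)) ∧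
      ∀ b ∈ D, b • a = a → b ∈ Subgroup.normalizer (Q : Set G) →
        ∀ u ∈ Q, u ≠ 1 → b * u = u * b → b = 1 := by
  classical
  haveI := h.normal
  haveI : Nontrivial ↥Q := Finite.one_lt_card_iff_nontrivial.mp (by rw [r.card]; omega)
  set Y := stabilizer G a ⊓ Subgroup.normalizer (Q : Set G) with hY
  have hYN : ∀ y ∈ Y, ∀ u ∈ Q, y * u * y⁻¹ ∈ Q := fun y hy u hu =>
    (Subgroup.mem_normalizer_iff.mp hy.2 u).mp hu
  have hYc : Cover D Y := by
    refine cover_iff.mpr fun x => ?_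
    obtain ⟨l, hl, d, hd, rfl⟩ := cover_iff.mp r.cover x
    obtain ⟨u, hu, he⟩ := r.exists_smul (l • a)
    refine ⟨u⁻¹ * l, ⟨mem_stabilizer_iff.mpr (by rw [mul_smul, ← he, inv_smul_smul]),
      (Subgroup.normalizer (Q : Set G)).mul_mem
        ((Subgroup.normalizer (Q : Set G)).inv_mem (Subgroup.le_normalizer hu)) hl⟩,
      (l⁻¹ * u * l) * d, D.mul_mem (by simpa using h.normal.conj_mem u (r.le hu) l⁻¹) hd, by group⟩
  -- invariant subgroups
  have hinv : ∀ W : Subgroup G, W ≤ Q → W ≠ ⊥ → (∀ y ∈ Y, ∀ x ∈ W, y * x * y⁻¹ ∈ W) → W = Q := by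
    intro W hWQ hW0 hW
    by_contra hne
    have hst : stabilizer ↥W a = ⊥ := (Subgroup.eq_bot_iff_forall _).mpr fun x hx =>
      Subtype.ext (r.free _ (hWQ x.2) a hx)
    have hOc : (orbit ↥W a).ncard = Nat.card ↥W := by
      rw [← index_stabilizer, hst, Subgroup.index_bot]
    have hk : 2 ≤ Nat.card ↥W := by
      have h1 : 0 < Nat.card ↥W := Nat.card_pos
      have h2 : Nat.card ↥W ≠ 1 := fun he => hW0 (Subgroup.card_eq_one.mp he)
      omega
    have hkn : Nat.card ↥W < Nat.card Ω := by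
      rw [← r.card]
      exact lt_of_not_ge fun hge => hne (Subgroup.eq_of_le_of_card_ge hWQ hge)
    refine hn (bound_of_dvd hk hkn (r.card ▸ Subgroup.card_dvd_of_le hWQ) ?_ (h.index_dvd_card_sub_one a))
    rw [← hOc]
    refine h.index_dvd_ncard Y hYc (fun y hy => hy.1) _ ?_ (mem_orbit_self a)
    rintro y hy _ ⟨x, rfl⟩
    refine ⟨⟨y * (x : G) * y⁻¹, hW y hy x x.2⟩, ?_⟩
    change (y * (x : G) * y⁻¹) • a = y • ((x : G) • a)
    rw [mul_smul, mul_smul, inv_smul_eq_iff.mpr (mem_stabilizer_iff.mp hy.1).symm]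
  have hcomm : ∀ x ∈ Q, ∀ y ∈ Q, x * y = y * x := by
    have hW : Q ⊓ Subgroup.centralizer (Q : Set G) = Q := by
      refine hinv _ inf_le_left ?_ ?_
      · haveI := r.pgroup.center_nontrivial
        obtain ⟨z, hz⟩ := exists_ne (1 : ↥(Subgroup.center ↥Q))
        intro hbot
        have hmem : ((z : ↥Q) : G) ∈ Q ⊓ Subgroup.centralizer (Q : Set G) :=
          ⟨(z : ↥Q).2, Subgroup.mem_centralizer_iff.mpr fun y hy =>
            congrArg Subtype.val (Subgroup.mem_center_iff.mp z.2 ⟨y, hy⟩)⟩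
        rw [hbot, Subgroup.mem_bot] at hmem
        exact hz (Subtype.ext (Subtype.ext hmem))
      · intro y hy x hx
        refine ⟨hYN y hy x hx.1, Subgroup.mem_centralizer_iff.mpr fun u hu => ?_⟩
        have h1 : y⁻¹ * u * y ∈ Q := by simpa using hYN y⁻¹ (Y.inv_mem hy) u hu
        have h2 := Subgroup.mem_centralizer_iff.mp hx.2 _ h1
        calc u * (y * x * y⁻¹) = y * ((y⁻¹ * u * y) * x) * y⁻¹ := by group
          _ = y * (x * (y⁻¹ * u * y)) * y⁻¹ := by rw [h2]
          _ = _ := by group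
    intro x hx y hy
    exact (Subgroup.mem_centralizer_iff.mp ((hW.ge hy : y ∈ Q ⊓ _).2) x hx)
  -- the module
  letI : CommGroup ↥Q :=
    { (inferInstance : Group ↥Q) with mul_comm := fun x y => Subtype.ext (hcomm x x.2 y y.2) }
  letI : DistribMulAction ↥Y (Additive ↥Q) :=
    { smul := fun y w => Additive.ofMul ⟨(y : G) * (Additive.toMul w : ↥Q) * (y : G)⁻¹, hYN y y.2 _ (Additive.toMul w).2⟩
      one_smul := fun w => Additive.toMul.injective (Subtype.ext (by
        show (1 : G) * (Additive.toMul w : ↥Q) * (1 : G)⁻¹ = _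
        group))
      mul_smul := fun y z w => Additive.toMul.injective (Subtype.ext (by
        show ((y : G) * z) * (Additive.toMul w : ↥Q) * ((y : G) * z)⁻¹ =
          (y : G) * ((z : G) * (Additive.toMul w : ↥Q) * (z : G)⁻¹) * (y : G)⁻¹
        group))
      smul_zero := fun y => Additive.toMul.injective (Subtype.ext (by
        show (y : G) * 1 * (y : G)⁻¹ = 1
        group))
      smul_add := fun y w w' => Additive.toMul.injective (Subtype.ext (by
        show (y : G) * ((Additive.toMul w : ↥Q) * (Additive.toMul w' : ↥Q) : ↥Q) * (y : G)⁻¹ =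
          ((y : G) * (Additive.toMul w : ↥Q) * (y : G)⁻¹) * ((y : G) * (Additive.toMul w' : ↥Q) * (y : G)⁻¹)
        rw [Subgroup.coe_mul]
        group)) }
  have hfix : ∀ (y : ↥Y) (w : Additive ↥Q), y • w = w →
      ((Additive.toMul w : ↥Q) : G) • a = a ∨ (y : G) ∈ D := by
    intro y w hw
    rcases eq_or_ne (((Additive.toMul w : ↥Q) : G) • a) a with h1 | h1
    · exact Or.inl h1
    · refine Or.inr (h.mem_of_fix_two (Ne.symm h1) y.2.1 ?_)
      have h2 : (y : G) * (Additive.toMul w : ↥Q) * (y : G)⁻¹ = (Additive.toMul w : ↥Q) :=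
        congrArg (fun z : Additive ↥Q => ((Additive.toMul z : ↥Q) : G)) hw
      rw [← mul_smul, mul_inv_eq_iff_eq_mul.mp h2, mul_smul, mem_stabilizer_iff.mp y.2.1]
  have hzero : ∀ w : Additive ↥Q, ((Additive.toMul w : ↥Q) : G) • a = a → w = 0 := fun w hw =>
    Additive.toMul.injective (Subtype.ext (r.free _ (Additive.toMul w).2 a hw))
  set B := D.subgroupOf Y with hB
  have hBi : B.index = D.index := relIndex_of_cover hYc
  have hBc : Nat.card ↥B = Nat.card ↥(Y ⊓ D) := by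
    rw [← Nat.card_congr (Subgroup.subgroupOfEquivOfLe (inf_le_left : Y ⊓ D ≤ Y)).toEquiv,
      Subgroup.inf_subgroupOf_left]
  obtain ⟨j, hj⟩ := IsPGroup.iff_card.mp r.pgroup
  have hqn : q ∣ Nat.card Ω := by
    rw [← r.card, hj]
    exact dvd_pow_self q fun h0 => by rw [h0, pow_zero, r.card] at hj; omega
  have hVc : Nat.card (Additive ↥Q) = Nat.card Ω := (Nat.card_congr Additive.toMul).trans r.card
  have hcop : (Nat.card ↥Y).Coprime (Nat.card (Additive ↥Q)) := by
    rw [hVc, ← r.card, hj, ← Subgroup.index_mul_card B, hBi]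
    refine Nat.Coprime.pow_right _ ?_
    refine ((Fact.out : q.Prime).coprime_iff_not_dvd.mpr ?_).symm
    intro hd
    rcases (Fact.out : q.Prime).dvd_mul.mp hd with h1 | h1
    · have h2 : q ∣ Nat.card Ω - 1 := h1.trans (h.index_dvd_card_sub_one a)
      have h3 := Nat.dvd_sub hqn h2
      rw [show Nat.card Ω - (Nat.card Ω - 1) = 1 by omega] at h3
      exact (Fact.out : q.Prime).ne_one (Nat.dvd_one.mp h3)
    · refine r.cop (h1.trans (hBc ▸ Subgroup.card_dvd_of_le ?_))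
      exact fun x hx => ⟨hx.2, hx.1.1⟩
  have hH : Linear.Hyp B (Additive ↥Q) :=
    ⟨h.normal.subgroupOf Y, fun y hy w hw =>
      hzero w ((hfix y w hw).resolve_right fun hd => hy (Subgroup.mem_subgroupOf.mpr hd)), hcop⟩
  haveI : FaithfulSMul ↥Y (Additive ↥Q) := ⟨fun {y z} hyz => by
    refine Subtype.ext (inv_mul_eq_one.mp (eq_of_smul_eq_smul (α := Ω) fun ω => ?_)).symm
    rw [one_smul]
    obtain ⟨u, hu, rfl⟩ := r.exists_smul ω
    have h1 : (y : G) * u * (y : G)⁻¹ = (z : G) * u * (z : G)⁻¹ :=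
      congrArg (fun w : Additive ↥Q => ((Additive.toMul w : ↥Q) : G)) (hyz (Additive.ofMul ⟨u, hu⟩))
    have h2 : ((z : G)⁻¹ * (y : G)) * u = u * ((z : G)⁻¹ * (y : G)) := by
      calc ((z : G)⁻¹ * (y : G)) * u = (z : G)⁻¹ * ((y : G) * u * (y : G)⁻¹) * (y : G) := by group
        _ = (z : G)⁻¹ * ((z : G) * u * (z : G)⁻¹) * (y : G) := by rw [h1]
        _ = _ := by group
    rw [← mul_smul, h2, mul_smul, mem_stabilizer_iff.mp (Y.mul_mem (Y.inv_mem z.2) y.2).1]⟩
  by_cases hsemi : ∀ b ∈ D, b • a = a → b ∈ Subgroup.normalizer (Q : Set G) →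
      ∀ u ∈ Q, u ≠ 1 → b * u = u * b → b = 1
  · refine ⟨hcomm, normal_of_semi r h hD hcomm hsemi ?_ hn2 h5 hn, hsemi⟩
    have h1 := Linear.index_dvd_ncard (X := ↥Y) (α := Additive ↥Q) ⊥ {0}ᶜ (Set.toFinite _)
      (fun y w hw h0 => hw (by
        simp only [Set.mem_singleton_iff] at h0 ⊢
        exact (smul_eq_zero_iff_eq y).mp h0))
      (fun y w hw hyw => by
        refine Subgroup.mem_bot.mpr (Subtype.ext ?_)
        have hwne : ((Additive.toMul w : ↥Q) : G) • a ≠ a := fun he => hw (hzero w he)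
        refine hsemi y ((hfix y w hyw).resolve_left hwne) y.2.1 y.2.2 _ (Additive.toMul w).2
          (fun he => hwne (by rw [he, one_smul])) ?_
        exact mul_inv_eq_iff_eq_mul.mp
          (congrArg (fun z : Additive ↥Q => ((Additive.toMul z : ↥Q) : G)) hyw))
    rw [Subgroup.index_bot, Set.ncard_compl, Set.ncard_singleton, hVc, ← Subgroup.index_mul_card B,
      hBi, hBc] at h1
    exact h1
  · exfalso
    push Not at hsemi
    obtain ⟨b, hbD, hba, hbN, u, hu, hu1, hbu, hb1⟩ := hsemi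
    refine hn ?_
    have := hH.bound_all (b := ⟨b, hba, hbN⟩) (Subgroup.mem_subgroupOf.mpr hbD)
      (fun he => hb1 (congrArg Subtype.val he))
      (w := Additive.ofMul ⟨u, hu⟩) (Additive.toMul.injective (Subtype.ext (by
        show b * u * b⁻¹ = u
        rw [hbu, mul_inv_cancel_right])))
      (fun he => hu1 (congrArg (fun z : Additive ↥Q => ((Additive.toMul z : ↥Q) : G)) he))
    rwa [hBi, hVc] at this

/-- The affine case: without the bound, no nontrivial element of `D` fixes `a` and another point. -/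
theorem frobenius_or_bound [FaithfulSMul G Ω] (r : Reg q D Q a) (h : Hyp D Ω) (hD : D ≠ ⊤)
    (hbig : 2 ^ 256 ≤ Nat.card Ω) (hn : ¬ (D.index + 1) ^ 2 ≤ Nat.card Ω)
    {g : G} (hg : g ∈ D) (hga : g • a = a) {c : Ω} (hca : c ≠ a) (hgc : g • c = c) : g = 1 := by
  have h16 : (16 : ℕ) ≤ Nat.card Ω :=
    le_trans (le_trans (by norm_num : (16 : ℕ) ≤ 2 ^ 4) (Nat.pow_le_pow_right (by norm_num) (by norm_num))) hbig
  obtain ⟨-, hnormal, hsemi⟩ := regular_normal r h hD (le_trans (by norm_num) h16) (fun b he => by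
    by_contra hc
    have : b * (b - 1) ≤ 4 * 3 := Nat.mul_le_mul (by omega) (by omega)
    omega) hn
  obtain ⟨u, hu, rfl⟩ := r.exists_smul c
  have hconj : g * u * g⁻¹ ∈ Q := (Subgroup.mem_normalizer_iff.mp (hnormal g hg) u).mp hu
  have he : u⁻¹ * (g * u * g⁻¹) = 1 := r.free _ (Q.mul_mem (Q.inv_mem hu) hconj) a (by
    rw [mul_smul, mul_smul, mul_smul, inv_smul_eq_iff.mpr hga.symm, hgc, inv_smul_smul])
  refine hsemi g hg hga (hnormal g hg) u hu (fun h1 => hca (by rw [h1, one_smul])) ?_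
  exact mul_inv_eq_iff_eq_mul.mp (inv_mul_eq_one.mp he).symm

end Cfsg.Agent.Lib.DerangeIndex3.Affine
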