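import Cfsg.Agent.Lib.DerangeIndex3.LinearBasic

/-!
# Abelian subgroups normalised by a covering subgroup
-/

set_option linter.style.haveILetI false
set_option linter.unusedSectionVars false

namespace Cfsg.Agent.Lib.DerangeIndex3.Linear

open MulAction Pointwise

universe u v

variable {Y : Type u} [Group Y] [Finite Y] {V : Type v} [AddCommGroup V] [Finite V]
  [DistribMulAction Y V] {B : Subgroup Y}

theorem arith_two {t s : ℕ} (ht : 2 ≤ t) : (t * s + 1) ^ 2 ≤ (2 * s + 1) ^ t := by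
  induction t, ht using Nat.le_induction with
  | base => exact le_of_eq (by ring)
  | succ t ht ih =>
    rw [pow_succ (2 * s + 1) t]
    refine le_trans ?_ (Nat.mul_le_mul_right _ ih)
    have h1 : s ≤ t * s := Nat.le_mul_of_pos_left s (by omega)
    nlinarith [Nat.mul_le_mul h1 h1]

theorem Hyp.fixV_eq_bot [FaithfulSMul Y V] (hH : Hyp B V) {L : Subgroup Y} (hL : Cover B L)
    (hno : ¬ (B.index + 1) ^ 2 ≤ Nat.card V) {N : Subgroup Y}
    (hN : L ≤ Subgroup.normalizer (N : Set Y)) (hne : N ≠ ⊥) :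
    (fixV (N : Set Y) : AddSubgroup V) = ⊥ := by
  by_contra hb
  refine hno (hH.bound_of_invariant hL _ ?_ hb ?_)
  · intro l hl w hw x hx
    have h1 : l⁻¹ * x * l ∈ N := by
      have := Subgroup.mem_normalizer_iff.mp (inv_mem (hN hl)) x
      rw [inv_inv] at this
      exact this.mp hx
    have h2 := hw _ h1
    rw [← smul_smul, ← smul_smul, inv_smul_eq_iff] at h2
    exact h2
  · intro ht
    refine hne ((Subgroup.eq_bot_iff_forall _).mpr fun x hx => eq_of_smul_eq_smul fun w : V => ?_)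
    rw [one_smul]
    exact (mem_fixV.mp (ht ▸ AddSubgroup.mem_top w : w ∈ (fixV (N : Set Y) : AddSubgroup V))) x hx

theorem card_fixV_smul (l : Y) (N : Subgroup Y) :
    Nat.card (fixV ((MulAut.conj l • N : Subgroup Y) : Set Y) : AddSubgroup V) =
      Nat.card (fixV (N : Set Y) : AddSubgroup V) := by
  refine (Nat.card_congr ?_).symm
  refine (Equiv.subtypeEquiv (MulAction.toPerm l) fun w => ?_)
  show w ∈ (fixV (N : Set Y) : AddSubgroup V) ↔ l • w ∈ (fixV _ : AddSubgroup V)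
  simp only [mem_fixV, SetLike.mem_coe]
  constructor
  · intro h s hs
    obtain ⟨x, hx, rfl⟩ := hs
    show (l * x * l⁻¹) • l • w = l • w
    rw [smul_smul, inv_mul_cancel_right, ← smul_smul, h x hx]
  · intro h x hx
    have := h (l * x * l⁻¹) ⟨x, hx, rfl⟩
    rwa [smul_smul, inv_mul_cancel_right, ← smul_smul, smul_left_cancel_iff] at this

/-- An abelian subgroup normalised by a covering subgroup acts without fixed vectors. -/
theorem Hyp.abelian_fpf [FaithfulSMul Y V] (hH : Hyp B V) {L : Subgroup Y} (hL : Cover B L)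
    (hno : ¬ (B.index + 1) ^ 2 ≤ Nat.card V) {E : Subgroup Y} (hEL : E ≤ L) (hEB : E ≤ B)
    (hEn : L ≤ Subgroup.normalizer (E : Set Y)) (hcomm : ∀ x ∈ E, ∀ y ∈ E, x * y = y * x)
    {g : Y} (hg : g ∈ E) (hg1 : g ≠ 1) {w : V} (hw : g • w = w) : w = 0 := by
  classical
  by_contra hw0
  obtain ⟨N, ⟨hNE, hgN, hNfix⟩, hNmax⟩ := (Set.toFinite
      {N : Subgroup Y | N ≤ E ∧ g ∈ N ∧ (fixV (N : Set Y) : AddSubgroup V) ≠ ⊥}).exists_maximal
      ⟨Subgroup.zpowers g, by simp [hg], Subgroup.mem_zpowers g, fun hb => hw0 (by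
        have : w ∈ (fixV (Subgroup.zpowers g : Set Y) : AddSubgroup V) := by
          rw [mem_fixV]
          rintro s ⟨k, rfl⟩
          exact (mem_stabilizer_iff.mp (Subgroup.zpow_mem _ (mem_stabilizer_iff.mpr hw) k))
        rw [hb] at this
        exact this)⟩
  have hNne : N ≠ ⊥ := fun h => hg1 (by rw [h] at hgN; exact hgN)
  obtain ⟨w₁, hw₁, hw₁0⟩ : ∃ w₁ ∈ (fixV (N : Set Y) : AddSubgroup V), w₁ ≠ 0 := by
    by_contra hc
    push Not at hc
    exact hNfix ((AddSubgroup.eq_bot_iff_forall _).mpr hc)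
  let L₀ : Subgroup Y := L ⊓ Subgroup.normalizer (N : Set Y)
  have hconjE : ∀ l ∈ L, (MulAut.conj l • N : Subgroup Y) ≤ E := by
    rintro l hl _ ⟨x, hx, rfl⟩
    exact (Subgroup.mem_normalizer_iff.mp (hEn hl) x).mp (hNE hx)
  have hpair : ∀ l₁ ∈ L, ∀ l₂ ∈ L, l₁⁻¹ * l₂ ∉ L₀ →
      (fixV (((MulAut.conj l₁ • N : Subgroup Y) : Set Y) ∪ ((MulAut.conj l₂ • N : Subgroup Y) : Set Y))
        : AddSubgroup V) = ⊥ := by
    intro l₁ h₁ l₂ h₂ hne
    by_contra hb
    obtain ⟨u, hu, hu0⟩ : ∃ u ∈ (fixV _ : AddSubgroup V), u ≠ (0 : V) := by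
      by_contra hc
      push Not at hc
      exact hb ((AddSubgroup.eq_bot_iff_forall _).mpr hc)
    let l := l₁⁻¹ * l₂
    have hl : l ∈ L := mul_mem (inv_mem h₁) h₂
    let N' : Subgroup Y := N ⊔ MulAut.conj l • N
    have hst : N' ≤ stabilizer Y (l₁⁻¹ • u) := by
      refine sup_le (fun x hx => ?_) ?_
      · have := (mem_fixV.mp hu) (l₁ * x * l₁⁻¹) (Or.inl ⟨x, hx, rfl⟩)
        rw [← smul_smul, ← smul_smul, smul_eq_iff_eq_inv_smul] at this
        exact mem_stabilizer_iff.mpr this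
      · rintro _ ⟨x, hx, rfl⟩
        have := (mem_fixV.mp hu) (l₂ * x * l₂⁻¹) (Or.inr ⟨x, hx, rfl⟩)
        refine mem_stabilizer_iff.mpr ?_
        show (l₁⁻¹ * l₂ * x * (l₁⁻¹ * l₂)⁻¹) • l₁⁻¹ • u = l₁⁻¹ • u
        rw [smul_smul, show l₁⁻¹ * l₂ * x * (l₁⁻¹ * l₂)⁻¹ * l₁⁻¹ = l₁⁻¹ * (l₂ * x * l₂⁻¹) by group,
          ← smul_smul, this]
    have hN' : N' ≤ N := hNmax ⟨sup_le hNE (hconjE l hl), le_sup_left (a := N) hgN, fun hb' => hu0 (by
      have : l₁⁻¹ • u ∈ (fixV (N' : Set Y) : AddSubgroup V) := fun x hx => hst hx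
      rw [hb'] at this
      exact (smul_eq_zero_iff_eq l₁⁻¹).mp this)⟩ le_sup_left
    refine hne ⟨hl, ?_⟩
    have h3 : MulAut.conj l • N ≤ N := le_sup_right.trans hN'
    have heq : MulAut.conj l • N = N :=
      Subgroup.eq_of_le_of_card_ge h3 (Nat.card_congr (Subgroup.equivSMul (MulAut.conj l) N).toEquiv).le
    refine Subgroup.mem_normalizer_iff.mpr ?_
    intro x
    constructor
    · intro hx; exact h3 ⟨x, hx, rfl⟩
    · intro hx
      rw [← heq] at hx
      obtain ⟨x', hx', he⟩ := hx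
      have : x' = x := mul_left_cancel (mul_right_cancel (show l * x' * l⁻¹ = l * x * l⁻¹ from he))
      exact this ▸ hx'
  let ι := Fin (L₀.relIndex L)
  let σ : ι ≃ (↥L ⧸ L₀.subgroupOf L) := (Finite.equivFin _).symm
  have h1 := hH.prod_card_le (ι := ι) (fun i => MulAut.conj (((σ i).out : ↥L) : Y) • N)
    (fun i j x hx y hy => hcomm x (hconjE _ (σ i).out.2 hx) y (hconjE _ (σ j).out.2 hy))
    (fun i j hij => hpair _ (σ i).out.2 _ (σ j).out.2 (fun h => hij (σ.injective (by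
      rw [← Quotient.out_eq (σ i), ← Quotient.out_eq (σ j)]
      exact QuotientGroup.eq.mpr h))))
  simp only [card_fixV_smul, Finset.prod_const, Finset.card_univ, Fintype.card_fin, ι] at h1
  have ht : 2 ≤ L₀.relIndex L := by
    by_contra hlt
    have h0 : L₀.relIndex L ≠ 0 := Subgroup.index_ne_zero_of_finite
    have : L ≤ L₀ := Subgroup.relIndex_eq_one.mp (by omega)
    exact hNfix (hH.fixV_eq_bot hL hno (fun l hl => (this hl).2) hNne)
  have hinv : ∀ l ∈ L₀, ∀ u ∈ (fixV (N : Set Y) : AddSubgroup V), l • u ∈ (fixV (N : Set Y) : AddSubgroup V) := by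
    intro l hl u hu x hx
    have h2 : l⁻¹ * x * l ∈ N := by
      have := Subgroup.mem_normalizer_iff.mp (inv_mem hl.2) x
      rw [inv_inv] at this
      exact this.mp hx
    have h3 := hu _ h2
    rw [← smul_smul, ← smul_smul, inv_smul_eq_iff] at h3
    exact h3
  have h2 := hH.orbit_bound (L₀ := L₀) _ hinv hw₁ hw₁0
  obtain ⟨c, hc, hcw⟩ : ∃ c ∈ E, c • w₁ ≠ w₁ := by
    by_contra hcon
    push Not at hcon
    have hb := hH.fixV_eq_bot hL hno hEn (fun h => hg1 (by rw [h] at hg; exact hg))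
    exact hw₁0 (by
      have : w₁ ∈ (fixV (E : Set Y) : AddSubgroup V) := hcon
      rw [hb] at this
      exact this)
  have hcL₀ : c ∈ L₀ ⊓ B := ⟨⟨hEL hc, by
    refine Subgroup.mem_normalizer_iff.mpr ?_
    intro x
    constructor
    · intro hx; rw [hcomm c hc x (hNE hx), mul_inv_cancel_right]; exact hx
    · intro hx
      have e1 := hcomm c hc _ (hNE hx)
      have : c * x * c⁻¹ = x := by
        have e2 : c * (c * x * c⁻¹) = (c * x * c⁻¹) * c := e1
        rw [inv_mul_cancel_right] at e2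
        exact mul_left_cancel e2
      rwa [this] at hx⟩, hEB hc⟩
  have h3 : 2 ≤ (orbit ↥(L₀ ⊓ B) w₁).ncard := by
    have hsub : ({w₁, c • w₁} : Set V) ⊆ orbit ↥(L₀ ⊓ B) w₁ := by
      rintro x (rfl | rfl)
      · exact mem_orbit_self x
      · exact ⟨⟨c, hcL₀⟩, rfl⟩
    have := Set.ncard_le_ncard hsub (Set.toFinite _)
    rwa [Set.ncard_pair hcw.symm] at this
  have h4 := hH.index_mul hL (inf_le_left : L₀ ≤ L)
  have h5 : 0 < (L₀ ⊓ B).relIndex (L ⊓ B) := Nat.pos_of_ne_zero Subgroup.index_ne_zero_of_finite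
  apply hno
  have h6 : B.index ≤ L₀.relIndex L * B.relIndex L₀ := h4 ▸ Nat.le_mul_of_pos_right _ h5
  calc (B.index + 1) ^ 2 ≤ (L₀.relIndex L * B.relIndex L₀ + 1) ^ 2 := Nat.pow_le_pow_left (by omega) 2
    _ ≤ (2 * B.relIndex L₀ + 1) ^ L₀.relIndex L := arith_two ht
    _ ≤ (Nat.card (fixV (N : Set Y) : AddSubgroup V)) ^ L₀.relIndex L :=
      Nat.pow_le_pow_left (le_trans (Nat.add_le_add_right ((Nat.mul_comm 2 _).trans_le (Nat.mul_le_mul_left _ h3)) 1) h2) _
    _ ≤ Nat.card V := h1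

/-- A normalised abelian subgroup has at most one subgroup of each prime order. -/
theorem Hyp.abelian_unique [FaithfulSMul Y V] [Nontrivial V] (hH : Hyp B V) {L : Subgroup Y} (hL : Cover B L)
    (hno : ¬ (B.index + 1) ^ 2 ≤ Nat.card V) {E : Subgroup Y} (hEL : E ≤ L) (hEB : E ≤ B)
    (hEn : L ≤ Subgroup.normalizer (E : Set Y)) (hcomm : ∀ x ∈ E, ∀ y ∈ E, x * y = y * x)
    {r : ℕ} [Fact r.Prime] {x y : Y} (hx : x ∈ E) (hy : y ∈ E) (hxr : orderOf x = r) (hyr : y ^ r = 1) :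
    y ∈ Subgroup.zpowers x := by
  by_contra hne
  obtain ⟨w, hw⟩ := exists_ne (0 : V)
  obtain ⟨g, hg, hg1, w', hw', hgw⟩ := hH.exists_fixed (hcomm x hx y hy) hxr hyr hne hw
  have hgE : g ∈ E := (Subgroup.closure_le E).mpr (by rintro a (rfl | rfl) <;> assumption) hg
  exact hw' (hH.abelian_fpf hL hno hEL hEB hEn hcomm hgE hg1 hgw)

end Cfsg.Agent.Lib.DerangeIndex3.Linear
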