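import Mathlib

/-!
# Coprime linear actions with a fixed-point-free coset structure: counting tools
-/

set_option linter.style.haveILetI false
set_option linter.unusedSectionVars false

namespace Cfsg.Agent.Lib.DerangeIndex3.Linear

open MulAction

universe u v

section Free

variable {X : Type u} [Group X] [Finite X] {α : Type v} [MulAction X α]

/-- If all point stabilisers lie in `N`, the index of `N` divides the size of an invariant set. -/
theorem index_dvd_ncard (N : Subgroup X) (S : Set α) (hS : S.Finite)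
    (hinv : ∀ x : X, ∀ s ∈ S, x • s ∈ S) (hfree : ∀ x : X, ∀ s ∈ S, x • s = s → x ∈ N) :
    N.index ∣ S.ncard := by
  classical
  let T : SubMulAction X α := ⟨S, fun x {s} hs => hinv x s hs⟩
  haveI : Finite ↥T := hS.to_subtype
  have h1 : Nat.card ↥T = S.ncard := Nat.card_coe_set_eq S
  rw [← h1, Nat.card_congr (selfEquivSigmaOrbitsQuotientStabilizer X ↥T)]
  haveI : Fintype (orbitRel.Quotient X ↥T) := Fintype.ofFinite _
  rw [Nat.card_sigma]
  refine Finset.dvd_sum fun ω _ => ?_
  rw [← Subgroup.index_eq_card]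
  refine Subgroup.index_dvd_of_le fun x hx => hfree x (ω.out : α) (ω.out).2 ?_
  exact congrArg Subtype.val (mem_stabilizer_iff.mp hx)

end Free

variable {Y : Type u} [Group Y] [Finite Y] {V : Type v} [AddCommGroup V] [Finite V]
  [DistribMulAction Y V] (B : Subgroup Y)

/-- The standing hypothesis. -/
structure Hyp (V : Type v) [AddCommGroup V] [DistribMulAction Y V] : Prop where
  normal : B.Normal
  fpf : ∀ y, y ∉ B → ∀ w : V, y • w = w → w = 0
  cop : (Nat.card Y).Coprime (Nat.card V)

/-- A subgroup covering `Y / B`. -/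
def Cover (L : Subgroup Y) : Prop := L ⊔ B = ⊤

/-- The common fixed vectors of a set of elements. -/
def fixV (S : Set Y) : AddSubgroup V where
  carrier := {w | ∀ s ∈ S, s • w = w}
  add_mem' := fun {a b} ha hb s hs => by rw [smul_add, ha s hs, hb s hs]
  zero_mem' := fun s _ => smul_zero s
  neg_mem' := fun {a} ha s hs => by rw [smul_neg, ha s hs]

omit [Finite Y] [Finite V] in
theorem mem_fixV {S : Set Y} {w : V} : w ∈ (fixV S : AddSubgroup V) ↔ ∀ s ∈ S, s • w = w := Iff.rfl

omit [Finite Y] [Finite V] in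
theorem fixV_mono {S T : Set Y} (h : S ⊆ T) : (fixV T : AddSubgroup V) ≤ fixV S :=
  fun _ hw s hs => hw s (h hs)

variable {B}

theorem Hyp.smul_eq_zero (hH : Hyp B V) {k : ℕ} (hk : k ∣ Nat.card Y) {w : V} (h : k • w = 0) :
    w = 0 := by
  have h1 : addOrderOf w ∣ k := addOrderOf_dvd_of_nsmul_eq_zero h
  have h2 : addOrderOf w ∣ Nat.card V := addOrderOf_dvd_natCard w
  have h3 := Nat.eq_one_of_dvd_coprimes hH.cop (h1.trans hk) h2
  exact AddMonoid.addOrderOf_eq_one_iff.mp h3

omit [Finite Y] in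
theorem relIndex_eq_index [B.Normal] {L : Subgroup Y} (h : Cover B L) : B.relIndex L = B.index := by
  have h1 := Subgroup.relIndex_sup_right L B
  rw [show L ⊔ B = ⊤ from h, Subgroup.relIndex_top_right] at h1
  exact h1.symm

theorem Hyp.cover_top : Cover B (⊤ : Subgroup Y) := top_sup_eq _

/-- A proper nonzero subgroup invariant under a covering subgroup gives the bound. -/
theorem Hyp.bound_of_invariant (hH : Hyp B V) {L : Subgroup Y} (hL : Cover B L) (W : AddSubgroup V)
    (hW : ∀ l ∈ L, ∀ w ∈ W, l • w ∈ W) (hne : W ≠ ⊥) (hne' : W ≠ ⊤) :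
    (B.index + 1) ^ 2 ≤ Nat.card V := by
  haveI := hH.normal
  have hkey : ∀ U : AddSubgroup V, (∀ l ∈ L, ∀ w ∈ U, l • w ∈ U) →
      B.index ∣ (Nat.card U - 1) := by
    intro U hU
    have h := index_dvd_ncard (X := L) (α := V) (B.subgroupOf L) ((U : Set V) \ {0})
      (Set.toFinite _)
      (fun x s hs => ⟨hU x x.2 s hs.1, fun h0 => hs.2 (by
        simp only [Set.mem_singleton_iff] at h0 ⊢
        exact (smul_eq_zero_iff_eq (x : Y)).mp h0)⟩)
      (fun x s hs hx => by
        rw [Subgroup.mem_subgroupOf]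
        by_contra hc
        exact hs.2 (hH.fpf x hc s hx))
    rw [Set.ncard_sdiff (by simp), Set.ncard_singleton] at h
    rw [show B.index = B.relIndex L from (relIndex_eq_index hL).symm]
    rwa [← Nat.card_coe_set_eq] at h
  have hW1 := hkey W hW
  have hV1 := hkey ⊤ (fun _ _ _ _ => AddSubgroup.mem_top _)
  rw [Nat.card_congr (AddSubgroup.topEquiv (G := V)).toEquiv] at hV1
  have hmul : Nat.card W * W.index = Nat.card V := AddSubgroup.card_mul_index W
  have hwpos : 0 < Nat.card W := Nat.card_pos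
  have hipos : 0 < W.index := Nat.pos_of_ne_zero AddSubgroup.index_ne_zero_of_finite
  have hw2 : 2 ≤ Nat.card W := by
    rcases Nat.lt_or_ge (Nat.card W) 2 with h | h
    · exact absurd ((AddSubgroup.card_eq_one (H := W)).mp (by omega)) hne
    · exact h
  have hi2 : 2 ≤ W.index := by
    rcases Nat.lt_or_ge W.index 2 with h | h
    · exact absurd ((AddSubgroup.index_eq_one (H := W)).mp (by omega)) hne'
    · exact h
  obtain ⟨a, ha⟩ := hW1
  obtain ⟨c, hc⟩ := hV1
  have ha' : Nat.card W = B.index * a + 1 := by omega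
  have hidx : B.index + 1 ≤ W.index := by
    have hd : B.index ∣ (W.index - 1) := by
      have e1 : Nat.card V = B.index * c + 1 := by
        have : 0 < Nat.card V := Nat.card_pos
        omega
      rw [← hmul, ha'] at e1
      have e2 : B.index * (a * W.index) + (W.index - 1) = B.index * c := by
        rw [Nat.add_mul, one_mul, Nat.mul_assoc] at e1; omega
      have := (Nat.dvd_add_right (Dvd.intro (a * W.index) rfl)).mp
        (e2.symm ▸ Dvd.intro c rfl : B.index ∣ B.index * (a * W.index) + (W.index - 1))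
      exact this
    have := Nat.le_of_dvd (by omega) hd
    omega
  have hwge : B.index + 1 ≤ Nat.card W := by
    have ha1 : 1 ≤ a := by
      rcases Nat.eq_zero_or_pos a with h | h
      · rw [h] at ha'; omega
      · exact h
    have := Nat.le_mul_of_pos_right B.index ha1
    omega
  calc (B.index + 1) ^ 2 = (B.index + 1) * (B.index + 1) := sq _
    _ ≤ Nat.card W * W.index := Nat.mul_le_mul hwge hidx
    _ = Nat.card V := hmul

/-- Two ways through the intersection of a subgroup with `B`. -/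
theorem Hyp.index_mul (hH : Hyp B V) {L L₀ : Subgroup Y} (hL : Cover B L) (hle : L₀ ≤ L) :
    B.index * (L₀ ⊓ B).relIndex (L ⊓ B) = L₀.relIndex L * B.relIndex L₀ := by
  haveI := hH.normal
  have h1 := Subgroup.relIndex_mul_relIndex (L₀ ⊓ B) (L ⊓ B) L (inf_le_inf_right B hle) inf_le_left
  have h2 := Subgroup.relIndex_mul_relIndex (L₀ ⊓ B) L₀ L inf_le_left hle
  rw [Subgroup.inf_relIndex_left, relIndex_eq_index hL] at h1
  rw [Subgroup.inf_relIndex_left] at h2
  rw [mul_comm, h1, ← h2, mul_comm]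

omit [Finite V] in
theorem ncard_orbit (L : Subgroup Y) (w : V) :
    (orbit L w).ncard = (stabilizer Y w).relIndex L := by
  rw [← Nat.card_coe_set_eq, Nat.card_congr (orbitEquivQuotientStabilizer L w),
    ← Subgroup.index_eq_card]
  rfl

/-- The orbit of a fixed vector bounds the part of the index seen by its stabiliser. -/
theorem Hyp.orbit_bound (hH : Hyp B V) {L₀ : Subgroup Y} (U : AddSubgroup V)
    (hU : ∀ l ∈ L₀, ∀ w ∈ U, l • w ∈ U) {w : V} (hw : w ∈ U) (hw0 : w ≠ 0) :
    B.relIndex L₀ * (orbit ↥(L₀ ⊓ B) w).ncard + 1 ≤ Nat.card U := by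
  haveI := hH.normal
  have h1 : (orbit L₀ w).ncard + 1 ≤ Nat.card U := by
    have hsub : orbit L₀ w ⊆ (U : Set V) \ {0} := by
      rintro _ ⟨l, rfl⟩
      refine ⟨hU l l.2 w hw, fun h0 => hw0 ?_⟩
      simp only [Set.mem_singleton_iff] at h0
      exact (smul_eq_zero_iff_eq (l : Y)).mp h0
    have h := Set.ncard_le_ncard hsub (Set.toFinite _)
    rw [Set.ncard_sdiff (by simp), Set.ncard_singleton, ← Nat.card_coe_set_eq] at h
    have : 0 < Nat.card U := Nat.card_pos
    change (orbit L₀ w).ncard ≤ Nat.card U - 1 at h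
    omega
  have hst : stabilizer Y w ⊓ L₀ ≤ L₀ ⊓ B := by
    intro y hy
    refine ⟨hy.2, ?_⟩
    by_contra hc
    exact hw0 (hH.fpf y hc w hy.1)
  have h2 := Subgroup.relIndex_mul_relIndex (stabilizer Y w ⊓ L₀) (L₀ ⊓ B) L₀ hst inf_le_left
  rw [Subgroup.inf_relIndex_right, Subgroup.inf_relIndex_left] at h2
  have h3 : (stabilizer Y w ⊓ L₀).relIndex (L₀ ⊓ B) = (stabilizer Y w).relIndex (L₀ ⊓ B) := by
    rw [← Subgroup.inf_relIndex_right (H := stabilizer Y w ⊓ L₀), inf_assoc,
      inf_eq_right.mpr (inf_le_left : L₀ ⊓ B ≤ L₀), Subgroup.inf_relIndex_right]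
  rw [ncard_orbit, ← h2, h3] at h1
  rw [ncard_orbit, mul_comm]
  exact h1

omit [Finite Y] [Finite V] in
theorem orbit_mono {L₁ L₂ : Subgroup Y} (h : L₁ ≤ L₂) (w : V) : orbit L₁ w ⊆ orbit L₂ w := by
  rintro _ ⟨l, rfl⟩
  exact ⟨⟨l, h l.2⟩, rfl⟩

/-- Subgroups commuting with one another, with pairwise trivial common fixed vectors, have independent
fixed spaces. -/
theorem Hyp.prod_card_le (hH : Hyp B V) {ι : Type} [Fintype ι] (N : ι → Subgroup Y)
    (hcomm : ∀ i j, ∀ x ∈ N i, ∀ y ∈ N j, x * y = y * x)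
    (hpair : ∀ i j, i ≠ j → (fixV ((N i : Set Y) ∪ N j) : AddSubgroup V) = ⊥) :
    ∏ i, Nat.card (fixV (N i : Set Y) : AddSubgroup V) ≤ Nat.card V := by
  classical
  rw [← Nat.card_pi]
  refine Nat.card_le_card_of_injective
    (fun f : ∀ i, (fixV (N i : Set Y) : AddSubgroup V) => ∑ i, (f i : V)) fun f g hfg => ?_
  simp only at hfg
  funext j
  haveI : Fintype ↥(N j) := Fintype.ofFinite _
  let P : V →+ V := ∑ x : ↥(N j), DistribSMul.toAddMonoidHom V (x : Y)
  have hPe : ∀ w, P w = ∑ x : ↥(N j), (x : Y) • w := fun w => by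
    simp only [P, AddMonoidHom.finsetSum_apply, DistribSMul.toAddMonoidHom_apply]
  have hkill : ∀ i, i ≠ j → ∀ w ∈ (fixV (N i : Set Y) : AddSubgroup V), P w = 0 := by
    intro i hij w hw
    have : P w ∈ (fixV ((N i : Set Y) ∪ N j) : AddSubgroup V) := by
      rw [mem_fixV, hPe]
      intro s hs
      rw [Finset.smul_sum]
      rcases hs with hs | hs
      · refine Finset.sum_congr rfl fun x _ => ?_
        rw [smul_smul, hcomm i j s hs x x.2, ← smul_smul, hw s hs]
      · refine Fintype.sum_equiv (Equiv.mulLeft (⟨s, hs⟩ : ↥(N j))) _ _ fun x => ?_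
        rw [smul_smul]; rfl
    rw [hpair i j hij] at this
    exact this
  have hfix : ∀ w ∈ (fixV (N j : Set Y) : AddSubgroup V), P w = Nat.card ↥(N j) • w := by
    intro w hw
    rw [hPe, Finset.sum_congr rfl (fun (x : ↥(N j)) _ => hw (x : Y) x.2), Finset.sum_const,
      Finset.card_univ, Nat.card_eq_fintype_card]
  have hPs : ∀ h : ∀ i, (fixV (N i : Set Y) : AddSubgroup V),
      P (∑ i, (h i : V)) = Nat.card ↥(N j) • (h j : V) := by
    intro h
    rw [map_sum, Finset.sum_eq_single j (fun i _ hij => hkill i hij _ (h i).2)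
      (fun hj => absurd (Finset.mem_univ j) hj), hfix _ (h j).2]
  have h1 := congrArg P hfg
  rw [hPs, hPs] at h1
  have h2 : Nat.card ↥(N j) • ((f j : V) - (g j : V)) = 0 := by rw [nsmul_sub, h1, sub_self]
  exact Subtype.ext (sub_eq_zero.mp (hH.smul_eq_zero (Subgroup.card_subgroup_dvd_card _) h2))

/-- Two commuting elements of order `r` which are independent do not act without fixed vectors. -/
theorem Hyp.exists_fixed (hH : Hyp B V) {r : ℕ} [Fact r.Prime] {x y : Y} (hxy : x * y = y * x)
    (hx : orderOf x = r) (hy : y ^ r = 1) (hne : y ∉ Subgroup.zpowers x) {w : V} (hw : w ≠ 0) :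
    ∃ g ∈ Subgroup.closure ({x, y} : Set Y), g ≠ 1 ∧ ∃ w' : V, w' ≠ 0 ∧ g • w' = w' := by
  classical
  by_contra hno
  push Not at hno
  have hr : r.Prime := Fact.out
  have hxmem : x ∈ Subgroup.closure ({x, y} : Set Y) := Subgroup.subset_closure (by simp)
  have hymem : y ∈ Subgroup.closure ({x, y} : Set Y) := Subgroup.subset_closure (by simp)
  have hsum : ∀ g ∈ Subgroup.closure ({x, y} : Set Y), g ≠ 1 → g ^ r = 1 → ∀ u : V,
      ∑ j ∈ Finset.range r, g ^ j • u = 0 := by
    intro g hg hg1 hgr u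
    by_contra hz
    refine hno g hg hg1 _ hz ?_
    have h1 := Finset.sum_range_succ' (fun j => g ^ j • u) r
    have h2 := Finset.sum_range_succ (fun j => g ^ j • u) r
    rw [Finset.smul_sum]
    have h3 : ∀ j, g • g ^ j • u = g ^ (j + 1) • u := fun j => by rw [smul_smul, pow_succ']
    simp only [h3]
    have h4 : ∑ j ∈ Finset.range r, g ^ (j + 1) • u + g ^ 0 • u =
        ∑ j ∈ Finset.range r, g ^ j • u + g ^ r • u := h1.symm.trans h2
    rw [pow_zero, hgr] at h4
    exact add_right_cancel h4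
  have hxr : x ^ r = 1 := hx ▸ pow_orderOf_eq_one x
  have hy1 : y ≠ 1 := fun h => hne (h ▸ one_mem _)
  have hxyi : ∀ i, x * y ^ i = y ^ i * x := fun i => (Commute.pow_right hxy i).eq
  have e1 : ∑ i ∈ Finset.range r, ∑ j ∈ Finset.range r, (x * y ^ i) ^ j • w = 0 := by
    refine Finset.sum_eq_zero fun i _ => hsum _ (mul_mem hxmem (pow_mem hymem i)) (fun h => ?_) ?_ w
    · have hyi : y ^ i ∈ Subgroup.zpowers x := by
        rw [eq_inv_of_mul_eq_one_right h]
        exact inv_mem (Subgroup.mem_zpowers x)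
      have hcop : i.Coprime r ∨ y ^ i = 1 := by
        by_cases hd : r ∣ i
        · obtain ⟨c, rfl⟩ := hd
          exact Or.inr (by rw [pow_mul, hy, one_pow])
        · exact Or.inl ((hr.coprime_iff_not_dvd.mpr hd).symm)
      rcases hcop with hc | hc
      · obtain ⟨k, hk⟩ := Nat.exists_mul_mod_eq_one_of_coprime hc hr.one_lt
        have : y = (y ^ i) ^ k := by
          rw [← pow_mul, pow_eq_pow_mod (i * k) hy, hk.2, pow_one]
        exact hne (this ▸ pow_mem hyi k)
      · rw [hc, mul_one] at h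
        rw [h, orderOf_one] at hx
        exact hr.one_lt.ne hx
    · rw [Commute.mul_pow (hxyi i), hxr, ← pow_mul, mul_comm, pow_mul, hy, one_pow, one_mul]
  rw [Finset.sum_comm] at e1
  have e2 : ∀ j ∈ Finset.range r, j ≠ 0 → ∑ i ∈ Finset.range r, (x * y ^ i) ^ j • w = 0 := by
    intro j hj hj0
    have hj' : ¬ r ∣ j := fun hd =>
      absurd (Nat.le_of_dvd (Nat.pos_of_ne_zero hj0) hd) (by rw [Finset.mem_range] at hj; omega)
    have hyj : y ^ j ≠ 1 := fun h => hj' (by
      have := orderOf_dvd_of_pow_eq_one h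
      rwa [orderOf_eq_prime hy hy1] at this)
    have : ∀ i, (x * y ^ i) ^ j • w = x ^ j • (y ^ j) ^ i • w := fun i => by
      rw [Commute.mul_pow (hxyi i), ← smul_smul, ← pow_mul, ← pow_mul, mul_comm i j]
    simp only [this, ← Finset.smul_sum]
    rw [hsum _ (pow_mem hymem j) hyj (by rw [← pow_mul, mul_comm, pow_mul, hy, one_pow]) w, smul_zero]
  rw [Finset.sum_eq_single_of_mem 0 (Finset.mem_range.mpr hr.pos) e2] at e1
  simp only [pow_zero, one_smul, Finset.sum_const, Finset.card_range] at e1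
  refine hw (hH.smul_eq_zero ?_ e1)
  rw [← hx]
  exact orderOf_dvd_natCard x

end Cfsg.Agent.Lib.DerangeIndex3.Linear
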