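import Cfsg.Agent.Lib.DerangeIndex3.LinearCyclic

/-!
# The normalised subgroup of class two
-/

set_option linter.style.haveILetI false
set_option linter.unusedSectionVars false

namespace Cfsg.Agent.Lib.DerangeIndex3.Linear

open MulAction Pointwise

universe u v

variable {Y : Type u} [Group Y] [Finite Y] {V : Type v} [AddCommGroup V] [Finite V]
  [DistribMulAction Y V] {B : Subgroup Y}

theorem pow_comm_of_central {x y c : Y} (h : y * x = x * y * c) (hy : Commute c y) (hx : Commute c x) :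
    ∀ n : ℕ, y * x ^ n = x ^ n * y * c ^ n
  | 0 => by simp
  | n + 1 => by
    rw [pow_succ, ← mul_assoc, pow_comm_of_central h hy hx n]
    calc x ^ n * y * c ^ n * x = x ^ n * y * (x * c ^ n) := by rw [mul_assoc, (hx.pow_left n).eq]
      _ = x ^ n * (y * x) * c ^ n := by group
      _ = x ^ n * (x * y * c) * c ^ n := by rw [h]
      _ = x ^ n * x * y * c ^ (n + 1) := by rw [pow_succ' c n]; group

theorem pow_mul_of_central {x y c : Y} (h : y * x = x * y * c) (hy : Commute c y) (hx : Commute c x) :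
    ∀ n : ℕ, (x * y) ^ n = x ^ n * y ^ n * c ^ n.choose 2
  | 0 => by simp
  | n + 1 => by
    have h' : y ^ n * x = x * y ^ n * c ^ n := by
      clear pow_mul_of_central
      induction n with
      | zero => simp
      | succ k ih =>
        rw [pow_succ', mul_assoc, ih]
        calc y * (x * y ^ k * c ^ k) = (y * x) * y ^ k * c ^ k := by group
          _ = x * y * (c * y ^ k) * c ^ k := by rw [h]; group
          _ = x * y * (y ^ k * c) * c ^ k := by rw [(hy.pow_right k).eq]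
          _ = x * (y * y ^ k) * c ^ (k + 1) := by rw [pow_succ']; group
    rw [pow_succ, pow_mul_of_central h hy hx n]
    have e1 : Commute (c ^ n.choose 2) (x * y) := (hx.pow_left _).mul_right (hy.pow_left _)
    calc x ^ n * y ^ n * c ^ n.choose 2 * (x * y) = x ^ n * y ^ n * ((x * y) * c ^ n.choose 2) := by
          rw [mul_assoc, e1.eq]
      _ = x ^ n * (y ^ n * x) * y * c ^ n.choose 2 := by group
      _ = x ^ n * (x * y ^ n) * (c ^ n * y) * c ^ n.choose 2 := by rw [h']; group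
      _ = x ^ n * (x * y ^ n) * (y * c ^ n) * c ^ n.choose 2 := by rw [(hy.pow_left n).eq]
      _ = x ^ (n + 1) * y ^ (n + 1) * c ^ (n + n.choose 2) := by
          rw [pow_succ, pow_succ, pow_add]; group
      _ = _ := by
          rw [show (n + 1).choose 2 = n + n.choose 2 by simp [Nat.choose_succ_succ]]

namespace Loc

variable {r : ℕ} [hr : Fact r.Prime] (Q : Loc V B r)

include Q in
theorem A_conj {g c : Y} (hg : g ∈ Q.R) (hc : c ∈ Q.A) : g * c * g⁻¹ ∈ Q.A := Q.conj_mem (Q.hRL hg) hc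

/-- The elements of the centraliser of `A` in `R` which are central of order dividing `r` modulo `A`. -/
def K : Subgroup Y where
  carrier := {x | x ∈ Q.R ∧ (∀ c ∈ Q.A, x * c = c * x) ∧ (∀ g ∈ Q.R, x * g * x⁻¹ * g⁻¹ ∈ Q.A) ∧
    x ^ r ∈ Q.A}
  mul_mem' := fun {x y} hx hy => by
    obtain ⟨hxR, hxc, hxg, hxr⟩ := hx
    obtain ⟨hyR, hyc, hyg, hyr⟩ := hy
    refine ⟨mul_mem hxR hyR, fun c hc => ?_, fun g hg => ?_, ?_⟩
    · rw [mul_assoc, hyc c hc, ← mul_assoc, hxc c hc, mul_assoc]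
    · have h1 := hyg g hg
      have : x * y * g * (x * y)⁻¹ * g⁻¹ = (y * g * y⁻¹ * g⁻¹) * (x * g * x⁻¹ * g⁻¹) := by
        calc x * y * g * (x * y)⁻¹ * g⁻¹ = x * (y * g * y⁻¹ * g⁻¹) * g * x⁻¹ * g⁻¹ := by group
          _ = (y * g * y⁻¹ * g⁻¹) * x * g * x⁻¹ * g⁻¹ := by rw [hxc _ h1]
          _ = _ := by group
      rw [this]
      exact mul_mem h1 (hxg g hg)
    · have hc : y⁻¹ * x⁻¹ * y * x ∈ Q.A := by
        have h1 := inv_mem (hyg _ (inv_mem hxR))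
        have h2 : y⁻¹ * x⁻¹ * y * x = (y * x⁻¹ * y⁻¹ * x⁻¹⁻¹)⁻¹ := by
          calc y⁻¹ * x⁻¹ * y * x = y⁻¹ * ((y * x⁻¹ * y⁻¹ * x⁻¹⁻¹)⁻¹ * y) := by group
            _ = y⁻¹ * (y * (y * x⁻¹ * y⁻¹ * x⁻¹⁻¹)⁻¹) := by rw [hyc _ h1]
            _ = _ := by group
        rw [h2]
        exact h1
      rw [pow_mul_of_central (c := y⁻¹ * x⁻¹ * y * x) (by group) (hyc _ hc).symm (hxc _ hc).symm r]
      exact mul_mem (mul_mem hxr hyr) (pow_mem hc _)
  one_mem' := ⟨one_mem _, fun c _ => by simp, fun g _ => by simp, by simp⟩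
  inv_mem' := fun {x} hx => by
    obtain ⟨hxR, hxc, hxg, hxr⟩ := hx
    refine ⟨inv_mem hxR, fun c hc => ?_, fun g hg => ?_, by rw [inv_pow]; exact inv_mem hxr⟩
    · rw [inv_mul_eq_iff_eq_mul, ← mul_assoc, hxc c hc, mul_inv_cancel_right]
    · have h1 := inv_mem (hxg g hg)
      have : x⁻¹ * g * x⁻¹⁻¹ * g⁻¹ = (x * g * x⁻¹ * g⁻¹)⁻¹ := by
        calc x⁻¹ * g * x⁻¹⁻¹ * g⁻¹ = x⁻¹ * (x * g * x⁻¹ * g⁻¹)⁻¹ * x := by group
          _ = x⁻¹ * ((x * g * x⁻¹ * g⁻¹)⁻¹ * x) := by group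
          _ = x⁻¹ * (x * (x * g * x⁻¹ * g⁻¹)⁻¹) := by rw [hxc _ h1]
          _ = _ := by group
      rw [this]
      exact h1

theorem K_le_R : Q.K ≤ Q.R := fun _ h => h.1
theorem K_commA {x c : Y} (hx : x ∈ Q.K) (hc : c ∈ Q.A) : x * c = c * x := hx.2.1 c hc
theorem K_pow {x : Y} (hx : x ∈ Q.K) : x ^ r ∈ Q.A := hx.2.2.2

theorem A_le_K [FaithfulSMul Y V] [Nontrivial V] : Q.A ≤ Q.K := fun x hx =>
  ⟨Q.hAR hx, fun _ hc => Q.comm hx hc, fun g hg => by
    have := mul_mem hx (Q.A_conj hg (inv_mem hx))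
    simpa [mul_assoc] using this, pow_mem hx r⟩

/-- A normalised subgroup of the centraliser of `A` which is not inside `A` meets `K` outside `A`. -/
theorem exists_mem_K (W : Subgroup Y) (hW : W ≤ Q.R) (hWc : ∀ x ∈ W, ∀ c ∈ Q.A, x * c = c * x)
    (hWn : ∀ g ∈ Q.R, ∀ x ∈ W, g * x * g⁻¹ ∈ W) (hne : ¬ W ≤ Q.A) :
    ∃ x ∈ W, x ∈ Q.K ∧ x ∉ Q.A := by
  let A' : Subgroup ↥Q.R := Q.A.subgroupOf Q.R
  let W' : Subgroup ↥Q.R := W.subgroupOf Q.R
  haveI : A'.Normal := ⟨fun n hn g => Q.A_conj g.2 hn⟩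
  haveI : W'.Normal := ⟨fun n hn g => hWn g g.2 n hn⟩
  let π := QuotientGroup.mk' A'
  haveI : (W'.map π).Normal := Subgroup.Normal.map inferInstance π (QuotientGroup.mk'_surjective A')
  have hne' : W'.map π ≠ ⊥ := fun h => hne (fun x hx => by
    have : π ⟨x, hW hx⟩ ∈ W'.map π := ⟨_, hx, rfl⟩
    rw [h, Subgroup.mem_bot] at this
    exact (QuotientGroup.eq_one_iff (⟨x, hW hx⟩ : ↥Q.R)).mp this)
  have hp : IsPGroup r (↥Q.R ⧸ A') := Q.hRr.to_quotient A'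
  have hne'' := PGroups.normal_inf_center_ne_bot hp _ hne'
  let M := W'.map π ⊓ Subgroup.center (↥Q.R ⧸ A')
  have hdvd : r ∣ Nat.card ↥M := by
    obtain ⟨k, hk⟩ := IsPGroup.iff_card.mp (hp.to_subgroup M)
    rw [hk]
    refine dvd_pow_self r fun h0 => hne'' (Subgroup.card_eq_one.mp ?_)
    rw [hk, h0, pow_zero]
  obtain ⟨⟨g, ⟨⟨⟨x, hxR⟩, hxW, rfl⟩, hgc⟩⟩, hgr⟩ := exists_prime_orderOf_dvd_card' r hdvd
  refine ⟨x, hxW, ⟨hxR, hWc x hxW, fun g hg => ?_, ?_⟩, fun hxA => ?_⟩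
  · have h2 := Subgroup.mem_center_iff.mp hgc (π ⟨g, hg⟩)
    have h3 : π (⟨x, hxR⟩ * ⟨g, hg⟩ * (⟨x, hxR⟩ : ↥Q.R)⁻¹ * (⟨g, hg⟩ : ↥Q.R)⁻¹) = 1 := by
      rw [map_mul, map_mul, map_mul, map_inv, map_inv, ← h2]
      group
    exact (QuotientGroup.eq_one_iff (N := A') _).mp h3
  · have h2 := orderOf_dvd_iff_pow_eq_one.mp (dvd_of_eq hgr)
    have h3 : π (⟨x, hxR⟩ ^ r) = 1 := by rw [map_pow]; exact congrArg Subtype.val h2
    exact (QuotientGroup.eq_one_iff (N := A') _).mp h3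
  · have h3 : π ⟨x, hxR⟩ = 1 := (QuotientGroup.eq_one_iff _).mpr hxA
    refine hr.out.one_lt.ne (hgr ▸ ?_)
    rw [eq_comm, orderOf_eq_one_iff]
    exact Subtype.ext h3

theorem L_le_normalizer_K : Q.L ≤ Subgroup.normalizer (Q.K : Set Y) := by
  intro l hl
  have key : ∀ l ∈ Q.L, ∀ x ∈ Q.K, l * x * l⁻¹ ∈ Q.K := by
    intro l hl x hx
    obtain ⟨hxR, hxc, hxg, hxr⟩ := hx
    have hR : ∀ l ∈ Q.L, ∀ g ∈ Q.R, l * g * l⁻¹ ∈ Q.R := fun l hl g hg =>
      (Subgroup.mem_normalizer_iff.mp (Q.hLR hl) g).mp hg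
    refine ⟨hR l hl x hxR, fun c hc => ?_, fun g hg => ?_, ?_⟩
    · calc l * x * l⁻¹ * c = l * (x * (l⁻¹ * c * l)) * l⁻¹ := by group
        _ = l * ((l⁻¹ * c * l) * x) * l⁻¹ := by rw [hxc _ (Q.conj_mem' hl hc)]
        _ = c * (l * x * l⁻¹) := by group
    · have h1 : l⁻¹ * g * l ∈ Q.R := by have := hR l⁻¹ (inv_mem hl) g hg; rwa [inv_inv] at this
      have := Q.conj_mem hl (hxg _ h1)
      convert this using 1
      group
    · rw [conj_pow]
      exact Q.conj_mem hl hxr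
  refine Subgroup.mem_normalizer_iff.mpr fun x => ⟨key l hl x, fun h => ?_⟩
  have := key l⁻¹ (inv_mem hl) _ h
  convert this using 1
  group

/-- The centre of `K` is `A`. -/
theorem mem_A_of_central [FaithfulSMul Y V] [Nontrivial V] {x : Y} (hx : x ∈ Q.K)
    (hc : ∀ y ∈ Q.K, x * y = y * x) : x ∈ Q.A := by
  let Z : Subgroup Y := Q.K ⊓ Subgroup.centralizer (Q.K : Set Y)
  refine Q.hAmax Z (inf_le_left.trans Q.K_le_R)
    (fun a ha b hb => Subgroup.mem_centralizer_iff.mp hb.2 a ha.1) ?_ ?_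
    ⟨hx, Subgroup.mem_centralizer_iff.mpr fun y hy => (hc y hy).symm⟩
  · intro l hl
    have hK := Subgroup.mem_normalizer_iff.mp (Q.L_le_normalizer_K hl)
    refine Subgroup.mem_normalizer_iff.mpr fun y => ⟨fun hy => ⟨(hK y).mp hy.1, ?_⟩, fun hy => ⟨(hK y).mpr hy.1, ?_⟩⟩
    · refine Subgroup.mem_centralizer_iff.mpr fun k hk => ?_
      have h1 : l⁻¹ * k * l ∈ Q.K := (hK _).mpr (by simpa [mul_assoc] using hk)
      have := Subgroup.mem_centralizer_iff.mp hy.2 _ h1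
      calc k * (l * y * l⁻¹) = l * ((l⁻¹ * k * l) * y) * l⁻¹ := by group
        _ = l * (y * (l⁻¹ * k * l)) * l⁻¹ := by rw [this]
        _ = _ := by group
    · refine Subgroup.mem_centralizer_iff.mpr fun k hk => ?_
      have := Subgroup.mem_centralizer_iff.mp hy.2 _ ((hK k).mp hk)
      calc k * y = l⁻¹ * ((l * k * l⁻¹) * (l * y * l⁻¹)) * l := by group
        _ = l⁻¹ * ((l * y * l⁻¹) * (l * k * l⁻¹)) * l := by rw [this]
        _ = _ := by group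
  · exact fun c hc' => ⟨Q.A_le_K hc', Subgroup.mem_centralizer_iff.mpr fun y hy => Q.K_commA hy hc'⟩

/-- The commutator map of an element of `K`. -/
theorem K_comm_mem [FaithfulSMul Y V] [Nontrivial V] {e k : Y} (he : e ∈ Q.K) (hk : k ∈ Q.K) :
    e⁻¹ * k * e * k⁻¹ ∈ Subgroup.zpowers Q.z := by
  have hc : e⁻¹ * k * e * k⁻¹ ∈ Q.A := by
    have h1 := (inv_mem he).2.2.1 k hk.1
    rwa [inv_inv] at h1
  refine Q.mem_zpowers_z hc ?_
  have e1 : k * e = e * k * (k⁻¹ * e⁻¹ * k * e) := by group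
  have e2 : k⁻¹ * e⁻¹ * k * e = e⁻¹ * k * e * k⁻¹ := by
    calc k⁻¹ * e⁻¹ * k * e = k⁻¹ * ((e⁻¹ * k * e * k⁻¹) * k) := by group
      _ = k⁻¹ * (k * (e⁻¹ * k * e * k⁻¹)) := by rw [Q.K_commA hk hc]
      _ = _ := by group
  rw [e2] at e1
  have h2 := pow_comm_of_central e1 (Q.K_commA hk hc).symm (Q.K_commA he hc).symm r
  have h3 := Q.K_commA hk (Q.K_pow he)
  rw [h3] at h2
  exact (mul_left_cancel (a := e ^ r * k) (by rw [mul_one]; exact h2.symm))

/-- The commutator map of an element of `K`, as a homomorphism. -/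
def ψ [FaithfulSMul Y V] [Nontrivial V] {e : Y} (he : e ∈ Q.K) : ↥Q.K →* Y where
  toFun k := e⁻¹ * k * e * (k : Y)⁻¹
  map_one' := by simp
  map_mul' a b := by
    have hb : e⁻¹ * b * e * (b : Y)⁻¹ ∈ Q.A :=
      (Subgroup.zpowers_le.mpr Q.hzA) (Q.K_comm_mem he b.2)
    simp only [Subgroup.coe_mul, mul_inv_rev]
    calc e⁻¹ * ((a : Y) * b) * e * ((b : Y)⁻¹ * (a : Y)⁻¹)
        = e⁻¹ * a * e * ((e⁻¹ * b * e * (b : Y)⁻¹) * (a : Y)⁻¹) := by group
      _ = e⁻¹ * a * e * ((a : Y)⁻¹ * (e⁻¹ * b * e * (b : Y)⁻¹)) := by rw [Q.K_commA (inv_mem a.2) hb]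
      _ = _ := by group

theorem ψ_mem [FaithfulSMul Y V] [Nontrivial V] {e : Y} (he : e ∈ Q.K) (k : ↥Q.K) :
    Q.ψ he k ∈ Subgroup.zpowers Q.z := Q.K_comm_mem he k.2

theorem conj_eq [FaithfulSMul Y V] [Nontrivial V] {e : Y} (he : e ∈ Q.K) (k : ↥Q.K) :
    (k : Y) * e * (k : Y)⁻¹ = e * Q.ψ he k := by
  show _ = e * (e⁻¹ * k * e * (k : Y)⁻¹)
  group

theorem ψ_eq_one_iff [FaithfulSMul Y V] [Nontrivial V] {e : Y} (he : e ∈ Q.K) (k : ↥Q.K) :
    Q.ψ he k = 1 ↔ (k : Y) * e = e * k := by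
  show e⁻¹ * k * e * (k : Y)⁻¹ = 1 ↔ _
  rw [mul_inv_eq_one, mul_assoc, inv_mul_eq_iff_eq_mul]

theorem range_ψ [FaithfulSMul Y V] [Nontrivial V] {e : Y} (he : e ∈ Q.K) (heA : e ∉ Q.A) :
    (Q.ψ he).range = Subgroup.zpowers Q.z := by
  refine Subgroup.eq_of_le_of_card_ge (fun x ⟨k, hk⟩ => hk ▸ Q.ψ_mem he k) ?_
  rw [Nat.card_zpowers, Q.hz]
  have hdvd : Nat.card ↥(Q.ψ he).range ∣ r := by
    have := Subgroup.card_dvd_of_le (H := (Q.ψ he).range) (K := Subgroup.zpowers Q.z)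
      (fun x ⟨k, hk⟩ => hk ▸ Q.ψ_mem he k)
    exact this.trans (dvd_of_eq ((Nat.card_zpowers Q.z).trans Q.hz))
  rcases (Nat.dvd_prime hr.out).mp hdvd with h | h
  · exfalso
    refine heA (Q.mem_A_of_central he fun y hy => ?_)
    have h1 : Q.ψ he ⟨y, hy⟩ ∈ (Q.ψ he).range := ⟨_, rfl⟩
    rw [Subgroup.card_eq_one.mp h, Subgroup.mem_bot, Q.ψ_eq_one_iff] at h1
    exact h1.symm
  · exact h.ge

theorem exists_ψ [FaithfulSMul Y V] [Nontrivial V] {e : Y} (he : e ∈ Q.K) (heA : e ∉ Q.A) (i : ℕ) :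
    ∃ k ∈ Q.K, k * e * k⁻¹ = e * Q.z ^ i := by
  have : Q.z ^ i ∈ (Q.ψ he).range := by
    rw [Q.range_ψ he heA]
    exact pow_mem (Subgroup.mem_zpowers _) i
  obtain ⟨k, hk⟩ := this
  exact ⟨k, k.2, by rw [Q.conj_eq he k, hk]⟩

theorem relIndex_cent [FaithfulSMul Y V] [Nontrivial V] {e : Y} (he : e ∈ Q.K) (heA : e ∉ Q.A) :
    (Subgroup.centralizer ({e} : Set Y)).relIndex Q.K = r := by
  have hk : (Q.ψ he).ker = (Subgroup.centralizer ({e} : Set Y)).subgroupOf Q.K := by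
    ext k
    rw [MonoidHom.mem_ker, Q.ψ_eq_one_iff, Subgroup.mem_subgroupOf,
      Subgroup.mem_centralizer_singleton_iff]
  rw [Subgroup.relIndex, ← hk, Subgroup.index_ker, Q.range_ψ he heA, Nat.card_zpowers, Q.hz]

/-- The index of `A` in `K` is at most the square of the dimension. -/
theorem relIndex_A_le [FaithfulSMul Y V] [Nontrivial V] {q : ℕ} [Fact q.Prime] [Module (ZMod q) V] :
    Q.A.relIndex Q.K ≤ (Module.finrank (ZMod q) V) ^ 2 := by
  classical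
  haveI := Fintype.ofFinite (↥Q.K ⧸ Q.A.subgroupOf Q.K)
  haveI := Fintype.ofFinite ↥Q.K
  let T : (↥Q.K ⧸ Q.A.subgroupOf Q.K) → (V →ₗ[ZMod q] V) := fun i =>
    (DistribSMul.toAddMonoidHom V ((i.out : ↥Q.K) : Y)).toZModLinearMap q
  have hlin : LinearIndependent (ZMod q) T := by
    rw [Fintype.linearIndependent_iff]
    intro g hg j
    by_contra hj
    obtain ⟨v, hv⟩ := exists_ne (0 : V)
    let kk : (↥Q.K ⧸ Q.A.subgroupOf Q.K) → ↥Q.K := fun i => i.out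
    let c : (↥Q.K ⧸ Q.A.subgroupOf Q.K) → ↥Q.K → Y := fun i x => Q.ψ (kk i).2 x
    have hmap : ∀ (y : Y) (a : ZMod q) (w : V), y • a • w = a • y • w := fun y a w =>
      ((DistribSMul.toAddMonoidHom V y).toZModLinearMap q).map_smul a w
    have h1 : ∀ x : ↥Q.K, ∑ i, g i • ((c j x)⁻¹ * ((kk i : Y) * c i x)) • v = 0 := by
      intro x
      have h2 : ∑ i, g i • ((kk i : Y) • (x : Y)⁻¹ • v) = 0 := by
        have := LinearMap.congr_fun hg ((x : Y)⁻¹ • v)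
        simpa [T] using this
      have h3 : ((c j x)⁻¹ * (x : Y)) • (0 : V) = 0 := smul_zero _
      rw [← h2, Finset.smul_sum] at h3
      refine Eq.trans ?_ (h3.trans h2)
      refine Finset.sum_congr rfl fun i _ => ?_
      rw [hmap, smul_smul, smul_smul, ← Q.conj_eq (kk i).2 x]
      congr 2
      group
    have h2 : ∑ i, g i • (∑ x : ↥Q.K, ((c j x)⁻¹ * ((kk i : Y) * c i x)) • v) = 0 := by
      simp only [Finset.smul_sum]
      rw [Finset.sum_comm]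
      exact Finset.sum_eq_zero fun x _ => h1 x
    have hcA : ∀ i x, c i x ∈ Q.A := fun i x =>
      (Subgroup.zpowers_le.mpr Q.hzA) (Q.ψ_mem (kk i).2 x)
    have hzero : ∀ i, i ≠ j → ∑ x : ↥Q.K, ((c j x)⁻¹ * ((kk i : Y) * c i x)) • v = 0 := by
      intro i hij
      let h : ↥Q.K → Y := fun x => (c j x)⁻¹ * c i x
      have hmul : ∀ x y, h (x * y) = h x * h y := by
        intro x y
        simp only [h, c, map_mul, mul_inv_rev]
        have e1 := Q.comm (mul_mem (inv_mem (hcA j y)) (inv_mem (hcA j x))) (hcA i x)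
        have e2 := Q.comm (inv_mem (hcA j y)) (inv_mem (hcA j x))
        have e3 := Q.comm (inv_mem (hcA j y)) (hcA i x)
        simp only [c] at e1 e2 e3
        calc _ = ((Q.ψ (kk j).2 y)⁻¹ * (Q.ψ (kk j).2 x)⁻¹) * Q.ψ (kk i).2 x * Q.ψ (kk i).2 y := by group
          _ = (Q.ψ (kk j).2 x)⁻¹ * ((Q.ψ (kk j).2 y)⁻¹ * Q.ψ (kk i).2 x) * Q.ψ (kk i).2 y := by
              rw [e2]; group
          _ = (Q.ψ (kk j).2 x)⁻¹ * (Q.ψ (kk i).2 x * (Q.ψ (kk j).2 y)⁻¹) * Q.ψ (kk i).2 y := by rw [e3]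
          _ = _ := by group
      obtain ⟨x₀, hx₀⟩ : ∃ x₀, h x₀ ≠ 1 := by
        by_contra hcon
        push Not at hcon
        refine hij ?_
        rw [← Quotient.out_eq i, ← Quotient.out_eq j]
        refine (QuotientGroup.eq.mpr ?_).symm
        rw [Subgroup.mem_subgroupOf]
        refine Q.mem_A_of_central ((kk j)⁻¹ * kk i).2 fun y hy => ?_
        have h4 : c i ⟨y, hy⟩ = c j ⟨y, hy⟩ := (inv_mul_eq_one.mp (hcon ⟨y, hy⟩)).symm
        have e1 := Q.conj_eq (kk i).2 ⟨y, hy⟩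
        have e2 := Q.conj_eq (kk j).2 ⟨y, hy⟩
        rw [show Q.ψ (kk i).2 ⟨y, hy⟩ = c i ⟨y, hy⟩ from rfl, h4] at e1
        rw [show Q.ψ (kk j).2 ⟨y, hy⟩ = c j ⟨y, hy⟩ from rfl] at e2
        have e3 : y * (((kk j : Y))⁻¹ * kk i) * y⁻¹ = ((kk j : Y))⁻¹ * kk i := by
          calc y * (((kk j : Y))⁻¹ * kk i) * y⁻¹ = (y * kk j * y⁻¹)⁻¹ * (y * kk i * y⁻¹) := by group
            _ = ((kk j : Y) * c j ⟨y, hy⟩)⁻¹ * ((kk i : Y) * c j ⟨y, hy⟩) := by rw [e1, e2]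
            _ = (c j ⟨y, hy⟩)⁻¹ * ((((kk j : Y))⁻¹ * kk i) * c j ⟨y, hy⟩) := by group
            _ = (c j ⟨y, hy⟩)⁻¹ * (c j ⟨y, hy⟩ * (((kk j : Y))⁻¹ * kk i)) := by
                rw [Q.K_commA (mul_mem (inv_mem (kk j).2) (kk i).2) (hcA j _)]
            _ = _ := by group
        rw [mul_inv_eq_iff_eq_mul] at e3
        simpa [kk] using e3.symm
      have e1 : ∀ x, (c j x)⁻¹ * ((kk i : Y) * c i x) = h x * (kk i : Y) := by
        intro x
        have := Q.K_commA (kk i).2 (hcA i x)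
        rw [this, ← mul_assoc]
      simp only [e1, ← smul_smul]
      refine Q.hfpf (h x₀) (mul_mem (inv_mem (hcA j x₀)) (hcA i x₀)) hx₀ _ ?_
      rw [Finset.smul_sum]
      refine Fintype.sum_equiv (Equiv.mulLeft x₀) _ _ fun x => ?_
      rw [smul_smul, ← hmul]; rfl
    rw [Finset.sum_eq_single j (fun i _ hij => by rw [hzero i hij, smul_zero])
      (fun h => absurd (Finset.mem_univ j) h)] at h2
    have hjj : ∀ x, (c j x)⁻¹ * ((kk j : Y) * c j x) = (kk j : Y) := fun x => by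
      rw [Q.K_commA (kk j).2 (hcA j x), inv_mul_cancel_left]
    simp only [hjj, Finset.sum_const, Finset.card_univ] at h2
    rw [smul_eq_zero, or_iff_right hj, ← Nat.card_eq_fintype_card] at h2
    have h5 := Q.hH.smul_eq_zero (Subgroup.card_subgroup_dvd_card _) h2
    exact hv ((smul_eq_zero_iff_eq _).mp h5)
  have := hlin.fintype_card_le_finrank
  rw [Module.finrank_linearMap, ← Nat.card_eq_fintype_card, ← Subgroup.index_eq_card, ← sq] at this
  exact this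

end Loc

end Cfsg.Agent.Lib.DerangeIndex3.Linear
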