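import Cfsg.Agent.Lib.DerangeIndex3.LinearSylow

/-!
# The case of a self-centralising cyclic subgroup
-/

set_option linter.style.haveILetI false
set_option linter.unusedSectionVars false

namespace Cfsg.Agent.Lib.DerangeIndex3.Linear

open MulAction Pointwise

universe u v

variable {Y : Type u} [Group Y] [Finite Y] {V : Type v} [AddCommGroup V] [Finite V]
  [DistribMulAction Y V] {B : Subgroup Y}

namespace Loc

variable {r : ℕ} [hr : Fact r.Prime] (Q : Loc V B r)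

include Q in
theorem conj_mem {x c : Y} (hx : x ∈ Q.L) (hc : c ∈ Q.A) : x * c * x⁻¹ ∈ Q.A :=
  (Subgroup.mem_normalizer_iff.mp (Q.hLA hx) c).mp hc

include Q in
theorem conj_mem' {x c : Y} (hx : x ∈ Q.L) (hc : c ∈ Q.A) : x⁻¹ * c * x ∈ Q.A := by
  have := Q.conj_mem (inv_mem hx) hc
  rwa [inv_inv] at this

theorem zpowers_z_eq [FaithfulSMul Y V] [Nontrivial V] {x : Y} (hx : x ∈ Q.A) (hxr : orderOf x = r) :
    Subgroup.zpowers x = Subgroup.zpowers Q.z :=
  Subgroup.eq_of_le_of_card_ge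
    (Subgroup.zpowers_le.mpr (Q.mem_zpowers_z hx (orderOf_dvd_iff_pow_eq_one.mp (dvd_of_eq hxr))))
    (le_of_eq (by rw [Nat.card_zpowers, Nat.card_zpowers, Q.hz, hxr]))

/-- `R` centralises `z`. -/
theorem z_comm [FaithfulSMul Y V] [Nontrivial V] {x : Y} (hx : x ∈ Q.R) : x * Q.z = Q.z * x := by
  let N : Subgroup ↥Q.R := (Subgroup.zpowers Q.z).subgroupOf Q.R
  haveI : N.Normal := ⟨fun n hn g => by
    simp only [N, Subgroup.mem_subgroupOf, Subgroup.coe_mul, InvMemClass.coe_inv] at hn ⊢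
    refine Q.mem_zpowers_z (Q.conj_mem (Q.hRL g.2) ((Subgroup.zpowers_le.mpr Q.hzA) hn)) ?_
    obtain ⟨k, hk⟩ := hn
    rw [conj_pow, show (n : Y) = Q.z ^ k from hk.symm, ← zpow_natCast, ← zpow_mul, mul_comm, zpow_mul,
      zpow_natCast, Q.z_pow, one_zpow, mul_one, mul_inv_cancel]⟩
  have hNne : N ≠ ⊥ := fun h => Q.z_ne_one (by
    have : (⟨Q.z, Q.hAR Q.hzA⟩ : ↥Q.R) ∈ N := Subgroup.mem_zpowers Q.z
    rw [h, Subgroup.mem_bot] at this
    exact congrArg Subtype.val this)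
  obtain ⟨⟨c, hc⟩, hc1⟩ := Subgroup.ne_bot_iff_exists_ne_one.mp
    (PGroups.normal_inf_center_ne_bot Q.hRr N hNne)
  have hcA : (c : Y) ∈ Q.A := Subgroup.zpowers_le.mpr Q.hzA (hc.1 : (c : Y) ∈ Subgroup.zpowers Q.z)
  have hc1' : (c : Y) ≠ 1 := fun h => hc1 (Subtype.ext (Subtype.ext h))
  have hcr : orderOf (c : Y) = r := by
    refine orderOf_eq_prime ?_ hc1'
    obtain ⟨k, hk⟩ := (hc.1 : (c : Y) ∈ Subgroup.zpowers Q.z)
    rw [show (c : Y) = Q.z ^ k from hk.symm, ← zpow_natCast, ← zpow_mul, mul_comm, zpow_mul,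
      zpow_natCast, Q.z_pow, one_zpow]
  have hzc : Q.z ∈ Subgroup.zpowers (c : Y) := (Q.zpowers_z_eq hcA hcr).symm ▸ Subgroup.mem_zpowers Q.z
  obtain ⟨k, hk⟩ := hzc
  have hcx : Commute x (c : Y) :=
    congrArg Subtype.val (Subgroup.mem_center_iff.mp hc.2 ⟨x, hx⟩)
  exact (show Q.z = (c : Y) ^ k from hk.symm) ▸ (hcx.zpow_right k).eq

theorem orbit_zpowers {w : V} (hw0 : w ≠ 0) : r ≤ (orbit ↥(Subgroup.zpowers Q.z) w).ncard := by
  have h : (Set.range fun i : Fin r => Q.z ^ (i : ℕ) • w) ⊆ orbit ↥(Subgroup.zpowers Q.z) w := by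
    rintro _ ⟨i, rfl⟩
    exact ⟨⟨_, pow_mem (Subgroup.mem_zpowers Q.z) _⟩, rfl⟩
  have := Set.ncard_le_ncard h (Set.toFinite _)
  rw [Set.ncard_range_of_injective, Nat.card_eq_fintype_card, Fintype.card_fin] at this
  · exact this
  · intro i j hij
    by_contra hne
    have h1 : (Q.z ^ (i : ℕ))⁻¹ * Q.z ^ (j : ℕ) ≠ 1 := fun h => hne (Fin.ext
      (pow_injOn_Iio_orderOf (by simp [Q.hz]) (by simp [Q.hz]) (inv_mul_eq_one.mp h)))
    refine hw0 (Q.hfpf _ (mul_mem (inv_mem (pow_mem Q.hzA _)) (pow_mem Q.hzA _)) h1 w ?_)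
    rw [← smul_smul, inv_smul_eq_iff]
    exact hij.symm

/-- The case of a self-centralising cyclic normalised subgroup is impossible. -/
theorem false_of_selfCentralizing [FaithfulSMul Y V] [Nontrivial V]
    (hC : Q.R ⊓ Subgroup.centralizer (Q.A : Set Y) ≤ Q.A)
    {e : Y} (he : e ∈ Q.R) (her : orderOf e = r) {w : V} (hw : e • w = w) (hw0 : w ≠ 0) : False := by
  classical
  haveI := Fintype.ofFinite Y
  have heL : e ∈ Q.L := Q.hRL he
  have he1 : e ≠ 1 := fun h => by rw [h, orderOf_one] at her; exact hr.out.one_lt.ne her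
  have her' : e ^ r = 1 := orderOf_dvd_iff_pow_eq_one.mp (dvd_of_eq her)
  let φ : ↥Q.A →* Y :=
    { toFun := fun c => e⁻¹ * c * e * (c : Y)⁻¹
      map_one' := by simp
      map_mul' := fun c d => by
        have h1 := Q.comm (mul_mem (Q.conj_mem' heL d.2) (inv_mem d.2)) (inv_mem c.2)
        simp only [Subgroup.coe_mul, mul_inv_rev]
        calc e⁻¹ * ((c : Y) * d) * e * ((d : Y)⁻¹ * (c : Y)⁻¹)
            = e⁻¹ * c * e * ((e⁻¹ * d * e * (d : Y)⁻¹) * (c : Y)⁻¹) := by group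
          _ = e⁻¹ * c * e * ((c : Y)⁻¹ * (e⁻¹ * d * e * (d : Y)⁻¹)) := by rw [h1]
          _ = e⁻¹ * c * e * (c : Y)⁻¹ * (e⁻¹ * d * e * (d : Y)⁻¹) := by group }
  obtain ⟨c₀, hc₀⟩ : ∃ c₀, φ c₀ ≠ 1 := by
    by_contra hcon
    push Not at hcon
    have hmem : e ∈ Q.A := hC ⟨he, Subgroup.mem_centralizer_iff.mpr fun c hc => by
      have : e⁻¹ * c * e * c⁻¹ = 1 := hcon ⟨c, hc⟩
      rw [mul_inv_eq_one, mul_assoc, inv_mul_eq_iff_eq_mul] at this
      exact this⟩
    exact hw0 (Q.hfpf e hmem he1 w hw)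
  obtain ⟨k, hk⟩ := Q.exists_rpow (mul_mem (Q.conj_mem' heL c₀.2) (inv_mem c₀.2)) hc₀
  have hzmem : Q.z ∈ Subgroup.zpowers (φ c₀ ^ k) :=
    (Q.zpowers_z_eq (pow_mem (mul_mem (Q.conj_mem' heL c₀.2) (inv_mem c₀.2)) k) hk).symm ▸
      Subgroup.mem_zpowers Q.z
  obtain ⟨j, hj⟩ := hzmem
  have hconj : ∀ i : ℕ, ∃ c ∈ Q.A, c * e * c⁻¹ = e * Q.z ^ i := by
    intro i
    let c : ↥Q.A := ((c₀ ^ k) ^ j) ^ i
    have h1 : φ c = Q.z ^ i := by
      simp only [c, map_pow, map_zpow]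
      exact congrArg (· ^ i) hj
    refine ⟨c, c.2, ?_⟩
    rw [← h1]
    show (c : Y) * e * (c : Y)⁻¹ = e * (e⁻¹ * c * e * (c : Y)⁻¹)
    group
  have hpow := Q.pow_card_fix_le (e := e) (Q.z_comm he).symm hconj
  have hJ : Subgroup.zpowers Q.z ≤ Q.L ⊓ Subgroup.centralizer {e} ⊓ B :=
    Subgroup.zpowers_le.mpr ⟨⟨Q.hRL (Q.hAR Q.hzA),
      Subgroup.mem_centralizer_singleton_iff.mpr (Q.z_comm he).symm⟩, Q.hRB (Q.hAR Q.hzA)⟩
  have h1 := le_trans (Nat.add_le_add_right (Nat.mul_le_mul_left _ (Q.orbit_zpowers hw0)) 1)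
    (Q.fix_bound hw hw0 hJ)
  have h2 := Q.index_le e
  -- the conjugates of `e`
  let F : Subgroup Y := Q.A ⊓ Subgroup.centralizer {e}
  let S : Finset Y := Finset.univ.filter fun c => c ∈ Q.A ∧ (c * e) ^ r = 1
  have himg : ((fun l => l * e * l⁻¹) '' (Q.L : Set Y)).ncard ≤ S.card := by
    have hsub : (fun l => l * e * l⁻¹) '' (Q.L : Set Y) ⊆ (fun c => c * e) '' (S : Set Y) := by
      rintro _ ⟨l, hl, rfl⟩
      refine ⟨l * e * l⁻¹ * e⁻¹, ?_, inv_mul_cancel_right _ _⟩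
      simp only [S, Finset.coe_filter, Finset.mem_univ, true_and, Set.mem_ofPred_eq, inv_mul_cancel_right]
      refine ⟨hC ⟨Q.R.mul_mem ((Subgroup.mem_normalizer_iff.mp (Q.hLR hl) e).mp he) (Q.R.inv_mem he),
        Subgroup.mem_centralizer_iff.mpr fun c hc => ?_⟩, ?_⟩
      · -- `l` and `e` induce powers on the cyclic group, so their automorphisms commute
        have pw : ∀ x ∈ Q.L, ∃ n : ℤ, ∀ c ∈ Q.A, x * c * x⁻¹ = c ^ n := by
          intro x hx
          have hxa : x * Q.a * x⁻¹ ∈ Q.A := Q.conj_mem hx (Q.hA ▸ Subgroup.mem_zpowers Q.a)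
          rw [Q.hA] at hxa
          obtain ⟨n, hn⟩ := hxa
          refine ⟨n, fun c hc => ?_⟩
          rw [Q.hA] at hc
          obtain ⟨i, rfl⟩ := hc
          simp only at hn ⊢
          rw [← conj_zpow, ← hn, ← zpow_mul, ← zpow_mul, mul_comm]
        obtain ⟨n, hn⟩ := pw l hl
        obtain ⟨q, hq⟩ := pw e⁻¹ (inv_mem heL)
        have h3 : ∀ d ∈ Q.A, l * e * l⁻¹ * (e⁻¹ * d * e) * l * e⁻¹ * l⁻¹ = d := by
          intro d hd
          have e1 : e⁻¹ * d * e = d ^ q := by simpa using hq d hd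
          have hd' : l⁻¹ * d * l ∈ Q.A := Q.conj_mem' hl hd
          have e2 : e⁻¹ * (l⁻¹ * d * l) * e = (l⁻¹ * d * l) ^ q := by simpa using hq _ hd'
          have e3 : l * (e⁻¹ * (l⁻¹ * d * l) * e) * l⁻¹ = d ^ q := by
            rw [e2, ← conj_zpow]
            group
          calc l * e * l⁻¹ * (e⁻¹ * d * e) * l * e⁻¹ * l⁻¹
              = l * e * l⁻¹ * (l * (e⁻¹ * (l⁻¹ * d * l) * e) * l⁻¹) * l * e⁻¹ * l⁻¹ := by rw [e3, e1]
            _ = d := by group
        have h4 := h3 c hc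
        calc c * (l * e * l⁻¹ * e⁻¹) =
            (l * e * l⁻¹ * (e⁻¹ * c * e) * l * e⁻¹ * l⁻¹) * (l * e * l⁻¹ * e⁻¹) := by rw [h4]
          _ = l * e * l⁻¹ * e⁻¹ * c := by group
      · rw [conj_pow, her']; group
    calc _ ≤ ((fun c => c * e) '' (S : Set Y)).ncard := Set.ncard_le_ncard hsub (Set.toFinite _)
      _ ≤ (S : Set Y).ncard := Set.ncard_image_le (Set.toFinite _)
      _ = S.card := Set.ncard_coe_finset S
  have hSF : S.card * Nat.card ↥F ≤ r * Nat.card ↥Q.A := by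
    let FS : Finset Y := Finset.univ.filter (· ∈ F)
    let AS : Finset Y := Finset.univ.filter (· ∈ Q.A)
    have hF : FS.card = Nat.card ↥F := by
      rw [Nat.card_eq_fintype_card, Fintype.card_subtype]
    have hA : AS.card = Nat.card ↥Q.A := by
      rw [Nat.card_eq_fintype_card, Fintype.card_subtype]
    rw [← hF, ← hA, ← Finset.card_product]
    refine (Finset.card_le_mul_card_image_of_maps_to (f := fun p : Y × Y => p.1 * p.2)
      (t := AS) ?_ r ?_)
    · intro p hp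
      simp only [Finset.mem_product, S, FS, Finset.mem_filter, Finset.mem_univ, true_and] at hp
      simp only [AS, Finset.mem_filter, Finset.mem_univ, true_and]
      exact mul_mem hp.1.1 hp.2.1
    · intro b _
      by_cases hb : ((S ×ˢ FS).filter fun p => p.1 * p.2 = b).Nonempty
      · obtain ⟨⟨c, f⟩, hcf⟩ := hb
        have hmaps : ∀ p ∈ (S ×ˢ FS).filter fun p => p.1 * p.2 = b,
            c⁻¹ * p.1 ∈ (Finset.range r).image (fun i => Q.z ^ i) := by
          intro p hp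
          simp only [Finset.mem_filter, Finset.mem_product, S, FS, Finset.mem_univ, true_and] at hp hcf
          obtain ⟨⟨⟨hcA, hce⟩, hfA, hfe⟩, hcb⟩ := hcf
          obtain ⟨⟨⟨hpA, hpe⟩, hgA, hge⟩, hpb⟩ := hp
          have hgmem : c⁻¹ * p.1 ∈ F := by
            have : c⁻¹ * p.1 = f * p.2⁻¹ := by
              rw [eq_mul_inv_iff_mul_eq, mul_assoc, hpb, inv_mul_eq_iff_eq_mul, hcb]
            rw [this]
            exact mul_mem ⟨hfA, hfe⟩ (inv_mem ⟨hgA, hge⟩)
          have hcomm : Commute (c⁻¹ * p.1) (c * e) :=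
            Commute.mul_right (Q.comm hgmem.1 hcA) (Subgroup.mem_centralizer_singleton_iff.mp hgmem.2)
          have h5 : (c⁻¹ * p.1) ^ r = 1 := by
            have : (c⁻¹ * p.1) * (c * e) = p.1 * e := by
              rw [← mul_assoc, Q.comm hgmem.1 hcA, mul_inv_cancel_left]
            rw [← this, hcomm.mul_pow, hce, mul_one] at hpe
            exact hpe
          have h6 := Q.mem_zpowers_z hgmem.1 h5
          rw [mem_zpowers_iff_mem_range_orderOf, Q.hz] at h6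
          exact h6
        refine le_trans (Finset.card_le_card_of_injOn (fun p => c⁻¹ * p.1) hmaps ?_)
          (le_trans Finset.card_image_le (Finset.card_range r).le)
        intro p hp p' hp' h
        simp only [Finset.coe_filter, Set.mem_ofPred_eq] at hp hp'
        have h7 : p.1 = p'.1 := mul_left_cancel h
        have h8 : p.1 * p.2 = p'.1 * p'.2 := hp.2.trans hp'.2.symm
        rw [h7] at h8
        exact Prod.ext h7 (mul_left_cancel h8)
      · rw [Finset.not_nonempty_iff_eq_empty.mp hb]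
        simp
  have hidx : F.relIndex Q.A ≤ (Q.L ⊓ Subgroup.centralizer {e} ⊓ B).relIndex (Q.L ⊓ B) := by
    have hle : Q.A ≤ Q.L ⊓ B := le_inf (Q.hAR.trans Q.hRL) (Q.hAR.trans Q.hRB)
    refine le_trans (le_of_eq ?_) (Subgroup.relIndex_le_of_le_right hle Subgroup.index_ne_zero_of_finite)
    rw [← Subgroup.inf_relIndex_right (H := Q.L ⊓ Subgroup.centralizer {e} ⊓ B)]
    congr 1
    ext x
    simp only [F, Subgroup.mem_inf]
    exact ⟨fun h => ⟨⟨⟨(hle h.1).1, h.2⟩, (hle h.1).2⟩, h.1⟩, fun h => ⟨h.2, h.1.1.2⟩⟩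
  have hcardA : Nat.card ↥Q.A = Nat.card ↥F * F.relIndex Q.A := by
    have h := Subgroup.relIndex_mul_relIndex ⊥ F Q.A bot_le inf_le_left
    rw [Subgroup.relIndex_bot_left, Subgroup.relIndex_bot_left] at h
    exact h.symm
  have hFpos : 0 < Nat.card ↥F := Nat.card_pos
  have hipos : 0 < F.relIndex Q.A := Nat.pos_of_ne_zero Subgroup.index_ne_zero_of_finite
  have hS : S.card ≤ r * F.relIndex Q.A := by
    refine Nat.le_of_mul_le_mul_right ?_ hFpos
    rw [mul_assoc, mul_comm (F.relIndex Q.A), ← hcardA]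
    exact hSF
  have hm : B.index ≤ r * B.relIndex (Q.L ⊓ Subgroup.centralizer {e}) := by
    refine Nat.le_of_mul_le_mul_right ?_ hipos
    calc B.index * F.relIndex Q.A ≤ B.index * (Q.L ⊓ Subgroup.centralizer {e} ⊓ B).relIndex (Q.L ⊓ B) :=
          Nat.mul_le_mul_left _ hidx
      _ ≤ _ := h2
      _ ≤ S.card * B.relIndex (Q.L ⊓ Subgroup.centralizer {e}) := Nat.mul_le_mul_right _ himg
      _ ≤ r * F.relIndex Q.A * B.relIndex (Q.L ⊓ Subgroup.centralizer {e}) := Nat.mul_le_mul_right _ hS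
      _ = _ := by ring
  apply Q.small
  calc (B.index + 1) ^ 2 ≤ (Nat.card (fixV ({e} : Set Y) : AddSubgroup V)) ^ 2 :=
        Nat.pow_le_pow_left (by rw [mul_comm] at h1; omega) 2
    _ ≤ (Nat.card (fixV ({e} : Set Y) : AddSubgroup V)) ^ r :=
        Nat.pow_le_pow_right Nat.card_pos hr.out.two_le
    _ ≤ Nat.card V := hpow

end Loc

end Cfsg.Agent.Lib.DerangeIndex3.Linear
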