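import Cfsg.Agent.Lib.DerangeIndex3.LinearClass

/-!
# The bound for coprime linear actions with a fixed-point-free coset structure
-/

set_option linter.style.haveILetI false
set_option linter.unusedSectionVars false

namespace Cfsg.Agent.Lib.DerangeIndex3.Linear

open MulAction Pointwise

universe u v

variable {Y : Type u} [Group Y] [Finite Y] {V : Type v} [AddCommGroup V] [Finite V]
  [DistribMulAction Y V] {B : Subgroup Y}

theorem arith_big {n u d : ℕ} (hn : 2 ^ 256 ≤ n) (hu : u ^ 4 ≤ n) (hd : 2 ^ d ≤ n) :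
    (d ^ 8 * u) ^ 2 ≤ n := by
  have h32 : d ^ 32 ≤ n := by
    rcases Nat.lt_or_ge d 256 with h | h
    · refine le_trans (Nat.pow_le_pow_left h.le 32) (le_trans (le_of_eq ?_) hn)
      norm_num
    · refine le_trans ?_ hd
      clear hd
      induction d, h using Nat.le_induction with
      | base => norm_num
      | succ k hk ih =>
        have h1 : (k + 1) ^ 32 ≤ 2 * k ^ 32 := by
          have key : ∀ j, (j + 0) ≤ 32 → 256 ^ j * (k + 1) ^ j ≤ 257 ^ j * k ^ j := fun j _ => by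
            rw [← Nat.mul_pow, ← Nat.mul_pow]
            exact Nat.pow_le_pow_left (by omega) j
          have h2 := key 32 le_rfl
          have h3 : (257 : ℕ) ^ 32 ≤ 2 * 256 ^ 32 := by norm_num
          refine Nat.le_of_mul_le_mul_left (le_trans h2 ?_) (by positivity : 0 < (256 : ℕ) ^ 32)
          calc (257 : ℕ) ^ 32 * k ^ 32 ≤ 2 * 256 ^ 32 * k ^ 32 := Nat.mul_le_mul_right _ h3
            _ = _ := by rw [mul_assoc, Nat.mul_left_comm]
        calc (k + 1) ^ 32 ≤ 2 * k ^ 32 := h1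
          _ ≤ 2 * 2 ^ k := Nat.mul_le_mul_left _ ih
          _ = _ := by rw [pow_succ']
  have : ((d ^ 8 * u) ^ 2) ^ 2 ≤ n ^ 2 := by
    calc ((d ^ 8 * u) ^ 2) ^ 2 = d ^ 32 * u ^ 4 := by ring
      _ ≤ n * n := Nat.mul_le_mul h32 hu
      _ = n ^ 2 := (sq n).symm
  exact le_of_pow_le_pow_left₀ two_ne_zero (Nat.zero_le _) this

theorem arith_odd {r w n : ℕ} (hr : 3 ≤ r) (hw : r + 1 ≤ w) (hn : 2 ^ 256 ≤ n) (h : w ^ r ≤ n) :
    (r * w) ^ 2 ≤ n := by
  rcases Nat.lt_or_ge r 4 with h4 | h4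
  · have hr3 : r = 3 := by omega
    subst hr3
    rcases Nat.lt_or_ge w 9 with h9 | h9
    · refine le_trans (Nat.pow_le_pow_left (Nat.mul_le_mul_left 3 h9.le) 2) (le_trans ?_ hn)
      norm_num
    · refine le_trans ?_ h
      calc (3 * w) ^ 2 = 9 * w ^ 2 := by ring
        _ ≤ w * w ^ 2 := Nat.mul_le_mul_right _ h9
        _ = w ^ 3 := by ring
  · refine le_trans ?_ h
    calc (r * w) ^ 2 ≤ (w * w) ^ 2 := Nat.pow_le_pow_left (Nat.mul_le_mul_right _ (by omega)) 2
      _ = w ^ 4 := by ring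
      _ ≤ w ^ r := Nat.pow_le_pow_right (by omega) h4

namespace Loc

variable {r : ℕ} [hr : Fact r.Prime] (Q : Loc V B r)

theorem relIndex_centralizer_le {L : Subgroup Y} {e : Y} (P : Set Y) (hP : ∀ l ∈ L, l * e * l⁻¹ ∈ P) :
    (L ⊓ Subgroup.centralizer {e}).relIndex L ≤ P.ncard := by
  rw [Subgroup.relIndex, Subgroup.index_eq_card, ← Nat.card_coe_set_eq]
  refine Nat.card_le_card_of_injective
    (fun x => (⟨((x.out : ↥L) : Y) * e * ((x.out : ↥L) : Y)⁻¹, hP _ x.out.2⟩ : P)) fun x y hxy => ?_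
  rw [Subtype.mk.injEq] at hxy
  rw [← Quotient.out_eq x, ← Quotient.out_eq y]
  refine QuotientGroup.eq.mpr (Subgroup.mem_subgroupOf.mpr ⟨SetLike.coe_mem _, ?_⟩)
  refine Subgroup.mem_centralizer_singleton_iff.mpr ?_
  simp only [Subgroup.coe_mul, InvMemClass.coe_inv]
  generalize ((x.out : ↥L) : Y) = p, ((y.out : ↥L) : Y) = s at hxy ⊢
  calc p⁻¹ * s * e = p⁻¹ * (s * e * s⁻¹) * s := by group
    _ = p⁻¹ * (p * e * p⁻¹) * s := by rw [hxy]
    _ = e * (p⁻¹ * s) := by group

/-- The `r`-torsion of `K` has at most `r` elements in each coset of `A`. -/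
theorem ncard_torsion [FaithfulSMul Y V] [Nontrivial V] :
    {s : Y | s ∈ Q.K ∧ s ^ r = 1}.ncard ≤ r * Q.A.relIndex Q.K := by
  classical
  haveI := Fintype.ofFinite Y
  haveI := Fintype.ofFinite (↥Q.K ⧸ Q.A.subgroupOf Q.K)
  rw [Set.ncard_eq_toFinset_card']
  have : Q.A.relIndex Q.K = Fintype.card (↥Q.K ⧸ Q.A.subgroupOf Q.K) := by
    rw [← Nat.card_eq_fintype_card, ← Subgroup.index_eq_card]; rfl
  rw [this, ← Finset.card_univ]
  refine Finset.card_le_mul_card_image_of_maps_to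
    (f := fun s : Y => if h : s ∈ Q.K then (⟦⟨s, h⟩⟧ : ↥Q.K ⧸ Q.A.subgroupOf Q.K) else ⟦1⟧)
    (fun s _ => Finset.mem_univ _) r (fun b _ => ?_)
  by_cases hb : ((Set.toFinset {s : Y | s ∈ Q.K ∧ s ^ r = 1}).filter fun s =>
      (if h : s ∈ Q.K then (⟦⟨s, h⟩⟧ : ↥Q.K ⧸ Q.A.subgroupOf Q.K) else ⟦1⟧) = b).Nonempty
  · obtain ⟨s₀, hs₀⟩ := hb
    simp only [Finset.mem_filter, Set.mem_toFinset, Set.mem_ofPred_eq] at hs₀
    rw [dif_pos hs₀.1.1] at hs₀
    refine le_trans (Finset.card_le_card_of_injOn (t := (Finset.range r).image fun i => Q.z ^ i)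
      (fun s => s₀⁻¹ * s) (fun s hs => ?_)
      (fun s _ t _ h => mul_left_cancel h)) (le_trans Finset.card_image_le (Finset.card_range r).le)
    simp only [Finset.mem_coe, Finset.mem_filter, Set.mem_toFinset, Set.mem_ofPred_eq] at hs
    rw [dif_pos hs.1.1] at hs
    have hA : s₀⁻¹ * s ∈ Q.A := by
      have := QuotientGroup.eq.mp (hs₀.2.trans hs.2.symm)
      rwa [Subgroup.mem_subgroupOf] at this
    have hcomm : Commute s₀ (s₀⁻¹ * s) := Q.K_commA hs₀.1.1 hA
    have h1 : (s₀⁻¹ * s) ^ r = 1 := by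
      have h2 := hcomm.mul_pow r
      rw [mul_inv_cancel_left, hs.1.2, hs₀.1.2, one_mul] at h2
      exact h2.symm
    have h6 := Q.mem_zpowers_z hA h1
    rw [mem_zpowers_iff_mem_range_orderOf, Q.hz] at h6
    exact h6
  · rw [Finset.not_nonempty_iff_eq_empty.mp hb]
    simp

/-- Some coset translate of an element of order `r` fixes a projection of a given vector. -/
theorem exists_fix_coset {f : Y} (hzf : Commute Q.z f) (hfr : f ^ r = 1) {v : V} (hv : v ≠ 0) :
    ∃ i : ℕ, ∃ u : V, u ≠ 0 ∧ (f * Q.z ^ i) • u = u ∧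
      ∀ g : Y, Commute g f → Commute g Q.z → g • v = v → g • u = u := by
  have hcyc : ∀ g : Y, g ^ r = 1 → ∀ w : V, g • (∑ j ∈ Finset.range r, g ^ j • w) =
      ∑ j ∈ Finset.range r, g ^ j • w := by
    intro g hg w
    rw [Finset.smul_sum]
    simp only [smul_smul, ← pow_succ']
    have h1 := Finset.sum_range_succ' (fun j => g ^ j • w) r
    have h2 := Finset.sum_range_succ (fun j => g ^ j • w) r
    have h3 := h1.symm.trans h2
    rw [pow_zero, hg] at h3
    exact add_right_cancel h3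
  have hord : ∀ i : ℕ, (f * Q.z ^ i) ^ r = 1 := fun i => by
    rw [(hzf.symm.pow_right i).mul_pow, hfr, ← pow_mul, mul_comm, pow_mul, Q.z_pow, one_pow, one_mul]
  by_contra hcon
  push Not at hcon
  have hzero : ∀ i : ℕ, ∑ j ∈ Finset.range r, (f * Q.z ^ i) ^ j • v = 0 := by
    intro i
    by_contra hne
    obtain ⟨g, hgf, hgz, hgv, hg⟩ := hcon i _ hne (hcyc _ (hord i) v)
    refine hg ?_
    rw [Finset.smul_sum]
    refine Finset.sum_congr rfl fun j _ => ?_
    rw [smul_smul, ((hgf.mul_right (hgz.pow_right i)).pow_right j).eq, ← smul_smul, hgv]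
  have e1 : ∑ i ∈ Finset.range r, ∑ j ∈ Finset.range r, (f * Q.z ^ i) ^ j • v = 0 :=
    Finset.sum_eq_zero fun i _ => hzero i
  rw [Finset.sum_comm] at e1
  have e2 : ∀ j ∈ Finset.range r, j ≠ 0 → ∑ i ∈ Finset.range r, (f * Q.z ^ i) ^ j • v = 0 := by
    intro j hj hj0
    have hj' : ¬ r ∣ j := fun hd =>
      absurd (Nat.le_of_dvd (Nat.pos_of_ne_zero hj0) hd) (by rw [Finset.mem_range] at hj; omega)
    have hzj : Q.z ^ j ≠ 1 := fun h => hj' (by
      have := orderOf_dvd_of_pow_eq_one h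
      rwa [Q.hz] at this)
    have : ∀ i, (f * Q.z ^ i) ^ j • v = f ^ j • (Q.z ^ j) ^ i • v := fun i => by
      rw [(hzf.symm.pow_right i).mul_pow, ← smul_smul, ← pow_mul, ← pow_mul, mul_comm i j]
    simp only [this, ← Finset.smul_sum]
    rw [Q.hfpf _ (pow_mem Q.hzA j) hzj _ (hcyc _ (by rw [← pow_mul, mul_comm, pow_mul, Q.z_pow, one_pow]) _),
      smul_zero]
  rw [Finset.sum_eq_single_of_mem 0 (Finset.mem_range.mpr hr.out.pos) e2] at e1
  simp only [pow_zero, one_smul, Finset.sum_const, Finset.card_range] at e1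
  exact hv (Q.hH.smul_eq_zero (by rw [← Q.hz]; exact orderOf_dvd_natCard _) e1)

/-- An element of order `r` of `K` outside `A` fixes a nonzero vector. -/
theorem exists_fix [FaithfulSMul Y V] [Nontrivial V] {e : Y} (he : e ∈ Q.K) (heA : e ∉ Q.A)
    (her : e ^ r = 1) : ∃ w : V, w ≠ 0 ∧ e • w = w := by
  obtain ⟨v, hv⟩ := exists_ne (0 : V)
  obtain ⟨i, u, hu, hfix, -⟩ := Q.exists_fix_coset (Q.K_commA he Q.hzA).symm her hv
  obtain ⟨c, hc, hce⟩ := Q.exists_ψ he heA i
  refine ⟨c⁻¹ • u, fun h => hu ((smul_eq_zero_iff_eq _).mp h), ?_⟩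
  rw [← hce, ← smul_smul, ← smul_smul, smul_eq_iff_eq_inv_smul] at hfix
  exact hfix

/-- Two commuting independent elements of order `r` in `K` are impossible. -/
theorem false_of_pair [FaithfulSMul Y V] [Nontrivial V] {q : ℕ} [hq : Fact q.Prime] [Module (ZMod q) V]
    (hbig : 2 ^ 256 ≤ Nat.card V) {e f : Y} (he : e ∈ Q.K) (heA : e ∉ Q.A) (hf : f ∈ Q.K) (hfA : f ∉ Q.A)
    (her : e ^ r = 1) (hfr : f ^ r = 1) (hef : e * f = f * e)
    (hind : ∀ i : ℤ, f * e ^ i ∉ Q.A) : False := by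
  classical
  -- elements moving exactly one of the two
  have hsep : ∀ a b : Y, ∀ ha : a ∈ Q.K, ∀ hb : b ∈ Q.K, a ∉ Q.A → b ∉ Q.A →
      (∀ i : ℕ, b * (a ^ i)⁻¹ ∉ Q.A) →
      ∃ k ∈ Q.K, k * a * k⁻¹ = a ∧ k * b * k⁻¹ = b * Q.z := by
    intro a b ha hb haA hbA hind'
    by_contra hcon
    push Not at hcon
    -- the centraliser of `a` lies in that of `b`
    have hsub : ∀ k : ↥Q.K, Q.ψ ha k = 1 → Q.ψ hb k = 1 := by
      intro k hk
      by_contra hb1
      have hmem := Q.ψ_mem hb k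
      rw [mem_zpowers_iff_mem_range_orderOf, Q.hz, Finset.mem_image] at hmem
      obtain ⟨i, hi, hik⟩ := hmem
      have hi0 : i.Coprime r := by
        refine (hr.out.coprime_iff_not_dvd.mpr fun hd => hb1 ?_).symm
        obtain ⟨c, rfl⟩ := hd
        rw [← hik, pow_mul, Q.z_pow, one_pow]
      obtain ⟨j, hj⟩ := Nat.exists_mul_mod_eq_one_of_coprime hi0 hr.out.one_lt
      refine hcon (k ^ j : ↥Q.K) (k ^ j : ↥Q.K).2 (by rw [Q.conj_eq ha (k ^ j), map_pow, hk, one_pow, mul_one]) ?_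
      rw [Q.conj_eq hb (k ^ j), map_pow, ← hik, ← pow_mul, pow_eq_pow_mod (i * j) Q.z_pow, hj.2, pow_one]
    obtain ⟨k₀, hk₀, hka⟩ := Q.exists_ψ ha haA 1
    rw [pow_one] at hka
    have hk₀' : Q.ψ ha ⟨k₀, hk₀⟩ = Q.z := mul_left_cancel ((Q.conj_eq ha ⟨k₀, hk₀⟩).symm.trans hka)
    have hmem := Q.ψ_mem hb ⟨k₀, hk₀⟩
    rw [mem_zpowers_iff_mem_range_orderOf, Q.hz, Finset.mem_image] at hmem
    obtain ⟨i, -, hik⟩ := hmem
    refine hind' i (Q.mem_A_of_central (mul_mem hb (inv_mem (pow_mem ha i))) fun y hy => ?_)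
    -- split `y` along `k₀`
    have hy' := Q.ψ_mem ha ⟨y, hy⟩
    rw [mem_zpowers_iff_mem_range_orderOf, Q.hz, Finset.mem_image] at hy'
    obtain ⟨j, -, hjy⟩ := hy'
    let y' : ↥Q.K := (⟨k₀, hk₀⟩ ^ j)⁻¹ * ⟨y, hy⟩
    have hy1 : Q.ψ ha y' = 1 := by
      simp only [y', map_mul, map_inv, map_pow, hk₀', ← hjy, inv_mul_cancel]
    have hy2 := hsub y' hy1
    have hyb : Q.ψ hb ⟨y, hy⟩ = Q.ψ ha ⟨y, hy⟩ ^ i := by
      simp only [y', map_mul, map_inv, map_pow, inv_mul_eq_one] at hy2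
      rw [← hy2, ← hjy, ← hik, ← pow_mul, ← pow_mul, mul_comm]
    have e1 := Q.conj_eq ha ⟨y, hy⟩
    have e2 := Q.conj_eq hb ⟨y, hy⟩
    rw [hyb] at e2
    have hc : Commute a (Q.ψ ha ⟨y, hy⟩) := Q.K_commA ha ((Subgroup.zpowers_le.mpr Q.hzA) (Q.ψ_mem ha _))
    have e3 : y * (b * (a ^ i)⁻¹) * y⁻¹ = b * (a ^ i)⁻¹ := by
      calc y * (b * (a ^ i)⁻¹) * y⁻¹ = (y * b * y⁻¹) * ((y * a * y⁻¹) ^ i)⁻¹ := by rw [conj_pow]; group
        _ = b * (a ^ i)⁻¹ := by
          simp only at e1 e2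
          rw [e1, e2, hc.mul_pow, mul_inv_rev]
          group
    rw [mul_inv_eq_iff_eq_mul] at e3
    exact e3.symm
  have hind1 : ∀ i : ℕ, f * (e ^ i)⁻¹ ∉ Q.A := fun i => by
    have := hind (-(i : ℤ))
    rwa [zpow_neg, zpow_natCast] at this
  have hind2 : ∀ i : ℕ, e * (f ^ i)⁻¹ ∉ Q.A := by
    intro i hi
    by_cases hd : r ∣ i
    · obtain ⟨c, rfl⟩ := hd
      rw [pow_mul, hfr, one_pow, inv_one, mul_one] at hi
      exact heA hi
    · obtain ⟨j, hj⟩ := Nat.exists_mul_mod_eq_one_of_coprime (hr.out.coprime_iff_not_dvd.mpr hd).symm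
        hr.out.one_lt
      have h1 := pow_mem hi j
      have hc : Commute e (f ^ i)⁻¹ := ((Commute.pow_right hef i).inv_right)
      rw [hc.mul_pow, inv_pow, ← pow_mul, pow_eq_pow_mod (i * j) hfr, hj.2, pow_one] at h1
      refine hind (-(j : ℤ)) ?_
      have := inv_mem h1
      rw [mul_inv_rev, inv_inv] at this
      rwa [zpow_neg, zpow_natCast]
  obtain ⟨k₂, hk₂, hk₂e, hk₂f⟩ := hsep e f he hf heA hfA hind1
  obtain ⟨k₁, hk₁, hk₁f, hk₁e⟩ := hsep f e hf he hfA heA hind2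
  have hze : Commute Q.z e := (Q.K_commA he Q.hzA).symm
  have hzf : Commute Q.z f := (Q.K_commA hf Q.hzA).symm
  let N : Subgroup Y := Subgroup.closure {e, f}
  let U : AddSubgroup V := fixV (N : Set Y)
  have hNfix : ∀ w : V, (w ∈ U ↔ e • w = w ∧ f • w = w) := fun w => by
    constructor
    · exact fun h => ⟨h e (Subgroup.subset_closure (by simp)), h f (Subgroup.subset_closure (by simp))⟩
    · intro h s hs
      exact mem_stabilizer_iff.mp ((Subgroup.closure_le (K := stabilizer Y w)).mpr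
        (by rintro a (rfl | rfl); exacts [mem_stabilizer_iff.mpr h.1, mem_stabilizer_iff.mpr h.2]) hs)
  have ψe₁ : Q.ψ he ⟨k₁, hk₁⟩ = Q.z := mul_left_cancel ((Q.conj_eq he ⟨k₁, hk₁⟩).symm.trans hk₁e)
  have ψe₂ : Q.ψ he ⟨k₂, hk₂⟩ = 1 :=
    mul_left_cancel ((Q.conj_eq he ⟨k₂, hk₂⟩).symm.trans (hk₂e.trans (mul_one e).symm))
  have ψf₁ : Q.ψ hf ⟨k₁, hk₁⟩ = 1 :=
    mul_left_cancel ((Q.conj_eq hf ⟨k₁, hk₁⟩).symm.trans (hk₁f.trans (mul_one f).symm))
  have ψf₂ : Q.ψ hf ⟨k₂, hk₂⟩ = Q.z := mul_left_cancel ((Q.conj_eq hf ⟨k₂, hk₂⟩).symm.trans hk₂f)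
  let k' : ℕ → ℕ → ↥Q.K := fun i j => ⟨k₁, hk₁⟩ ^ i * ⟨k₂, hk₂⟩ ^ j
  let k : Fin 2 × Fin 2 → Y := fun ij => (k' ij.1 ij.2 : Y)
  have hce' : ∀ i j, (k' i j : Y) * e * (k' i j : Y)⁻¹ = e * Q.z ^ i := fun i j => by
    rw [Q.conj_eq he (k' i j)]
    simp only [k', map_mul, map_pow, ψe₁, ψe₂, one_pow, mul_one]
  have hcf' : ∀ i j, (k' i j : Y) * f * (k' i j : Y)⁻¹ = f * Q.z ^ j := fun i j => by
    rw [Q.conj_eq hf (k' i j)]
    simp only [k', map_mul, map_pow, ψf₁, ψf₂, one_pow, one_mul]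
  have hce : ∀ ij, k ij * e * (k ij)⁻¹ = e * Q.z ^ (ij.1 : ℕ) := fun ij => hce' _ _
  have hcf : ∀ ij, k ij * f * (k ij)⁻¹ = f * Q.z ^ (ij.2 : ℕ) := fun ij => hcf' _ _
  let T : Subgroup Y := Subgroup.closure {e, f, Q.z}
  have heT : e ∈ T := Subgroup.subset_closure (by simp)
  have hfT : f ∈ T := Subgroup.subset_closure (by simp)
  have hzT : Q.z ∈ T := Subgroup.subset_closure (by simp)
  have hmem : ∀ ij, ∀ x ∈ (MulAut.conj (k ij) • N : Subgroup Y), x ∈ T := by
    intro ij x hx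
    obtain ⟨y, hy, rfl⟩ := hx
    have hle : N ≤ T.comap (MulAut.conj (k ij)).toMonoidHom := by
      refine (Subgroup.closure_le _).mpr fun a ha => ?_
      show k ij * a * (k ij)⁻¹ ∈ T
      rcases ha with ha | ha
      · rw [ha, hce]; exact mul_mem heT (pow_mem hzT _)
      · rw [Set.mem_singleton_iff.mp ha, hcf]; exact mul_mem hfT (pow_mem hzT _)
    exact hle hy
  have habel : ∀ x ∈ T, ∀ y ∈ T, x * y = y * x := by
    haveI : IsMulCommutative ↥T := Subgroup.isMulCommutative_closure (by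
      intro a ha b hb
      simp only [Set.mem_insert_iff, Set.mem_singleton_iff] at ha hb
      rcases ha with ha | ha | ha <;> rcases hb with hb | hb | hb <;> rw [ha, hb]
      exacts [hef, hze.eq.symm, hef.symm, hzf.eq.symm, hze.eq, hzf.eq])
    exact fun x hx y hy => congrArg Subtype.val
      (IsMulCommutative.is_comm.comm (⟨x, hx⟩ : ↥T) ⟨y, hy⟩)
  have hprod := Q.hH.prod_card_le (ι := Fin 2 × Fin 2) (fun ij => MulAut.conj (k ij) • N)
    (fun i j x hx y hy => habel x (hmem i x hx) y (hmem j y hy))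
    (fun i j hij => by
      refine (AddSubgroup.eq_bot_iff_forall _).mpr fun w hw => ?_
      have he' : ∀ ij, (k ij * e * (k ij)⁻¹) ∈ (MulAut.conj (k ij) • N : Subgroup Y) := fun ij =>
        ⟨e, Subgroup.subset_closure (by simp), rfl⟩
      have hf' : ∀ ij, (k ij * f * (k ij)⁻¹) ∈ (MulAut.conj (k ij) • N : Subgroup Y) := fun ij =>
        ⟨f, Subgroup.subset_closure (by simp), rfl⟩
      have hdiff : ∀ (x : Y) (a b : Fin 2), a ≠ b → (x * Q.z ^ (a : ℕ)) • w = w →
          (x * Q.z ^ (b : ℕ)) • w = w → w = 0 := by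
        intro x a b hab ha hb
        have h3 : ((Q.z ^ (a : ℕ))⁻¹ * Q.z ^ (b : ℕ)) • w = w := by
          have := (stabilizer Y w).mul_mem ((stabilizer Y w).inv_mem ha) hb
          rwa [mul_inv_rev, mul_assoc, inv_mul_cancel_left] at this
        refine Q.hfpf _ (mul_mem (inv_mem (pow_mem Q.hzA _)) (pow_mem Q.hzA _)) (fun h => hab ?_) w h3
        have : ∀ a : Fin 2, (a : ℕ) ∈ Set.Iio (orderOf Q.z) := fun a => by
          rw [Q.hz, Set.mem_Iio]; exact lt_of_lt_of_le a.2 hr.out.two_le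
        exact Fin.ext (pow_injOn_Iio_orderOf (this a) (this b) (inv_mul_eq_one.mp h))
      rcases eq_or_ne i.1 j.1 with h1 | h1
      · have h2 : i.2 ≠ j.2 := fun h2 => hij (Prod.ext h1 h2)
        exact hdiff f i.2 j.2 h2 (hcf i ▸ hw _ (Or.inl (hf' i))) (hcf j ▸ hw _ (Or.inr (hf' j)))
      · exact hdiff e i.1 j.1 h1 (hce i ▸ hw _ (Or.inl (he' i))) (hce j ▸ hw _ (Or.inr (he' j))))
  simp only [card_fixV_smul, Finset.prod_const, Finset.card_univ, Fintype.card_prod, Fintype.card_fin] at hprod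
  -- a nonzero vector fixed by both
  let P : Set Y := {s | s ∈ Q.K ∧ s ^ r = 1}
  have hLP : ∀ s ∈ P, ∀ l ∈ Q.L, l * s * l⁻¹ ∈ P := fun s hs l hl =>
    ⟨(Subgroup.mem_normalizer_iff.mp (Q.L_le_normalizer_K hl) s).mp hs.1, by rw [conj_pow, hs.2]; group⟩
  let L₀ : Subgroup Y := (Q.L ⊓ Subgroup.centralizer {e}) ⊓ (Q.L ⊓ Subgroup.centralizer {f})
  have hidx : L₀.relIndex Q.L ≤ P.ncard * P.ncard :=
    le_trans Subgroup.relIndex_inf_le (Nat.mul_le_mul
      (relIndex_centralizer_le P fun l hl => hLP e ⟨he, her⟩ l hl)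
      (relIndex_centralizer_le P fun l hl => hLP f ⟨hf, hfr⟩ l hl))
  have hU : ∀ l ∈ L₀, ∀ w ∈ U, l • w ∈ U := by
    intro l hl w hw
    rw [hNfix] at hw ⊢
    constructor
    · rw [smul_smul, ← Subgroup.mem_centralizer_singleton_iff.mp hl.1.2, ← smul_smul, hw.1]
    · rw [smul_smul, ← Subgroup.mem_centralizer_singleton_iff.mp hl.2.2, ← smul_smul, hw.2]
  have hzL₀ : Q.z ∈ L₀ ⊓ B := ⟨⟨⟨Q.hRL (Q.hAR Q.hzA), Subgroup.mem_centralizer_singleton_iff.mpr hze.eq⟩,
    Q.hRL (Q.hAR Q.hzA), Subgroup.mem_centralizer_singleton_iff.mpr hzf.eq⟩, Q.hRB (Q.hAR Q.hzA)⟩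
  have h4 := Q.hH.index_mul Q.cover (inf_le_left.trans inf_le_left : L₀ ≤ Q.L)
  have hpos : 0 < (L₀ ⊓ B).relIndex (Q.L ⊓ B) := Nat.pos_of_ne_zero Subgroup.index_ne_zero_of_finite
  have hm : B.index ≤ L₀.relIndex Q.L * B.relIndex L₀ := h4 ▸ Nat.le_mul_of_pos_right _ hpos
  have hd := Q.relIndex_A_le (q := q)
  set d := Module.finrank (ZMod q) V with hd_def
  haveI : Module.Finite (ZMod q) V := Module.Finite.of_finite
  have hcard : Nat.card V = q ^ d := by
    rw [hd_def, Module.natCard_eq_pow_finrank (K := ZMod q), Nat.card_zmod]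
  have h2d : 2 ^ d ≤ Nat.card V := hcard ▸ Nat.pow_le_pow_left hq.out.two_le d
  have hrd : r ≤ Q.A.relIndex Q.K := by
    have hdvd : Q.A.relIndex Q.K ∣ Nat.card ↥Q.K := Subgroup.index_dvd_card _
    obtain ⟨a, ha⟩ := IsPGroup.iff_card.mp (Q.hRr.to_le Q.K_le_R)
    rw [ha] at hdvd
    obtain ⟨b, hb, hb'⟩ := (Nat.dvd_prime_pow hr.out).mp hdvd
    rw [hb']
    refine Nat.le_self_pow (fun h0 => heA ?_) r
    rw [h0, pow_zero, Subgroup.relIndex_eq_one] at hb'
    exact hb' he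
  have hP : P.ncard ≤ d ^ 4 := by
    refine le_trans Q.ncard_torsion ?_
    calc r * Q.A.relIndex Q.K ≤ Q.A.relIndex Q.K * Q.A.relIndex Q.K := Nat.mul_le_mul_right _ hrd
      _ ≤ d ^ 2 * d ^ 2 := Nat.mul_le_mul hd hd
      _ = d ^ 4 := by ring
  have ht : L₀.relIndex Q.L ≤ d ^ 8 :=
    hidx.trans ((Nat.mul_le_mul hP hP).trans_eq (by ring))
  have hu4 : Nat.card U ^ 4 ≤ Nat.card V := hprod
  obtain ⟨w, hw, hw0⟩ : ∃ w ∈ U, w ≠ 0 := by
    obtain ⟨v, hv, hev⟩ := Q.exists_fix he heA her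
    obtain ⟨i, u, hu, hfu, hinh⟩ := Q.exists_fix_coset hzf hfr hv
    have heu := hinh e hef hze.symm hev
    refine ⟨(k' 0 i : Y)⁻¹ • u, (hNfix _).mpr ⟨?_, ?_⟩, fun h => hu ((smul_eq_zero_iff_eq _).mp h)⟩
    · have h1 : ((k' 0 i : Y) * e * (k' 0 i : Y)⁻¹) • u = u := by rw [hce', pow_zero, mul_one]; exact heu
      rw [← smul_smul, ← smul_smul, smul_eq_iff_eq_inv_smul] at h1
      exact h1
    · have h1 : ((k' 0 i : Y) * f * (k' 0 i : Y)⁻¹) • u = u := by rw [hcf']; exact hfu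
      rw [← smul_smul, ← smul_smul, smul_eq_iff_eq_inv_smul] at h1
      exact h1
  have horb := Q.hH.orbit_bound (L₀ := L₀) U hU hw hw0
  have h1 : 1 ≤ (orbit ↥(L₀ ⊓ B) w).ncard := (Set.ncard_pos (Set.toFinite _)).mpr ⟨w, mem_orbit_self w⟩
  have hm0 : B.relIndex L₀ + 1 ≤ Nat.card U :=
    le_trans (Nat.add_le_add_right (Nat.le_mul_of_pos_right _ h1) 1) horb
  have hpos' : 1 ≤ d ^ 8 := by
    refine Nat.one_le_pow _ _ (Nat.pos_of_ne_zero fun h0 => ?_)
    rw [hcard, h0, pow_zero] at hbig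
    norm_num at hbig
  apply Q.small
  refine le_trans (Nat.pow_le_pow_left ?_ 2) (arith_big hbig hu4 h2d)
  calc B.index + 1 ≤ d ^ 8 * B.relIndex L₀ + 1 :=
        Nat.add_le_add_right (hm.trans (Nat.mul_le_mul_right _ ht)) 1
    _ ≤ d ^ 8 * (B.relIndex L₀ + 1) := by rw [mul_add, mul_one]; omega
    _ ≤ d ^ 8 * Nat.card U := Nat.mul_le_mul_left _ hm0

/-- The elements outside `A` of `K`: one of order `r`, unless a contradiction results. -/
theorem exists_torsion [FaithfulSMul Y V] [Nontrivial V]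
    (hC : ¬ Q.R ⊓ Subgroup.centralizer (Q.A : Set Y) ≤ Q.A)
    {e₀ : Y} (he₀ : e₀ ∈ Q.R) (her₀ : e₀ ^ r = 1) (he₀A : e₀ ∉ Q.A) :
    ∃ e ∈ Q.K, e ∉ Q.A ∧ e ^ r = 1 := by
  classical
  by_contra hcon
  push Not at hcon
  have hno : ∀ e ∈ Q.K, e ^ r = 1 → e ∈ Q.A := fun e he her => by
    by_contra hA
    exact hcon e he hA her
  have hCn : ∀ g ∈ Q.R, ∀ x ∈ Q.R ⊓ Subgroup.centralizer (Q.A : Set Y),
      g * x * g⁻¹ ∈ Q.R ⊓ Subgroup.centralizer (Q.A : Set Y) := fun g hg x hx => by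
    refine ⟨Q.R.mul_mem (Q.R.mul_mem hg hx.1) (Q.R.inv_mem hg), Subgroup.mem_centralizer_iff.mpr fun c hc => ?_⟩
    have h1 := Subgroup.mem_centralizer_iff.mp hx.2 _ (Q.conj_mem' (Q.hRL hg) hc)
    calc c * (g * x * g⁻¹) = g * ((g⁻¹ * c * g) * x) * g⁻¹ := by group
      _ = g * (x * (g⁻¹ * c * g)) * g⁻¹ := by rw [h1]
      _ = _ := by group
  obtain ⟨x, -, hx, hxA⟩ := Q.exists_mem_K _ inf_le_left
    (fun x hx c hc => (Subgroup.mem_centralizer_iff.mp hx.2 c hc).symm) hCn hC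
  -- no `r`-th power outside `A` is an `r`-th power in `A`
  have hgen : ∀ u ∈ Q.K, u ∉ Q.A → ∀ d ∈ Q.A, u ^ r ≠ d ^ r := by
    intro u hu huA d hd h
    refine huA ?_
    have hc : Commute u d⁻¹ := Q.K_commA hu (inv_mem hd)
    have h1 : (u * d⁻¹) ^ r = 1 := by rw [hc.mul_pow, inv_pow, h, mul_inv_cancel]
    have := mul_mem (hno _ (mul_mem hu (inv_mem (Q.A_le_K hd))) h1) hd
    rwa [inv_mul_cancel_right] at this
  obtain ⟨y, hy, hxy⟩ : ∃ y ∈ Q.K, x * y ≠ y * x := by
    by_contra hall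
    push Not at hall
    exact hxA (Q.mem_A_of_central hx hall)
  have hyA : y ∉ Q.A := fun h => hxy (Q.K_commA hx h)
  obtain ⟨i, hi⟩ : ∃ i : ℤ, x ^ r = Q.a ^ i := by
    have := Q.K_pow hx
    rw [Q.hA] at this
    obtain ⟨i, hi⟩ := this
    exact ⟨i, hi.symm⟩
  have haA : Q.a ∈ Q.A := Q.hA ▸ Subgroup.mem_zpowers _
  have hri : ¬ (r : ℤ) ∣ i := fun ⟨k, hk⟩ =>
    hgen x hx hxA (Q.a ^ k) (zpow_mem haA k) (by rw [hi, hk, mul_comm, zpow_mul, zpow_natCast])
  obtain ⟨j, hj⟩ : ∃ j : ℤ, y ^ r = Q.a ^ j := by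
    have := Q.K_pow hy
    rw [Q.hA] at this
    obtain ⟨j, hj⟩ := this
    exact ⟨j, hj.symm⟩
  rcases hr.out.eq_two_or_odd' with h2 | hodd
  · subst h2
    have hjo : ¬ (2 : ℤ) ∣ j := fun ⟨k, hk⟩ =>
      hgen y hy hyA (Q.a ^ k) (zpow_mem haA k) (by rw [hj, hk, mul_comm, zpow_mul]; norm_cast)
    -- independent elements of `K` do not commute
    have hncomm : ∀ u ∈ Q.K, ∀ w ∈ Q.K, u ∉ Q.A → w ∉ Q.A → u * w ∉ Q.A → u * w ≠ w * u := by
      intro u hu w hw huA hwA huwA h
      obtain ⟨s, hs⟩ : ∃ s : ℤ, u ^ 2 = Q.a ^ s := by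
        have := Q.K_pow hu
        rw [Q.hA] at this
        obtain ⟨s, hs⟩ := this
        exact ⟨s, hs.symm⟩
      obtain ⟨t, ht⟩ : ∃ t : ℤ, w ^ 2 = Q.a ^ t := by
        have := Q.K_pow hw
        rw [Q.hA] at this
        obtain ⟨t, ht⟩ := this
        exact ⟨t, ht.symm⟩
      have hso : ¬ (2 : ℤ) ∣ s := fun ⟨k, hk⟩ =>
        hgen u hu huA (Q.a ^ k) (zpow_mem haA k) (by rw [hs, hk, mul_comm, zpow_mul]; norm_cast)
      have hto : ¬ (2 : ℤ) ∣ t := fun ⟨k, hk⟩ =>
        hgen w hw hwA (Q.a ^ k) (zpow_mem haA k) (by rw [ht, hk, mul_comm, zpow_mul]; norm_cast)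
      obtain ⟨k, hk⟩ : (2 : ℤ) ∣ s + t := by omega
      refine hgen _ (mul_mem hu hw) huwA (Q.a ^ k) (zpow_mem haA k) ?_
      rw [(show Commute u w from h).mul_pow, hs, ht, ← zpow_add, hk, mul_comm, zpow_mul]
      norm_cast
    have hxyA : x * y ∉ Q.A := fun h => hxy (by
      have h1 := Q.K_commA hx h
      rw [mul_assoc] at h1
      exact (mul_left_cancel h1).symm ▸ rfl)
    -- so `A` has order two
    let c := x⁻¹ * y * x * y⁻¹
    have hc : c ∈ Subgroup.zpowers Q.z := Q.K_comm_mem hx hy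
    have hcA : c ∈ Q.A := (Subgroup.zpowers_le.mpr Q.hzA) hc
    have hc1 : c ≠ 1 := fun h => hxy (by
      rw [mul_inv_eq_one, mul_assoc, inv_mul_eq_iff_eq_mul] at h
      exact h.symm)
    have hcz : c = Q.z := by
      rw [mem_zpowers_iff_mem_range_orderOf, Q.hz, Finset.mem_image] at hc
      obtain ⟨n, hn, hnc⟩ := hc
      rw [Finset.mem_range] at hn
      interval_cases n
      · exact absurd hnc.symm (by rw [pow_zero]; exact hc1)
      · rw [← hnc, pow_one]
    obtain ⟨k, hk⟩ : ∃ k : ℤ, Q.z = Q.a ^ k := by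
      have := Q.hzA
      rw [Q.hA] at this
      obtain ⟨k, hk⟩ := this
      exact ⟨k, hk.symm⟩
    have hk2 : ¬ (2 : ℤ) ∣ k := by
      rintro ⟨m, hm⟩
      obtain ⟨s, hs⟩ : (2 : ℤ) ∣ i + j := by omega
      refine hgen _ (mul_mem hx hy) hxyA (Q.a ^ (s + m)) (zpow_mem haA _) ?_
      have e1 : y * x = x * y * c := by
        calc y * x = x * ((x⁻¹ * y * x * y⁻¹) * y) := by group
          _ = x * (y * (x⁻¹ * y * x * y⁻¹)) := by rw [Q.K_commA hy hcA]
          _ = x * y * c := (mul_assoc x y c).symm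
      rw [pow_mul_of_central e1 (Q.K_commA hy hcA).symm (Q.K_commA hx hcA).symm, hi, hj, hcz, hk,
        Nat.choose_self, pow_one, ← zpow_add, ← zpow_add, hm]
      rw [show i + j + 2 * m = (s + m) * 2 by omega, zpow_mul]
      norm_cast
    have horda : orderOf Q.a = 2 := by
      have hz2 : Q.a ^ (2 * k) = 1 := by
        rw [mul_comm, zpow_mul, ← hk]; exact_mod_cast Q.z_pow
      have h1 : (orderOf Q.a : ℤ) ∣ 2 * k := orderOf_dvd_iff_zpow_eq_one.mpr hz2
      obtain ⟨n, hn⟩ := IsPGroup.iff_orderOf.mp Q.hRr ⟨Q.a, Q.hAR haA⟩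
      rw [← Subgroup.orderOf_coe] at hn
      simp only at hn
      rcases Nat.lt_trichotomy n 1 with h | h | h
      · exfalso
        have : n = 0 := by omega
        rw [this, pow_zero, orderOf_eq_one_iff] at hn
        exact Q.z_ne_one (by rw [hk, hn, one_zpow])
      · rw [hn, h, pow_one]
      · exfalso
        rw [hn] at h1
        have : (4 : ℤ) ∣ ((2 ^ n : ℕ) : ℤ) := by
          exact_mod_cast (pow_dvd_pow 2 h : 2 ^ 2 ∣ 2 ^ n)
        obtain ⟨m, hm⟩ := this.trans h1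
        omega
    have hA2 : ∀ d ∈ Q.A, d = 1 ∨ d = Q.z := by
      intro d hd
      rw [Q.hA, mem_zpowers_iff_mem_range_orderOf, horda] at hd
      have haz : Q.z = Q.a := by
        obtain ⟨m, hm⟩ : ∃ m : ℤ, k = 2 * m + 1 := ⟨k / 2, by omega⟩
        have : Q.a ^ (2 : ℤ) = 1 := by
          exact_mod_cast orderOf_dvd_iff_pow_eq_one.mp (dvd_of_eq horda)
        rw [hk, hm, zpow_add, zpow_mul, this, one_zpow, one_mul, zpow_one]
      simp only [Finset.mem_image, Finset.mem_range] at hd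
      obtain ⟨n, hn, rfl⟩ := hd
      interval_cases n
      · exact Or.inl (pow_zero _)
      · exact Or.inr (by rw [pow_one, haz])
    have hAcent : ∀ g ∈ Q.R, ∀ d ∈ Q.A, g * d = d * g := by
      intro g hg d hd
      rcases hA2 d hd with h | h
      · rw [h, mul_one, one_mul]
      · rw [h]; exact Q.z_comm hg
    -- the centraliser of `K` in `R` lies in `A`
    have hW : Q.R ⊓ Subgroup.centralizer (Q.K : Set Y) ≤ Q.A := by
      by_contra hne
      obtain ⟨g, hgW, hgK, hgA⟩ := Q.exists_mem_K _ inf_le_left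
        (fun g hg d hd => hAcent g hg.1 d hd) (fun g hg u hu => by
          refine ⟨Q.R.mul_mem (Q.R.mul_mem hg hu.1) (Q.R.inv_mem hg), Subgroup.mem_centralizer_iff.mpr fun d hd => ?_⟩
          have hK := Subgroup.mem_normalizer_iff.mp (Q.L_le_normalizer_K (inv_mem (Q.hRL hg))) d
          have h0 := hK.mp hd
          rw [inv_inv] at h0
          have h1 := Subgroup.mem_centralizer_iff.mp hu.2 _ h0
          calc d * (g * u * g⁻¹) = g * ((g⁻¹ * d * g) * u) * g⁻¹ := by group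
            _ = g * (u * (g⁻¹ * d * g)) * g⁻¹ := by rw [h1]
            _ = _ := by group) hne
      exact hgA (Q.mem_A_of_central hgK fun d hd => (Subgroup.mem_centralizer_iff.mp hgW.2 d hd).symm)
    -- `e₀` agrees with an element of `K` on `x` and `y`
    have hcommxy : ∀ g ∈ Q.R, ∀ u ∈ Q.K, g * u = u * g ∨ g * u = u * g * Q.z := by
      intro g hg u hu
      have h1 := (inv_mem hu).2.2.1 g hg
      rw [inv_inv] at h1
      have e1 : g * u = u * (u⁻¹ * g * u * g⁻¹) * g := by group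
      rcases hA2 _ h1 with h | h
      · rw [h, mul_one] at e1; exact Or.inl e1
      · rw [h, mul_assoc, ← hAcent g hg Q.z Q.hzA, ← mul_assoc] at e1; exact Or.inr e1
    have hyx : y * x = x * y * Q.z := by
      rcases hcommxy y hy.1 x hx with h | h
      · exact absurd h.symm hxy
      · exact h
    have hxy' : x * y = y * x * Q.z := by
      rcases hcommxy x hx.1 y hy with h | h
      · exact absurd h hxy
      · exact h
    have hzz : Q.z * Q.z = 1 := by rw [← sq]; exact Q.z_pow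
    -- an element commuting with `x` and `y` centralises `K`
    have hcent : ∀ g ∈ Q.R, g * x = x * g → g * y = y * g → g ∈ Q.A := by
      intro g hg hgx hgy
      refine hW ⟨hg, Subgroup.mem_centralizer_iff.mpr fun u hu => ?_⟩
      -- reduce `u`
      obtain ⟨u', hu', hu'x, hu'y, hdec⟩ : ∃ u' ∈ Q.K, u' * x = x * u' ∧ u' * y = y * u' ∧
          (g * u' = u' * g → g * u = u * g) := by
        rcases hcommxy u hu.1 x hx with hux | hux <;> rcases hcommxy u hu.1 y hy with huy | huy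
        · exact ⟨u, hu, hux, huy, id⟩
        · refine ⟨u * x, mul_mem hu hx, by rw [← mul_assoc x u x, ← hux], ?_, fun h => ?_⟩
          · calc u * x * y = u * (y * x * Q.z) := by rw [mul_assoc, hxy']
              _ = (u * y) * x * Q.z := by group
              _ = y * u * (Q.z * x) * Q.z := by rw [huy]; group
              _ = y * u * (x * Q.z) * Q.z := by rw [Q.K_commA hx Q.hzA]
              _ = y * (u * x) * (Q.z * Q.z) := by group
              _ = y * (u * x) := by rw [hzz, mul_one]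
          · have : g * u * x = u * g * x := by rw [mul_assoc, h, mul_assoc, ← hgx]; group
            exact mul_right_cancel this
        · refine ⟨u * y, mul_mem hu hy, ?_, by rw [← mul_assoc y u y, ← huy], fun h => ?_⟩
          · calc u * y * x = u * (x * y * Q.z) := by rw [mul_assoc, hyx]
              _ = (u * x) * y * Q.z := by group
              _ = x * u * (Q.z * y) * Q.z := by rw [hux]; group
              _ = x * u * (y * Q.z) * Q.z := by rw [Q.K_commA hy Q.hzA]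
              _ = x * (u * y) * (Q.z * Q.z) := by group
              _ = x * (u * y) := by rw [hzz, mul_one]
          · have : g * u * y = u * g * y := by rw [mul_assoc, h, mul_assoc, ← hgy]; group
            exact mul_right_cancel this
        · refine ⟨u * (x * y), mul_mem hu (mul_mem hx hy), ?_, ?_, fun h => ?_⟩
          · calc u * (x * y) * x = u * x * (x * y * Q.z) := by rw [← hyx]; group
              _ = x * u * (Q.z * (x * y)) * Q.z := by rw [hux]; group
              _ = x * u * ((x * y) * Q.z) * Q.z := by rw [Q.K_commA (mul_mem hx hy) Q.hzA]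
              _ = x * (u * (x * y)) * (Q.z * Q.z) := by group
              _ = x * (u * (x * y)) := by rw [hzz, mul_one]
          · calc u * (x * y) * y = u * (y * x * Q.z) * y := by rw [hxy']
              _ = u * y * (x * (Q.z * y)) := by group
              _ = u * y * (x * (y * Q.z)) := by rw [Q.K_commA hy Q.hzA]
              _ = y * u * (Q.z * (x * y)) * Q.z := by rw [huy]; group
              _ = y * u * ((x * y) * Q.z) * Q.z := by rw [Q.K_commA (mul_mem hx hy) Q.hzA]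
              _ = y * (u * (x * y)) * (Q.z * Q.z) := by group
              _ = y * (u * (x * y)) := by rw [hzz, mul_one]
          · have : g * u * (x * y) = u * g * (x * y) := by
              rw [mul_assoc, h, mul_assoc u g, ← mul_assoc g x, hgx, mul_assoc x g, hgy]; group
            exact mul_right_cancel this
      refine (hdec ?_).symm
      have hu'A : u' ∈ Q.A := by
        by_contra hA
        by_cases hux : u' * x ∈ Q.A
        · refine hxy ?_
          have h1 := hAcent y hy.1 _ hux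
          have : u' * (y * x) = u' * (x * y) := by
            rw [← mul_assoc, hu'y, mul_assoc, h1, mul_assoc]
          exact (mul_left_cancel this).symm
        · exact hncomm u' hu' x hx hA hxA hux hu'x
      exact hAcent g hg u' hu'A
    -- adjust `e₀`
    obtain ⟨u, hu, hgx, hgy⟩ : ∃ u ∈ Q.K, e₀ * u * x = x * (e₀ * u) ∧ e₀ * u * y = y * (e₀ * u) := by
      rcases hcommxy e₀ he₀ x hx with hex | hex <;> rcases hcommxy e₀ he₀ y hy with hey | hey
      · exact ⟨1, one_mem _, by rw [mul_one, hex], by rw [mul_one, hey]⟩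
      · refine ⟨x, hx, by rw [← mul_assoc x e₀ x, ← hex], ?_⟩
        calc e₀ * x * y = e₀ * (y * x * Q.z) := by rw [mul_assoc, hxy']
          _ = (e₀ * y) * x * Q.z := by group
          _ = y * e₀ * (Q.z * x) * Q.z := by rw [hey]; group
          _ = y * e₀ * (x * Q.z) * Q.z := by rw [Q.K_commA hx Q.hzA]
          _ = y * (e₀ * x) * (Q.z * Q.z) := by group
          _ = y * (e₀ * x) := by rw [hzz, mul_one]
      · refine ⟨y, hy, ?_, by rw [← mul_assoc y e₀ y, ← hey]⟩
        calc e₀ * y * x = e₀ * (x * y * Q.z) := by rw [mul_assoc, hyx]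
          _ = (e₀ * x) * y * Q.z := by group
          _ = x * e₀ * (Q.z * y) * Q.z := by rw [hex]; group
          _ = x * e₀ * (y * Q.z) * Q.z := by rw [Q.K_commA hy Q.hzA]
          _ = x * (e₀ * y) * (Q.z * Q.z) := by group
          _ = x * (e₀ * y) := by rw [hzz, mul_one]
      · refine ⟨x * y, mul_mem hx hy, ?_, ?_⟩
        · calc e₀ * (x * y) * x = e₀ * x * (x * y * Q.z) := by rw [← hyx]; group
            _ = x * e₀ * (Q.z * (x * y)) * Q.z := by rw [hex]; group
            _ = x * e₀ * ((x * y) * Q.z) * Q.z := by rw [Q.K_commA (mul_mem hx hy) Q.hzA]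
            _ = x * (e₀ * (x * y)) * (Q.z * Q.z) := by group
            _ = x * (e₀ * (x * y)) := by rw [hzz, mul_one]
        · calc e₀ * (x * y) * y = e₀ * (y * x * Q.z) * y := by rw [hxy']
            _ = e₀ * y * (x * (Q.z * y)) := by group
            _ = e₀ * y * (x * (y * Q.z)) := by rw [Q.K_commA hy Q.hzA]
            _ = y * e₀ * (Q.z * (x * y)) * Q.z := by rw [hey]; group
            _ = y * e₀ * ((x * y) * Q.z) * Q.z := by rw [Q.K_commA (mul_mem hx hy) Q.hzA]
            _ = y * (e₀ * (x * y)) * (Q.z * Q.z) := by group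
            _ = y * (e₀ * (x * y)) := by rw [hzz, mul_one]
    have hgA := hcent _ (mul_mem he₀ hu.1) hgx hgy
    refine he₀A (hno e₀ ?_ her₀)
    have := mul_mem (Q.A_le_K hgA) (inv_mem hu)
    rwa [mul_inv_cancel_right] at this
  · -- odd `r`
    have hint : IsCoprime i (r : ℤ) := ((Nat.prime_iff_prime_int.mp hr.out).coprime_iff_not_dvd.mpr hri).symm
    obtain ⟨s, t, hst⟩ := hint
    let u := x ^ (-(s * j))
    have hu : u ∈ Q.K := zpow_mem hx _
    let c := y⁻¹ * u⁻¹ * y * u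
    have hcz : c ∈ Subgroup.zpowers Q.z := by
      have h := Q.K_comm_mem hu hy
      have hA := (Subgroup.zpowers_le.mpr Q.hzA) h
      have : c = u⁻¹ * y * u * y⁻¹ := by
        calc c = y⁻¹ * ((u⁻¹ * y * u * y⁻¹) * y) := by simp only [c]; group
          _ = y⁻¹ * (y * (u⁻¹ * y * u * y⁻¹)) := by rw [Q.K_commA hy hA]
          _ = _ := by group
      rwa [this]
    have hcA : c ∈ Q.A := (Subgroup.zpowers_le.mpr Q.hzA) hcz
    have hcr : c ^ r = 1 := by
      obtain ⟨n, hn⟩ := hcz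
      rw [← hn]
      show (Q.z ^ n) ^ r = 1
      rw [← zpow_natCast, ← zpow_mul, mul_comm, zpow_mul, zpow_natCast, Q.z_pow, one_zpow]
    have e1 : y * u = u * y * c := by simp only [c]; group
    have hchoose : c ^ r.choose 2 = 1 := by
      obtain ⟨m, hm⟩ := hodd
      rw [Nat.choose_two_right, show r * (r - 1) / 2 = r * m by
        rw [hm, show 2 * m + 1 - 1 = 2 * m by omega, ← mul_assoc, mul_comm (2 * m + 1) 2,
          mul_assoc, Nat.mul_div_cancel_left _ two_pos], pow_mul, hcr, one_pow]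
    have h1 : (u * y) ^ r = Q.a ^ (j * (1 - s * i)) := by
      rw [pow_mul_of_central e1 (Q.K_commA hy hcA).symm (Q.K_commA hu hcA).symm, hchoose, mul_one, hj]
      have : u ^ r = Q.a ^ (-(s * j) * i) := by
        simp only [u]
        rw [← zpow_natCast, ← zpow_mul, mul_comm, zpow_mul, zpow_natCast, hi, ← zpow_mul, mul_comm]
      rw [this, ← zpow_add]
      ring_nf
    have h2 : u * y ∈ Q.A := by
      by_contra h2
      refine hgen _ (mul_mem hu hy) h2 (Q.a ^ (j * t)) (zpow_mem haA _) ?_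
      rw [h1, ← zpow_natCast, ← zpow_mul, show 1 - s * i = t * (r : ℤ) by linarith, mul_assoc]
    refine hxy ?_
    have h3 := Q.K_commA hx h2
    have hxu : Commute x u := (Commute.refl x).zpow_right _
    rw [← mul_assoc, hxu.eq, mul_assoc, mul_assoc] at h3
    exact mul_left_cancel h3

/-- Without two commuting independent elements of order `r` in `K` there is a contradiction as well. -/
theorem false_of_no_pair [FaithfulSMul Y V] [Nontrivial V] (hbig : 2 ^ 256 ≤ Nat.card V)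
    {e : Y} (he : e ∈ Q.K) (heA : e ∉ Q.A) (her : e ^ r = 1)
    (hno : ∀ a ∈ Q.K, ∀ b ∈ Q.K, a ∉ Q.A → b ∉ Q.A → a ^ r = 1 → b ^ r = 1 → a * b = b * a →
      ∃ i : ℤ, b * a ^ i ∈ Q.A) : False := by
  classical
  obtain ⟨w, hw0, hw⟩ := Q.exists_fix he heA her
  have hze : Commute Q.z e := (Q.K_commA he Q.hzA).symm
  have hpow := Q.pow_card_fix_le (e := e) hze.eq (fun i => Q.exists_ψ he heA i)
  let J : Subgroup Y := Q.K ⊓ Subgroup.centralizer {e}
  have hKL : Q.K ≤ Q.L := Q.K_le_R.trans Q.hRL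
  have hKB : Q.K ≤ B := Q.K_le_R.trans Q.hRB
  have hJ : J ≤ Q.L ⊓ Subgroup.centralizer {e} ⊓ B := fun u hu => ⟨⟨hKL hu.1, hu.2⟩, hKB hu.1⟩
  have hst : stabilizer Y w ⊓ J ≤ Subgroup.zpowers e := by
    rintro s ⟨hsw, hsK, hse⟩
    have hsr : s ^ r = 1 := by
      by_contra hne
      exact hw0 (Q.hfpf _ (Q.K_pow hsK) hne w ((stabilizer Y w).pow_mem hsw r))
    have hec : ∀ i : ℤ, s * e ^ i ∈ Q.A → s ∈ Subgroup.zpowers e := by
      intro i hi
      have h1 : s * e ^ i = 1 := by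
        by_contra hne
        exact hw0 (Q.hfpf _ hi hne w ((stabilizer Y w).mul_mem hsw
          ((stabilizer Y w).zpow_mem (mem_stabilizer_iff.mpr hw) i)))
      exact ⟨-i, by show e ^ (-i) = s; rw [zpow_neg]; exact (eq_inv_of_mul_eq_one_left h1).symm⟩
    by_cases hsA : s ∈ Q.A
    · exact hec 0 (by rwa [zpow_zero, mul_one])
    · obtain ⟨i, hi⟩ := hno e he s hsK heA hsA her hsr (Subgroup.mem_centralizer_singleton_iff.mp hse).symm
      exact hec i hi
  have horder : orderOf e = r := orderOf_eq_prime her fun h => heA (h ▸ one_mem _)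
  have hcardK : Nat.card ↥Q.K = Nat.card ↥J * r := by
    have h := Subgroup.relIndex_mul_relIndex ⊥ J Q.K bot_le inf_le_left
    rw [Subgroup.relIndex_bot_left, Subgroup.relIndex_bot_left, Subgroup.inf_relIndex_left,
      Q.relIndex_cent he heA] at h
    exact h.symm
  have horb : Nat.card ↥Q.K ≤ r * r * (orbit J w).ncard := by
    rw [hcardK, ncard_orbit]
    have h := Subgroup.relIndex_mul_relIndex ⊥ (stabilizer Y w ⊓ J) J bot_le inf_le_right
    rw [Subgroup.relIndex_bot_left, Subgroup.relIndex_bot_left, Subgroup.inf_relIndex_right] at h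
    have h1 : Nat.card ↥(stabilizer Y w ⊓ J) ≤ r := by
      refine le_trans (Subgroup.card_le_of_le hst) ?_
      rw [Nat.card_zpowers, horder]
    rw [← h]
    calc Nat.card ↥(stabilizer Y w ⊓ J) * (stabilizer Y w).relIndex J * r
        ≤ r * (stabilizer Y w).relIndex J * r := Nat.mul_le_mul_right _ (Nat.mul_le_mul_right _ h1)
      _ = _ := by ring
  have h1 := Q.fix_bound hw hw0 hJ
  have h2 := Q.index_le e
  have h3 : r ≤ (Q.L ⊓ Subgroup.centralizer {e} ⊓ B).relIndex (Q.L ⊓ B) := by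
    refine le_trans (le_of_eq ?_)
      (Subgroup.relIndex_le_of_le_right (le_inf hKL hKB) Subgroup.index_ne_zero_of_finite)
    refine (Q.relIndex_cent he heA).symm.trans ?_
    rw [← Subgroup.inf_relIndex_right, ← Subgroup.inf_relIndex_right
      (H := Q.L ⊓ Subgroup.centralizer {e} ⊓ B)]
    congr 1
    ext u
    simp only [Subgroup.mem_inf]
    exact ⟨fun h => ⟨⟨⟨hKL h.2, h.1⟩, hKB h.2⟩, h.2⟩, fun h => ⟨h.1.1.2, h.2⟩⟩
  let C : Set Y := (fun l => l * e * l⁻¹) '' (Q.L : Set Y)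
  have hCP : C ⊆ {s | s ∈ Q.K ∧ s ∉ Q.A ∧ s ^ r = 1} := by
    rintro _ ⟨l, hl, rfl⟩
    refine ⟨(Subgroup.mem_normalizer_iff.mp (Q.L_le_normalizer_K hl) e).mp he, fun h => heA ?_,
      by rw [conj_pow, her]; group⟩
    have := Q.conj_mem' hl h
    convert this using 1
    group
  have hcard : Nat.card ↥Q.K = Nat.card ↥Q.A * Q.A.relIndex Q.K := by
    have h := Subgroup.relIndex_mul_relIndex ⊥ Q.A Q.K bot_le Q.A_le_K
    rw [Subgroup.relIndex_bot_left, Subgroup.relIndex_bot_left] at h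
    exact h.symm
  have hAr : r ≤ Nat.card ↥Q.A := by
    have := Subgroup.card_le_of_le (Subgroup.zpowers_le.mpr Q.hzA)
    rwa [Nat.card_zpowers, Q.hz] at this
  set m₀ := B.relIndex (Q.L ⊓ Subgroup.centralizer {e})
  set W := Nat.card (fixV ({e} : Set Y) : AddSubgroup V)
  have key : ∀ c, C.ncard * r ≤ c * Nat.card ↥Q.K → B.index + 1 ≤ c * W := by
    intro c hc
    have hc0 : c ≠ 0 := by
      rintro rfl
      rw [zero_mul, Nat.le_zero, mul_eq_zero] at hc
      rcases hc with hc | hc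
      · have : C.Nonempty := ⟨_, 1, one_mem _, rfl⟩
        exact absurd hc (Set.ncard_pos (Set.toFinite _) |>.mpr this).ne'
      · exact hr.out.ne_zero hc
    have hrr : 0 < r * r := Nat.mul_pos hr.out.pos hr.out.pos
    have h4 : B.index * (r * r) ≤ c * m₀ * (r * r * (orbit J w).ncard) := by
      calc B.index * (r * r) = (B.index * r) * r := by ring
        _ ≤ (C.ncard * m₀) * r := Nat.mul_le_mul_right _ ((Nat.mul_le_mul_left _ h3).trans h2)
        _ = (C.ncard * r) * m₀ := by ring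
        _ ≤ (c * Nat.card ↥Q.K) * m₀ := Nat.mul_le_mul_right _ hc
        _ ≤ (c * (r * r * (orbit J w).ncard)) * m₀ :=
          Nat.mul_le_mul_right _ (Nat.mul_le_mul_left _ horb)
        _ = _ := by ring
    have h5 : B.index ≤ c * (m₀ * (orbit J w).ncard) := by
      refine Nat.le_of_mul_le_mul_right ?_ hrr
      exact h4.trans_eq (by ring)
    calc B.index + 1 ≤ c * (m₀ * (orbit J w).ncard) + c := Nat.add_le_add h5 (Nat.pos_of_ne_zero hc0)
      _ = c * (m₀ * (orbit J w).ncard + 1) := by ring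
      _ ≤ c * W := Nat.mul_le_mul_left _ h1
  apply Q.small
  rcases hr.out.eq_two_or_odd' with h2r | hodd
  · subst h2r
    have hinj : 2 * C.ncard ≤ Nat.card ↥Q.K := by
      by_cases hA : Nat.card ↥Q.A ≤ 2
      · -- translating by `e` leaves the set
        have hA2 : ∀ d ∈ Q.A, d ∈ Subgroup.zpowers Q.z := fun d hd => by
          rw [Subgroup.eq_of_le_of_card_ge (Subgroup.zpowers_le.mpr Q.hzA)
            (by rw [Nat.card_zpowers, Q.hz]; exact hA)]
          exact hd
        have hdis : Disjoint C ((fun s => s * e) '' C) := by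
          rw [Set.disjoint_right]
          rintro _ ⟨s, hs, rfl⟩ hse
          obtain ⟨hsK, hsA, hs2⟩ := hCP hs
          obtain ⟨hseK, hseA, hse2⟩ := hCP hse
          have hcomm : s * e = e * s := by
            have i1 : s⁻¹ = s := inv_eq_of_mul_eq_one_right (by rw [← sq]; exact hs2)
            have i2 : e⁻¹ = e := inv_eq_of_mul_eq_one_right (by rw [← sq]; exact her)
            calc s * e = (s * e)⁻¹ := (inv_eq_of_mul_eq_one_right (by rw [← sq]; exact hse2)).symm
              _ = e * s := by rw [mul_inv_rev, i1, i2]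
          obtain ⟨i, hi⟩ := hno e he s hsK heA hsA her hs2 hcomm.symm
          have he2 : e ^ (2 : ℤ) = 1 := by exact_mod_cast her
          rcases Int.even_or_odd i with ⟨k, hk⟩ | ⟨k, hk⟩
          · rw [hk, ← two_mul, zpow_mul, he2, one_zpow, mul_one] at hi
            exact hsA hi
          · rw [hk, zpow_add, zpow_mul, he2, one_zpow, one_mul, zpow_one] at hi
            exact hseA hi
        have hsub : C ∪ (fun s => s * e) '' C ⊆ (Q.K : Set Y) := by
          rintro s (hs | ⟨s, hs, rfl⟩)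
          · exact (hCP hs).1
          · exact mul_mem (hCP hs).1 he
        have := Set.ncard_le_ncard hsub (Set.toFinite _)
        rw [Set.ncard_union_eq hdis (Set.toFinite _) (Set.toFinite _),
          Set.ncard_image_of_injective _ (fun a b h => mul_right_cancel h)] at this
        rw [two_mul]
        exact this.trans_eq (Nat.card_coe_set_eq _).symm
      · have : C.ncard ≤ 2 * Q.A.relIndex Q.K :=
          le_trans (Set.ncard_le_ncard (fun s hs => (⟨(hCP hs).1, (hCP hs).2.2⟩ : s ∈ {s | s ∈ Q.K ∧ s ^ 2 = 1}))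
            (Set.toFinite _)) Q.ncard_torsion
        rw [hcard]
        have h4 : 4 ≤ Nat.card ↥Q.A := by
          obtain ⟨n, hn⟩ := IsPGroup.iff_card.mp (Q.hRr.to_le Q.hAR)
          rw [hn] at hA ⊢
          rcases Nat.lt_or_ge n 2 with h | h
          · exact absurd (le_trans (Nat.pow_le_pow_right two_pos (by omega : n ≤ 1)) le_rfl) hA
          · exact le_trans (by norm_num) (Nat.pow_le_pow_right two_pos h)
        calc 2 * C.ncard ≤ 4 * Q.A.relIndex Q.K := by omega
          _ ≤ _ := Nat.mul_le_mul_right _ h4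
    have := key 1 (by rw [one_mul, mul_comm]; exact hinj)
    rw [one_mul] at this
    exact le_trans (Nat.pow_le_pow_left this 2) hpow
  · have hr3 : 3 ≤ r := by
      obtain ⟨m, hm⟩ := hodd
      have := hr.out.two_le
      omega
    have hC : C.ncard * r ≤ r * Nat.card ↥Q.K := by
      have : C.ncard ≤ r * Q.A.relIndex Q.K :=
        le_trans (Set.ncard_le_ncard (fun s hs => (⟨(hCP hs).1, (hCP hs).2.2⟩ : s ∈ {s | s ∈ Q.K ∧ s ^ r = 1}))
          (Set.toFinite _)) Q.ncard_torsion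
      rw [mul_comm, hcard]
      exact Nat.mul_le_mul_left _ (this.trans (Nat.mul_le_mul_right _ hAr))
    refine le_trans (Nat.pow_le_pow_left (key r hC) 2) (arith_odd hr3 ?_ hbig hpow)
    have hzJ : Subgroup.zpowers Q.z ≤ J := Subgroup.zpowers_le.mpr
      ⟨Q.A_le_K Q.hzA, Subgroup.mem_centralizer_singleton_iff.mpr hze.eq⟩
    have h4 := le_trans (Q.orbit_zpowers hw0) (Set.ncard_le_ncard (orbit_mono hzJ w) (Set.toFinite _))
    have h6 : 0 < m₀ := Nat.pos_of_ne_zero Subgroup.index_ne_zero_of_finite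
    calc r + 1 ≤ m₀ * (orbit J w).ncard + 1 :=
          Nat.add_le_add_right (le_trans h4 (Nat.le_mul_of_pos_left _ h6)) 1
      _ ≤ W := h1

end Loc

/-- **The linear bound**: in a coprime faithful action where everything outside `B` is fixed-point-free
while `B` is not semiregular, the square of one plus the index of `B` is at most the size of the module. -/
theorem Hyp.bound [FaithfulSMul Y V] (hH : Hyp B V) {q : ℕ} [hq : Fact q.Prime]
    (hexp : ∀ w : V, q • w = 0) (hbig : 2 ^ 256 ≤ Nat.card V)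
    {b : Y} (hbB : b ∈ B) (hb1 : b ≠ 1) {w : V} (hbw : b • w = w) (hw0 : w ≠ 0) :
    (B.index + 1) ^ 2 ≤ Nat.card V := by
  by_contra hsmall
  haveI := hH.normal
  letI : Module (ZMod q) V := AddCommGroup.zmodModule hexp
  haveI : Nontrivial V := ⟨⟨w, 0, hw0⟩⟩
  obtain ⟨r, hr, hrb⟩ := Nat.exists_prime_and_dvd (mt orderOf_eq_one_iff.mp hb1)
  haveI := Fact.mk hr
  let e := b ^ (orderOf b / r)
  have her : orderOf e = r := orderOf_pow_orderOf_div (orderOf_pos b).ne' hrb
  have heB : e ∈ B := pow_mem hbB _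
  have hew : e • w = w := (stabilizer Y w).pow_mem (mem_stabilizer_iff.mpr hbw) _
  have her' : e ^ r = 1 := orderOf_dvd_iff_pow_eq_one.mp (dvd_of_eq her)
  have hp : IsPGroup r (Subgroup.zpowers (⟨e, heB⟩ : ↥B)) := by
    refine IsPGroup.of_card (n := 1) ?_
    rw [Nat.card_zpowers, ← Subgroup.orderOf_coe, pow_one]
    exact her
  obtain ⟨P, hP⟩ := hp.exists_le_sylow
  let R : Subgroup Y := (P : Subgroup ↥B).map B.subtype
  let L : Subgroup Y := Subgroup.normalizer (R : Set Y)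
  have heR : e ∈ R := ⟨⟨e, heB⟩, hP (Subgroup.mem_zpowers _), rfl⟩
  have cover : Cover B L := Sylow.normalizer_sup_eq_top P
  have hRne : R ≠ ⊥ := fun h => by
    rw [h] at heR
    rw [Subgroup.mem_bot.mp heR, orderOf_one] at her
    exact hr.one_lt.ne her
  obtain ⟨Q, hQL, hQR⟩ := hH.exists_loc hsmall L cover R (Subgroup.map_subtype_le _)
    (P.isPGroup'.map _) Subgroup.le_normalizer le_rfl hRne
  have heQ : e ∈ Q.R := hQR ▸ heR
  have he1 : e ≠ 1 := fun h => by rw [h, orderOf_one] at her; exact hr.one_lt.ne her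
  have heA : e ∉ Q.A := fun h => hw0 (Q.hfpf e h he1 w hew)
  by_cases hC : Q.R ⊓ Subgroup.centralizer (Q.A : Set Y) ≤ Q.A
  · exact Q.false_of_selfCentralizing hC heQ her hew hw0
  · obtain ⟨f, hf, hfA, hfr⟩ := Q.exists_torsion hC heQ her' heA
    by_cases hpair : ∀ a ∈ Q.K, ∀ c ∈ Q.K, a ∉ Q.A → c ∉ Q.A → a ^ r = 1 → c ^ r = 1 → a * c = c * a →
        ∃ i : ℤ, c * a ^ i ∈ Q.A
    · exact Q.false_of_no_pair hbig hf hfA hfr hpair
    · push Not at hpair
      obtain ⟨a, ha, c, hc, haA, hcA, har, hcr, hac, hind⟩ := hpair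
      exact Q.false_of_pair (q := q) hbig ha haA hc hcA har hcr hac hind

end Cfsg.Agent.Lib.DerangeIndex3.Linear
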