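import Cfsg.Agent.Lib.DerangeIndex3.LinearAbelian
import Cfsg.Agent.Lib.PGroups.Omega

/-!
# A maximal normalised abelian subgroup inside an `r`-subgroup
-/

set_option linter.style.haveILetI false
set_option linter.unusedSectionVars false

namespace Cfsg.Agent.Lib.DerangeIndex3.Linear

open MulAction Pointwise

universe u v

variable {Y : Type u} [Group Y] [Finite Y] {V : Type v} [AddCommGroup V] [Finite V]
  [DistribMulAction Y V] {B : Subgroup Y}

/-- The configuration: an `r`-subgroup `R` of `B` normalised by a covering subgroup `L`, with a maximal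
normalised abelian subgroup `A`, generated by `a`, and `z` of order `r` in it. -/
structure Loc (V : Type v) [AddCommGroup V] [DistribMulAction Y V] (B : Subgroup Y) (r : ℕ) where
  hH : Hyp B V
  small : ¬ (B.index + 1) ^ 2 ≤ Nat.card V
  L : Subgroup Y
  cover : Cover B L
  R : Subgroup Y
  hRB : R ≤ B
  hRr : IsPGroup r R
  hRL : R ≤ L
  hLR : L ≤ Subgroup.normalizer (R : Set Y)
  A : Subgroup Y
  hAR : A ≤ R
  hLA : L ≤ Subgroup.normalizer (A : Set Y)
  hAmax : ∀ A' : Subgroup Y, A' ≤ R → (∀ x ∈ A', ∀ y ∈ A', x * y = y * x) →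
    L ≤ Subgroup.normalizer (A' : Set Y) → A ≤ A' → A' ≤ A
  a : Y
  hA : A = Subgroup.zpowers a
  z : Y
  hzA : z ∈ A
  hz : orderOf z = r
  hfpf : ∀ c ∈ A, c ≠ 1 → ∀ w : V, c • w = w → w = 0

namespace Loc

variable {r : ℕ} [hr : Fact r.Prime] (Q : Loc V B r)

include Q in
theorem comm {x y : Y} (hx : x ∈ Q.A) (hy : y ∈ Q.A) : x * y = y * x := by
  rw [Q.hA] at hx hy
  obtain ⟨i, rfl⟩ := hx
  obtain ⟨j, rfl⟩ := hy
  exact zpow_mul_comm Q.a i j

include Q in
theorem exists_rpow {x : Y} (hx : x ∈ Q.A) (hx1 : x ≠ 1) : ∃ k, orderOf (x ^ k) = r := by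
  obtain ⟨k, hk⟩ := IsPGroup.iff_orderOf.mp Q.hRr ⟨x, Q.hAR hx⟩
  have hk' : orderOf x = r ^ k := by rw [← hk, ← Subgroup.orderOf_coe]
  refine ⟨orderOf x / r, orderOf_pow_orderOf_div (orderOf_pos x).ne' ?_⟩
  rw [hk']
  cases k with
  | zero => rw [pow_zero, orderOf_eq_one_iff] at hk'; exact absurd hk' hx1
  | succ k => exact dvd_pow_self r (Nat.succ_ne_zero k)

/-- The elements of order dividing `r` in `A`. -/
theorem mem_zpowers_z [FaithfulSMul Y V] [Nontrivial V] {x : Y} (hx : x ∈ Q.A) (hxr : x ^ r = 1) :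
    x ∈ Subgroup.zpowers Q.z :=
  Q.hH.abelian_unique Q.cover Q.small (Q.hAR.trans Q.hRL) (Q.hAR.trans Q.hRB) Q.hLA
    (fun _ hx _ hy => Q.comm hx hy) Q.hzA hx Q.hz hxr

theorem z_ne_one : Q.z ≠ 1 := fun h => by
  have := Q.hz
  rw [h, orderOf_one] at this
  exact hr.out.one_lt.ne this

theorem z_pow : Q.z ^ r = 1 := orderOf_dvd_iff_pow_eq_one.mp (dvd_of_eq Q.hz)

theorem fix_eq_zero {c : Y} (hc : c ∈ Q.A) (hc1 : c ≠ 1) : (fixV ({c} : Set Y) : AddSubgroup V) = ⊥ :=
  (AddSubgroup.eq_bot_iff_forall _).mpr fun w hw => Q.hfpf c hc hc1 w (hw c rfl)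

/-- Elements of a commutator coset with values in `A` give `r` independent fixed spaces. -/
theorem pow_card_fix_le {e : Y} (hze : Q.z * e = e * Q.z) {K : Subgroup Y}
    (hconj : ∀ i : ℕ, ∃ k ∈ K, k * e * k⁻¹ = e * Q.z ^ i) :
    Nat.card (fixV ({e} : Set Y) : AddSubgroup V) ^ r ≤ Nat.card V := by
  have hfix : ∀ i : ℕ, Nat.card (fixV (Subgroup.zpowers (e * Q.z ^ i) : Set Y) : AddSubgroup V) =
      Nat.card (fixV ({e} : Set Y) : AddSubgroup V) := by
    intro i
    obtain ⟨k, -, hk⟩ := hconj i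
    have hN : (MulAut.conj k • Subgroup.zpowers e : Subgroup Y) = Subgroup.zpowers (e * Q.z ^ i) := by
      rw [← hk]
      ext x
      constructor
      · rintro ⟨y, ⟨n, rfl⟩, rfl⟩
        exact ⟨n, conj_zpow⟩
      · rintro ⟨n, rfl⟩
        exact ⟨e ^ n, ⟨n, rfl⟩, conj_zpow.symm⟩
    rw [← hN, card_fixV_smul]
    refine Nat.card_congr (Equiv.subtypeEquiv (Equiv.refl V) fun w => ?_)
    simp only [mem_fixV, Equiv.refl_apply, Set.mem_singleton_iff, forall_eq]
    constructor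
    · intro h; exact h e (Subgroup.mem_zpowers e)
    · rintro h s ⟨n, rfl⟩
      exact mem_stabilizer_iff.mp (Subgroup.zpow_mem _ (mem_stabilizer_iff.mpr h) n)
  have hcz : ∀ i j : ℕ, Commute (e * Q.z ^ i) (e * Q.z ^ j) := fun i j =>
    ((Commute.refl e).mul_left (Commute.pow_left hze i)).mul_right
      ((Commute.pow_right (Commute.symm hze) j).mul_left ((Commute.refl Q.z).pow_pow i j))
  have h := Q.hH.prod_card_le (ι := Fin r) (fun i => Subgroup.zpowers (e * Q.z ^ (i : ℕ)))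
    (by
      intro i j x hx y hy
      obtain ⟨n, rfl⟩ := hx
      obtain ⟨m, rfl⟩ := hy
      exact ((hcz i j).zpow_zpow n m).eq)
    (fun i j hij => by
      refine (AddSubgroup.eq_bot_iff_forall _).mpr fun w hw => ?_
      let s := stabilizer Y w
      have h1 : e * Q.z ^ (i : ℕ) ∈ s := hw _ (Or.inl (Subgroup.mem_zpowers _))
      have h2 : e * Q.z ^ (j : ℕ) ∈ s := hw _ (Or.inr (Subgroup.mem_zpowers _))
      have h3 : (Q.z ^ (i : ℕ))⁻¹ * Q.z ^ (j : ℕ) ∈ s := by
        have := s.mul_mem (s.inv_mem h1) h2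
        rwa [mul_inv_rev, mul_assoc, inv_mul_cancel_left] at this
      refine Q.hfpf _ (mul_mem (inv_mem (pow_mem Q.hzA _)) (pow_mem Q.hzA _)) (fun h => hij ?_) w h3
      rw [inv_mul_eq_one] at h
      exact Fin.ext (pow_injOn_Iio_orderOf (by simp [Q.hz]) (by simp [Q.hz]) h))
  simpa only [hfix, Finset.prod_const, Finset.card_univ, Fintype.card_fin] using h

/-- The part of the index seen by the centraliser of `e`. -/
theorem index_le (e : Y) :
    B.index * (Q.L ⊓ Subgroup.centralizer {e} ⊓ B).relIndex (Q.L ⊓ B) ≤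
      ((fun l => l * e * l⁻¹) '' (Q.L : Set Y)).ncard * B.relIndex (Q.L ⊓ Subgroup.centralizer {e}) := by
  rw [Q.hH.index_mul Q.cover inf_le_left]
  refine le_of_eq (congrArg (· * _) ?_)
  let cl := fun l : ↥Q.L => (l : Y) * e * (l : Y)⁻¹
  rw [Subgroup.relIndex, Subgroup.index_eq_card, ← Nat.card_coe_set_eq]
  refine Nat.card_congr (Equiv.ofBijective
    (Quotient.lift (fun l : ↥Q.L => (⟨(l : Y) * e * (l : Y)⁻¹, ⟨l, l.2, rfl⟩⟩ :
      ((fun l => l * e * l⁻¹) '' (Q.L : Set Y)))) fun x y hxy => ?_) ⟨?_, ?_⟩)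
  · replace hxy : x⁻¹ * y ∈ (Q.L ⊓ Subgroup.centralizer {e}).subgroupOf Q.L :=
      QuotientGroup.leftRel_apply.mp hxy
    rw [Subgroup.mem_subgroupOf] at hxy
    refine Subtype.ext ?_
    have h1 := (Subgroup.mem_centralizer_singleton_iff.mp hxy.2)
    simp only [Subgroup.coe_mul, InvMemClass.coe_inv] at h1
    show (x : Y) * e * (x : Y)⁻¹ = (y : Y) * e * (y : Y)⁻¹
    calc (x : Y) * e * (x : Y)⁻¹ = (x : Y) * (e * ((x : Y)⁻¹ * y)) * (y : Y)⁻¹ := by group
      _ = (x : Y) * ((x : Y)⁻¹ * y * e) * (y : Y)⁻¹ := by rw [h1]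
      _ = (y : Y) * e * (y : Y)⁻¹ := by group
  · intro x y
    induction x using Quotient.inductionOn with
    | h x =>
      induction y using Quotient.inductionOn with
      | h y =>
        intro h
        replace h : (x : Y) * e * (x : Y)⁻¹ = (y : Y) * e * (y : Y)⁻¹ := congrArg Subtype.val h
        refine Quotient.sound (QuotientGroup.leftRel_apply.mpr ?_)
        rw [Subgroup.mem_subgroupOf]
        refine ⟨(x⁻¹ * y).2, Subgroup.mem_centralizer_singleton_iff.mpr ?_⟩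
        simp only [Subgroup.coe_mul, InvMemClass.coe_inv]
        calc (x : Y)⁻¹ * y * e = (x : Y)⁻¹ * ((y : Y) * e * (y : Y)⁻¹) * y := by group
          _ = (x : Y)⁻¹ * ((x : Y) * e * (x : Y)⁻¹) * y := by rw [h]
          _ = e * ((x : Y)⁻¹ * y) := by group
  · rintro ⟨_, l, hl, rfl⟩
    exact ⟨Quotient.mk _ ⟨l, hl⟩, rfl⟩

/-- The orbit bound in the centraliser of `e`. -/
theorem fix_bound {e : Y} {w : V} (hw : e • w = w) (hw0 : w ≠ 0) {J : Subgroup Y}
    (hJ : J ≤ Q.L ⊓ Subgroup.centralizer {e} ⊓ B) :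
    B.relIndex (Q.L ⊓ Subgroup.centralizer {e}) * (orbit J w).ncard + 1 ≤
      Nat.card (fixV ({e} : Set Y) : AddSubgroup V) := by
  refine le_trans ?_ (Q.hH.orbit_bound (L₀ := Q.L ⊓ Subgroup.centralizer {e})
    (fixV ({e} : Set Y)) ?_ (w := w) ?_ hw0)
  · exact Nat.add_le_add_right (Nat.mul_le_mul_left _
      (Set.ncard_le_ncard (orbit_mono hJ w) (Set.toFinite _))) 1
  · intro l hl u hu s hs
    rw [Set.mem_singleton_iff] at hs
    rw [hs, smul_smul, ← Subgroup.mem_centralizer_singleton_iff.mp hl.2, ← smul_smul, hu e rfl]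
  · intro s hs
    rw [Set.mem_singleton_iff.mp hs]
    exact hw

end Loc

/-- A maximal normalised abelian subgroup is cyclic and acts without fixed vectors. -/
theorem Hyp.exists_loc [FaithfulSMul Y V] [Nontrivial V] (hH : Hyp B V)
    (small : ¬ (B.index + 1) ^ 2 ≤ Nat.card V) {r : ℕ} [hr : Fact r.Prime] (L : Subgroup Y)
    (cover : Cover B L) (R : Subgroup Y) (hRB : R ≤ B) (hRr : IsPGroup r R) (hRL : R ≤ L)
    (hLR : L ≤ Subgroup.normalizer (R : Set Y)) (hRne : R ≠ ⊥) :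
    ∃ Q : Loc V B r, Q.L = L ∧ Q.R = R := by
  obtain ⟨A, ⟨hAR, hAc, hLA⟩, hAmax⟩ := (Set.toFinite
    {A : Subgroup Y | A ≤ R ∧ (∀ x ∈ A, ∀ y ∈ A, x * y = y * x) ∧
      L ≤ Subgroup.normalizer (A : Set Y)}).exists_maximal
    ⟨⊥, bot_le, fun x hx y hy => by rw [Subgroup.mem_bot.mp hx, Subgroup.mem_bot.mp hy],
      fun l _ => by rw [Subgroup.mem_normalizer_iff]; intro h; simp⟩
  have hAmax' : ∀ A' : Subgroup Y, A' ≤ R → (∀ x ∈ A', ∀ y ∈ A', x * y = y * x) →
      L ≤ Subgroup.normalizer (A' : Set Y) → A ≤ A' → A' ≤ A := fun A' h1 h2 h3 => hAmax ⟨h1, h2, h3⟩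
  have hAne : A ≠ ⊥ := by
    intro hb
    haveI : Nontrivial ↥R := (Subgroup.nontrivial_iff_ne_bot R).mpr hRne
    have hZ : Subgroup.center ↥R ≠ ⊥ := fun h => by
      obtain ⟨⟨x, hx⟩, ⟨y, hy⟩, hxy⟩ := hRr.center_nontrivial
      rw [h, Subgroup.mem_bot] at hx hy
      exact hxy (Subtype.ext (hx.trans hy.symm))
    let Z := (Subgroup.center ↥R).map R.subtype
    have h1 : Z ≤ A := hAmax' Z (Subgroup.map_subtype_le _)
      (by
        rintro _ ⟨x, hx, rfl⟩ _ ⟨y, hy, rfl⟩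
        exact congrArg Subtype.val ((Subgroup.mem_center_iff.mp hx y).symm))
      (fun l hl => by
        have hl' := Subgroup.mem_normalizer_iff.mp (hLR hl)
        refine Subgroup.mem_normalizer_iff.mpr fun x => ⟨?_, ?_⟩
        · rintro ⟨x', hx', rfl⟩
          refine ⟨⟨l * x' * l⁻¹, (hl' x').mp x'.2⟩, ?_, rfl⟩
          rw [SetLike.mem_coe, Subgroup.mem_center_iff]
          intro y
          have hy : l⁻¹ * y * l ∈ R := (hl' _).mpr (by simp [mul_assoc])
          have := congrArg Subtype.val (Subgroup.mem_center_iff.mp hx' ⟨_, hy⟩)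
          simp only [Subgroup.coe_mul] at this
          refine Subtype.ext ?_
          simp only [Subgroup.coe_mul]
          calc (y : Y) * (l * x' * l⁻¹) = l * ((l⁻¹ * y * l) * x') * l⁻¹ := by group
            _ = l * (x' * (l⁻¹ * y * l)) * l⁻¹ := by rw [this]
            _ = l * x' * l⁻¹ * y := by group
        · rintro ⟨x', hx', he⟩
          have hxR : x ∈ R := (hl' x).mpr (by rw [← he]; exact x'.2)
          refine ⟨⟨x, hxR⟩, ?_, rfl⟩
          rw [SetLike.mem_coe, Subgroup.mem_center_iff]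
          intro y
          have hy : l * y * l⁻¹ ∈ R := (hl' y).mp y.2
          have h2 := congrArg Subtype.val (Subgroup.mem_center_iff.mp hx' ⟨_, hy⟩)
          simp only [Subgroup.coe_mul] at h2
          rw [show (x' : Y) = l * x * l⁻¹ from he] at h2
          refine Subtype.ext ?_
          simp only [Subgroup.coe_mul]
          calc (y : Y) * x = l⁻¹ * ((l * y * l⁻¹) * (l * x * l⁻¹)) * l := by group
            _ = l⁻¹ * ((l * x * l⁻¹) * (l * y * l⁻¹)) * l := by rw [h2]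
            _ = x * y := by group)
      (hb ▸ bot_le)
    rw [hb, le_bot_iff] at h1
    exact hZ ((Subgroup.map_eq_bot_iff_of_injective _ R.subtype_injective).mp h1)
  obtain ⟨x, hx, hx1⟩ := (Subgroup.ne_bot_iff_exists_ne_one).mp hAne |>
    fun ⟨x, hx⟩ => (⟨x.1, x.2, fun h => hx (Subtype.ext h)⟩ : ∃ x, x ∈ A ∧ x ≠ 1)
  have hord : ∀ y ∈ A, ∃ k, orderOf y = r ^ k := fun y hy => by
    obtain ⟨k, hk⟩ := IsPGroup.iff_orderOf.mp hRr ⟨y, hAR hy⟩
    exact ⟨k, by rw [← hk, ← Subgroup.orderOf_coe]⟩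
  have hrpow : ∀ y ∈ A, y ≠ 1 → orderOf (y ^ (orderOf y / r)) = r := by
    intro y hy hy1
    obtain ⟨k, hk⟩ := hord y hy
    refine orderOf_pow_orderOf_div (orderOf_pos y).ne' ?_
    rw [hk]
    cases k with
    | zero => rw [pow_zero, orderOf_eq_one_iff] at hk; exact absurd hk hy1
    | succ k => exact dvd_pow_self r (Nat.succ_ne_zero k)
  let z := x ^ (orderOf x / r)
  have hzA : z ∈ A := pow_mem hx _
  have hz : orderOf z = r := hrpow x hx hx1
  have huniq : ∀ y ∈ A, y ^ r = 1 → y ∈ Subgroup.zpowers z := fun y hy hyr =>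
    hH.abelian_unique cover small (hAR.trans hRL) (hAR.trans hRB) hLA hAc hzA hy hz hyr
  obtain ⟨a, haA, hamax⟩ := (Set.toFinite (A : Set Y)).exists_maximalFor orderOf _ ⟨1, one_mem A⟩
  have hgen : A = Subgroup.zpowers a := by
    refine le_antisymm (fun y hy => ?_) (Subgroup.zpowers_le.mpr haA)
    by_contra hne
    obtain ⟨y₀, ⟨hy₀, hy₀ne⟩, hmin⟩ := (Set.toFinite {y | y ∈ A ∧ y ∉ Subgroup.zpowers a}).exists_minimalFor
      orderOf _ ⟨y, hy, hne⟩
    have hy₀1 : y₀ ≠ 1 := fun h => hy₀ne (h ▸ one_mem _)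
    obtain ⟨k, hk⟩ := hord y₀ hy₀
    have hk0 : k ≠ 0 := fun h => by rw [h, pow_zero, orderOf_eq_one_iff] at hk; exact hy₀1 hk
    have hdvd : r ∣ orderOf y₀ := hk ▸ dvd_pow_self r hk0
    have hlt : orderOf (y₀ ^ r) < orderOf y₀ := by
      rw [orderOf_pow_of_dvd hr.out.ne_zero hdvd]
      exact Nat.div_lt_self (orderOf_pos y₀) hr.out.one_lt
    have hyr : y₀ ^ r ∈ Subgroup.zpowers a := by
      by_contra hc
      exact absurd (hmin ⟨pow_mem hy₀ r, hc⟩ hlt.le) hlt.not_ge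
    classical
    rw [mem_zpowers_iff_mem_range_orderOf, Finset.mem_image] at hyr
    obtain ⟨i, -, hi⟩ := hyr
    by_cases hri : r ∣ i
    · obtain ⟨i', rfl⟩ := hri
      have hcom : Commute y₀ (a ^ i')⁻¹ := hAc _ hy₀ _ (inv_mem (pow_mem haA i'))
      have h1 : (y₀ * (a ^ i')⁻¹) ^ r = 1 := by
        rw [hcom.mul_pow, inv_pow, ← pow_mul, mul_comm i' r, ← hi, mul_inv_cancel]
      have h2 := huniq _ (mul_mem hy₀ (inv_mem (pow_mem haA i'))) h1
      have hza : z ∈ Subgroup.zpowers a := by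
        have ha1 : a ≠ 1 := fun h => by
          have := hamax hy₀ (by rw [h, orderOf_one]; exact orderOf_pos y₀)
          rw [h, orderOf_one] at this
          exact hy₀1 (orderOf_eq_one_iff.mp (le_antisymm this (orderOf_pos y₀)))
        have h3 := hrpow a haA ha1
        have h5 : (a ^ (orderOf a / r)) ^ r = 1 := orderOf_dvd_iff_pow_eq_one.mp (dvd_of_eq h3)
        have h6 := huniq _ (pow_mem haA _) h5
        have h7 : Subgroup.zpowers (a ^ (orderOf a / r)) = Subgroup.zpowers z :=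
          Subgroup.eq_of_le_of_card_ge (Subgroup.zpowers_le.mpr h6)
            (by rw [Nat.card_zpowers, Nat.card_zpowers, hz, h3])
        exact (Subgroup.zpowers_le.mpr (pow_mem (Subgroup.mem_zpowers a) _)) (h7.symm ▸ Subgroup.mem_zpowers z)
      refine hy₀ne ?_
      have h4 : y₀ * (a ^ i')⁻¹ ∈ Subgroup.zpowers a := Subgroup.zpowers_le.mpr hza h2
      have := mul_mem h4 (pow_mem (Subgroup.mem_zpowers a) i')
      rwa [inv_mul_cancel_right] at this
    · have h1 : orderOf (y₀ ^ r) = orderOf a := by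
        rw [← hi]
        obtain ⟨j, hj⟩ := hord a haA
        exact Nat.Coprime.orderOf_pow (hj ▸ (hr.out.coprime_iff_not_dvd.mpr hri).pow_left j)
      have := hamax hy₀ (h1 ▸ hlt.le)
      omega
  refine ⟨⟨hH, small, L, cover, R, hRB, hRr, hRL, hLR, A, hAR, hLA, hAmax', a, hgen, z, hzA, hz,
    fun c hc hc1 w hw => ?_⟩, rfl, rfl⟩
  exact hH.abelian_fpf cover small (hAR.trans hRL) (hAR.trans hRB) hLA hAc hc hc1 hw

end Cfsg.Agent.Lib.DerangeIndex3.Linear
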