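import Cfsg.Agent.Lib.DerangeIndex3.Setup
import Mathlib.GroupTheory.Sylow

/-!
# The step at one prime: either a divisor congruent to one, or a regular Sylow subgroup
-/

set_option linter.style.haveILetI false
set_option linter.unusedSectionVars false

namespace Cfsg.Agent.Lib.DerangeIndex3.Prime

open MulAction
open scoped Pointwise
open Cfsg.Agent.Lib.DerangeIndex3.Setup

universe u v

variable {G : Type u} [Group G] [Finite G] {Ω : Type v} [MulAction G Ω] [Finite Ω]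
  {q : ℕ} [Fact q.Prime]

/-- `P` is a Sylow `q`-subgroup of `H`. -/
def IsSylowIn (q : ℕ) (H P : Subgroup G) : Prop :=
  P ≤ H ∧ Nat.card ↥P = q ^ (Nat.card ↥H).factorization q

theorem card_map_conj (P : Subgroup G) (g : G) :
    Nat.card ↥(P.map (MulAut.conj g).toMonoidHom) = Nat.card ↥P :=
  Subgroup.card_map_of_injective (MulAut.conj g).injective

theorem exists_sylowIn_ge {H P : Subgroup G} (hle : P ≤ H) (hP : IsPGroup q ↥P) :
    ∃ R, IsSylowIn q H R ∧ P ≤ R := by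
  obtain ⟨S, hS⟩ := IsPGroup.exists_le_sylow (p := q) (G := ↥H) (P := P.subgroupOf H)
    (hP.of_equiv (Subgroup.subgroupOfEquivOfLe hle).symm)
  refine ⟨(S : Subgroup ↥H).map H.subtype, ⟨Subgroup.map_subtype_le _, ?_⟩, ?_⟩
  · rw [Subgroup.card_map_of_injective H.subtype_injective]
    exact S.card_eq_multiplicity
  · intro x hx
    exact ⟨⟨x, hle hx⟩, hS (Subgroup.mem_subgroupOf.mpr hx), rfl⟩

theorem IsSylowIn.isPGroup {H P : Subgroup G} (h : IsSylowIn q H P) : IsPGroup q ↥P :=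
  IsPGroup.of_card h.2

theorem IsSylowIn.card_le {H P R : Subgroup G} (h : IsSylowIn q H P) (hle : R ≤ H)
    (hR : IsPGroup q ↥R) : Nat.card ↥R ≤ Nat.card ↥P := by
  obtain ⟨k, hk⟩ := IsPGroup.iff_card.mp hR
  rw [h.2, hk]
  refine Nat.pow_le_pow_right (Fact.out : q.Prime).pos ?_
  refine ((Fact.out : q.Prime).pow_dvd_iff_le_factorization Nat.card_pos.ne').mp ?_
  rw [← hk]
  exact Subgroup.card_dvd_of_le hle

/-- Conjugacy. -/
theorem IsSylowIn.conj {H P R : Subgroup G} (hP : IsSylowIn q H P) (hR : IsSylowIn q H R) :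
    ∃ h ∈ H, ∀ x : G, x ∈ R ↔ h * x * h⁻¹ ∈ P := by
  have key : ∀ {U : Subgroup G}, IsSylowIn q H U →
      Nat.card ↥(U.subgroupOf H) = q ^ (Nat.card ↥H).factorization q := fun hU => by
    rw [Nat.card_congr (Subgroup.subgroupOfEquivOfLe hU.1).toEquiv, hU.2]
  obtain ⟨g, hg⟩ := exists_smul_eq ↥H (Sylow.ofCard _ (key hR)) (Sylow.ofCard _ (key hP))
  refine ⟨g, g.2, fun x => ?_⟩
  have hg' : MulAut.conj g • R.subgroupOf H = P.subgroupOf H :=
    congrArg (fun S : Sylow q ↥H => (S : Subgroup ↥H)) hg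
  by_cases hx : x ∈ H
  · have h1 : (MulAut.conj g • (⟨x, hx⟩ : ↥H)) ∈ MulAut.conj g • R.subgroupOf H ↔
        (⟨x, hx⟩ : ↥H) ∈ R.subgroupOf H := Subgroup.smul_mem_pointwise_smul_iff
    rw [hg', Subgroup.mem_subgroupOf, Subgroup.mem_subgroupOf] at h1
    exact h1.symm
  · refine iff_of_false (fun h => hx (hR.1 h)) fun h => hx ?_
    have := H.mul_mem (H.mul_mem (H.inv_mem g.2) (hP.1 h)) g.2
    simpa [mul_assoc] using this

/-- Frattini. -/
theorem IsSylowIn.frattini {H P : Subgroup G} (hP : IsSylowIn q H P) (g : G)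
    (hg : ∀ x ∈ P, g * x * g⁻¹ ∈ H) :
    ∃ h ∈ H, h * g ∈ Subgroup.normalizer (P : Set G) := by
  have hR : IsSylowIn q H (P.map (MulAut.conj g).toMonoidHom) := by
    refine ⟨?_, (card_map_conj P g).trans hP.2⟩
    rintro _ ⟨x, hx, rfl⟩
    exact hg x hx
  obtain ⟨h, hh, hiff⟩ := hP.conj hR
  refine ⟨h, hh, Subgroup.mem_normalizer_iff.mpr fun x => ?_⟩
  have h1 : g * x * g⁻¹ ∈ P.map (MulAut.conj g).toMonoidHom ↔ x ∈ P :=
    Subgroup.mem_map_iff_mem (f := (MulAut.conj g).toMonoidHom) (MulAut.conj g).injective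
  rw [← h1, hiff, mul_inv_rev]
  simp only [SetLike.mem_coe, mul_assoc]

theorem card_stab_mul {D : Subgroup G} (h : Hyp D Ω) (a : Ω) :
    Nat.card ↥(D ⊓ stabilizer G a) * Nat.card Ω = Nat.card ↥D := by
  haveI := h.trans
  have h1 := Subgroup.index_mul_card (stabilizer ↥D a)
  rw [index_stabilizer_of_transitive] at h1
  rw [← h1, mul_comm]
  congr 1
  rw [← Nat.card_congr (Subgroup.subgroupOfEquivOfLe (inf_le_left : D ⊓ stabilizer G a ≤ D)).toEquiv,
    Subgroup.inf_subgroupOf_left]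
  rfl

/-- The step at a prime divisor of the degree. -/
theorem prime_step [FaithfulSMul G Ω] {D : Subgroup G} (h : Hyp D Ω) (hD : D ≠ ⊤) (a : Ω)
    (hq : q ∣ Nat.card Ω) :
    (∃ e, 1 ≤ e ∧ q ^ e ∣ Nat.card Ω ∧ q ^ e < Nat.card Ω ∧ D.index ∣ q ^ e - 1) ∨
    ∃ Q : Subgroup G, Q ≤ D ∧ IsPGroup q ↥Q ∧ Nat.card ↥Q = Nat.card Ω ∧
      IsPretransitive ↥Q Ω ∧ (∀ x ∈ Q, ∀ ω : Ω, x • ω = ω → x = 1) ∧
      Cover D (Subgroup.normalizer (Q : Set G)) ∧ ¬ q ∣ Nat.card ↥(D ⊓ stabilizer G a) := by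
  classical
  haveI := h.normal
  haveI : Nonempty Ω := ⟨a⟩
  have hqp : q.Prime := Fact.out
  set H0 := D ⊓ stabilizer G a with hH0
  obtain ⟨P, hP, -⟩ := exists_sylowIn_ge (q := q) (H := H0) (P := ⊥) bot_le IsPGroup.of_bot
  set v := (Nat.card ↥H0).factorization q with hv
  set L := Subgroup.normalizer (P : Set G) with hL
  set F : Set Ω := {ω | ∀ x ∈ P, x • ω = ω} with hF
  have haF : a ∈ F := fun x hx => (hP.1 hx).2
  -- covering
  have hLc : Cover D L := by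
    refine cover_iff.mpr fun g => ?_
    obtain ⟨s, hs, d, hd, rfl⟩ := cover_iff.mp (h.cover_stabilizer a) g
    obtain ⟨k, hk, hn⟩ := hP.frattini s fun x hx =>
      ⟨h.normal.conj_mem x (hP.1 hx).1 s, mem_stabilizer_iff.mpr (by
        rw [mul_smul, mul_smul, inv_smul_eq_iff.mpr (mem_stabilizer_iff.mp hs).symm,
          mem_stabilizer_iff.mp (hP.1 hx).2, mem_stabilizer_iff.mp hs])⟩
    exact ⟨k * s, hn, (s⁻¹ * k⁻¹ * s) * d,
      D.mul_mem (by simpa using h.normal.conj_mem _ (D.inv_mem hk.1) s⁻¹) hd, by group⟩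
  have hFinv : ∀ l ∈ L, ∀ ω ∈ F, l • ω ∈ F := by
    intro l hl ω hω x hx
    have h1 : l⁻¹ * x * l ∈ P := by
      have := (Subgroup.mem_normalizer_iff.mp (L.inv_mem hl) x).mp hx
      simpa using this
    have := hω _ h1
    rw [mul_smul, mul_smul, inv_smul_eq_iff] at this
    exact this
  -- transitivity
  have hFtr1 : ∀ b ∈ F, ∃ d ∈ L ⊓ D, d • a = b := by
    intro b hb
    obtain ⟨d, hd, rfl⟩ := h.exists_mem_smul a b
    obtain ⟨k, hk, hn⟩ := hP.frattini d⁻¹ fun x hx =>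
      ⟨h.normal.conj_mem x (hP.1 hx).1 d⁻¹, mem_stabilizer_iff.mpr (by
        rw [inv_inv, mul_smul, mul_smul, hb x hx, inv_smul_smul])⟩
    refine ⟨(k * d⁻¹)⁻¹, ⟨L.inv_mem hn, D.inv_mem (D.mul_mem hk.1 (D.inv_mem hd))⟩, ?_⟩
    rw [mul_inv_rev, inv_inv, mul_smul, inv_smul_eq_iff.mpr (mem_stabilizer_iff.mp hk.2).symm]
  have hFtr : ∀ s ∈ F, ∀ t ∈ F, ∃ d ∈ L ⊓ D, d • s = t := by
    intro s hs t ht
    obtain ⟨d, hd, rfl⟩ := hFtr1 s hs
    obtain ⟨d', hd', rfl⟩ := hFtr1 t ht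
    exact ⟨d' * d⁻¹, (L ⊓ D).mul_mem hd' ((L ⊓ D).inv_mem hd), by rw [mul_smul, inv_smul_smul]⟩
  -- the Sylow subgroup of the normaliser
  have hPM : P ≤ L ⊓ D := le_inf Subgroup.le_normalizer (fun x hx => (hP.1 hx).1)
  obtain ⟨Q, hQ, hPQ⟩ := exists_sylowIn_ge hPM hP.isPGroup
  set L1 := L ⊓ Subgroup.normalizer (Q : Set G) with hL1
  have hL1c : Cover D L1 := by
    refine cover_iff.mpr fun g => ?_
    obtain ⟨l, hl, d, hd, rfl⟩ := cover_iff.mp hLc g
    obtain ⟨k, hk, hn⟩ := hQ.frattini l fun x hx =>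
      ⟨L.mul_mem (L.mul_mem hl (hQ.1 hx).1) (L.inv_mem hl), h.normal.conj_mem x (hQ.1 hx).2 l⟩
    exact ⟨k * l, ⟨L.mul_mem hk.1 hl, hn⟩, (l⁻¹ * k⁻¹ * l) * d,
      D.mul_mem (by simpa using h.normal.conj_mem _ (D.inv_mem hk.2) l⁻¹) hd, by group⟩
  obtain ⟨a', ha'F, hX⟩ := h.exists_cover hD L1 hL1c F fun x hx hxD =>
    h.exists_fix_mem L F ⟨a, haF⟩ hFinv hFtr hx.1 hxD
  set O : Set Ω := orbit ↥Q a' with hO
  have hOF : O ⊆ F := by
    rintro _ ⟨x, rfl⟩
    exact hFinv _ (hQ.1 x.2).1 _ ha'F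
  have hdvd : D.index ∣ O.ncard - 1 := by
    refine h.index_dvd_ncard _ hX (fun x hx => hx.2) O ?_ (mem_orbit_self a')
    rintro x hx _ ⟨u, rfl⟩
    have hxN : x ∈ Subgroup.normalizer (Q : Set G) := hx.1.2
    refine ⟨⟨x * (u : G) * x⁻¹, (Subgroup.mem_normalizer_iff.mp hxN _).mp u.2⟩, ?_⟩
    change (x * (u : G) * x⁻¹) • a' = x • ((u : G) • a')
    rw [mul_smul, mul_smul, inv_smul_eq_iff.mpr (mem_stabilizer_iff.mp hx.2).symm]
  -- sizes
  have hsame : ∀ ω, Nat.card ↥(D ⊓ stabilizer G ω) = Nat.card ↥H0 := fun ω =>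
    Nat.eq_of_mul_eq_mul_right (Nat.card_pos (α := Ω)) ((card_stab_mul h ω).trans (card_stab_mul h a).symm)
  have hQs : Nat.card ↥(Q ⊓ stabilizer G a') = q ^ v := by
    refine le_antisymm ?_ ?_
    · have hle : Q ⊓ stabilizer G a' ≤ D ⊓ stabilizer G a' := inf_le_inf_right _ fun x hx => (hQ.1 hx).2
      obtain ⟨k, hk⟩ := IsPGroup.iff_card.mp (hQ.isPGroup.to_le (inf_le_left : Q ⊓ stabilizer G a' ≤ Q))
      rw [hk]
      refine Nat.pow_le_pow_right hqp.pos ?_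
      refine (hqp.pow_dvd_iff_le_factorization Nat.card_pos.ne').mp ?_
      rw [← hk, ← hsame a']
      exact Subgroup.card_dvd_of_le hle
    · rw [← hP.2]
      exact Nat.le_of_dvd Nat.card_pos (Subgroup.card_dvd_of_le (le_inf hPQ fun x hx => ha'F x hx))
  have hOcard : O.ncard * q ^ v = Nat.card ↥Q := by
    rw [← hQs, hO, ← index_stabilizer,
      ← Nat.card_congr (Subgroup.subgroupOfEquivOfLe (inf_le_left : Q ⊓ stabilizer G a' ≤ Q)).toEquiv,
      Subgroup.inf_subgroupOf_left]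
    exact Subgroup.index_mul_card (stabilizer ↥Q a')
  set w := (Nat.card ↥(L ⊓ D)).factorization q with hw
  have hvw : v + 1 ≤ w := by
    refine (hqp.pow_dvd_iff_le_factorization Nat.card_pos.ne').mp ?_
    have hPD : P ≤ D := fun x hx => (hP.1 hx).1
    have h1 : q ^ (v + 1) ∣ Nat.card ↥D := by
      rw [← card_stab_mul h a, pow_succ]
      exact mul_dvd_mul (Nat.ordProj_dvd _ q) hq
    have h2 := Sylow.prime_pow_dvd_card_normalizer h1 (H := P.subgroupOf D)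
      (by rw [Nat.card_congr (Subgroup.subgroupOfEquivOfLe hPD).toEquiv, hP.2])
    rw [← Subgroup.subgroupOf_normalizer_eq hPD, ← Subgroup.inf_subgroupOf_right,
      Nat.card_congr (Subgroup.subgroupOfEquivOfLe (inf_le_right : L ⊓ D ≤ D)).toEquiv] at h2
    exact h2
  have hOe : O.ncard = q ^ (w - v) := by
    refine Nat.eq_of_mul_eq_mul_right (pow_pos hqp.pos v) ?_
    rw [hOcard, hQ.2, ← pow_add, ← hw, Nat.sub_add_cancel (by omega)]
  have hOn : q ^ (w - v) ∣ Nat.card Ω := by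
    refine (hqp.pow_dvd_iff_le_factorization Nat.card_pos.ne').mpr ?_
    have h1 : w ≤ (Nat.card ↥D).factorization q :=
      (Nat.factorization_le_iff_dvd Nat.card_pos.ne' Nat.card_pos.ne').mpr
        (Subgroup.card_dvd_of_le inf_le_right) q
    rw [← card_stab_mul h a, Nat.factorization_mul Nat.card_pos.ne' Nat.card_pos.ne', Finsupp.add_apply,
      ← hv] at h1
    omega
  rcases lt_or_eq_of_le (Nat.le_of_dvd Nat.card_pos hOn) with hlt | heq
  · exact Or.inl ⟨w - v, by omega, hOn, hlt, hOe ▸ hdvd⟩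
  · refine Or.inr ?_
    have hOu : O = Set.univ :=
      Set.eq_of_subset_of_ncard_le (Set.subset_univ _) (by rw [Set.ncard_univ, hOe, heq])
    have hP1 : P = ⊥ := (Subgroup.eq_bot_iff_forall P).mpr fun x hx => eq_of_smul_eq_smul fun ω : Ω => by
      rw [one_smul]
      exact hOF (hOu ▸ Set.mem_univ ω) x hx
    have hv0 : v = 0 := by
      have := hP.2
      rw [hP1, Subgroup.card_bot, ← hv] at this
      exact (Nat.pow_eq_one.mp this.symm).resolve_left hqp.ne_one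
    have hQc : Nat.card ↥Q = Nat.card Ω := by
      rw [← hOcard, hOe, heq, hv0, pow_zero, mul_one]
    have htr : IsPretransitive ↥Q Ω := by
      refine .mk fun x y => ?_
      obtain ⟨d, hd⟩ : x ∈ O := hOu ▸ Set.mem_univ x
      obtain ⟨e, he⟩ : y ∈ O := hOu ▸ Set.mem_univ y
      refine ⟨e * d⁻¹, ?_⟩
      rw [← hd, ← he]
      simp only [mul_smul, inv_smul_smul]
    refine ⟨Q, fun x hx => (hQ.1 hx).2, hQ.isPGroup, hQc, htr, fun x hx ω hω => ?_,
      eq_top_iff.mpr ((show L1 ⊔ D = ⊤ from hL1c) ▸ sup_le_sup_right inf_le_right D), ?_⟩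
    · haveI := htr
      have h1 := Subgroup.index_mul_card (stabilizer ↥Q ω)
      rw [index_stabilizer_of_transitive, hQc] at h1
      have h2 : Nat.card (stabilizer ↥Q ω) = 1 :=
        (Nat.mul_eq_left Nat.card_pos.ne').mp h1
      have h3 : (⟨x, hx⟩ : ↥Q) ∈ stabilizer ↥Q ω := hω
      rw [Subgroup.card_eq_one.mp h2] at h3
      exact congrArg Subtype.val (Subgroup.mem_bot.mp h3)
    · intro hd
      have := (hqp.pow_dvd_iff_le_factorization (k := 1) Nat.card_pos.ne').mp (by rwa [pow_one])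
      omega

end Cfsg.Agent.Lib.DerangeIndex3.Prime
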