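import Mathlib

/-!
# A transitive group with a normal subgroup outside which elements fix exactly one point
-/

set_option linter.style.haveILetI false
set_option linter.unusedSectionVars false

namespace Cfsg.Agent.Lib.DerangeIndex3.Setup

open MulAction
open scoped Pointwise

universe u v

variable {G : Type u} [Group G] [Finite G] {Ω : Type v} [MulAction G Ω] [Finite Ω]

/-- The standing hypotheses. -/
structure Hyp (D : Subgroup G) (Ω : Type v) [MulAction G Ω] : Prop where
  normal : D.Normal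
  trans : IsPretransitive ↥D Ω
  fix : ∀ g : G, g ∉ D → ∃ a : Ω, g • a = a
  uniq : ∀ g : G, g ∉ D → ∀ a b : Ω, g • a = a → g • b = b → a = b

variable {D : Subgroup G}

theorem Hyp.mem_of_fix_two (h : Hyp D Ω) {g : G} {a b : Ω} (hab : a ≠ b) (ha : g • a = a)
    (hb : g • b = b) : g ∈ D :=
  by_contra fun hg => hab (h.uniq g hg a b ha hb)

theorem Hyp.exists_mem_smul (h : Hyp D Ω) (a b : Ω) : ∃ d ∈ D, d • a = b := by
  haveI := h.trans
  obtain ⟨d, hd⟩ := exists_smul_eq ↥D a b
  exact ⟨d, d.2, hd⟩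

/-- A covering subgroup. -/
def Cover (D L : Subgroup G) : Prop := L ⊔ D = ⊤

omit [Finite G] in
theorem cover_iff [hn : D.Normal] {L : Subgroup G} :
    Cover D L ↔ ∀ g : G, ∃ l ∈ L, ∃ d ∈ D, l * d = g := by
  constructor
  · intro h g
    exact Subgroup.mem_sup_of_normal_right.mp ((show L ⊔ D = ⊤ from h) ▸ Subgroup.mem_top g)
  · intro h
    refine eq_top_iff.mpr fun g _ => ?_
    obtain ⟨l, hl, d, hd, rfl⟩ := h g
    exact Subgroup.mul_mem_sup hl hd

omit [Finite G] in
theorem relIndex_of_cover [D.Normal] {L : Subgroup G} (h : Cover D L) :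
    D.relIndex L = D.index := by
  have h1 := Subgroup.relIndex_sup_right L D
  rw [show L ⊔ D = ⊤ from h, Subgroup.relIndex_top_right] at h1
  exact h1.symm

theorem cover_of_relIndex [D.Normal] {L : Subgroup G} (h : D.relIndex L = D.index) : Cover D L := by
  have h1 := Subgroup.relIndex_sup_right L D
  have h2 := Subgroup.relIndex_mul_index (le_sup_right : D ≤ L ⊔ D)
  rw [h1, h] at h2
  exact Subgroup.index_eq_one.mp ((Nat.mul_eq_left Subgroup.index_ne_zero_of_finite).mp h2)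

theorem Hyp.cover_stabilizer (h : Hyp D Ω) (a : Ω) : Cover D (stabilizer G a) := by
  haveI := h.normal
  refine cover_iff.mpr fun g => ?_
  obtain ⟨d, hd, he⟩ := h.exists_mem_smul a (g⁻¹ • a)
  exact ⟨g * d, mem_stabilizer_iff.mpr (by rw [mul_smul, he, smul_inv_smul]), d⁻¹, D.inv_mem hd,
    mul_inv_cancel_right g d⟩

theorem relIndex_mul_card' {H K : Subgroup G} (h : H ≤ K) : H.relIndex K * Nat.card ↥H = Nat.card ↥K := by
  rw [← Nat.card_congr (Subgroup.subgroupOfEquivOfLe h).toEquiv]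
  exact Subgroup.index_mul_card (H.subgroupOf K)

/-- Coset averaging: if `L ⊓ D` is transitive on an invariant set, the elements of `L` outside `D`
fix a point of it. -/
theorem Hyp.exists_fix_mem (h : Hyp D Ω) (L : Subgroup G) (S : Set Ω) (hS : S.Nonempty)
    (hinv : ∀ l ∈ L, ∀ s ∈ S, l • s ∈ S)
    (htr : ∀ s ∈ S, ∀ t ∈ S, ∃ d ∈ L ⊓ D, d • s = t) {x : G} (hx : x ∈ L) (hxD : x ∉ D) :
    ∃ s ∈ S, x • s = s := by
  classical
  let M := L ⊓ D
  haveI := Fintype.ofFinite ↥S
  haveI := Fintype.ofFinite ↥M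
  have hxd : ∀ d : ↥M, x * (d : G) ∉ D := fun d hd =>
    hxD (by simpa using D.mul_mem hd (D.inv_mem d.2.2))
  have horb : ∀ s : ↥S, orbit ↥M (s : Ω) = S := by
    intro s
    ext t
    constructor
    · rintro ⟨d, rfl⟩
      exact hinv _ d.2.1 _ s.2
    · intro ht
      obtain ⟨d, hd, rfl⟩ := htr s s.2 t ht
      exact ⟨⟨d, hd⟩, rfl⟩
  have hfib : ∀ s : ↥S, Nat.card {d : ↥M // (x * (d : G)) • (s : Ω) = s} * Nat.card ↥S = Nat.card ↥M := by
    intro s
    obtain ⟨d₀, hd₀, he⟩ := htr s s.2 (x⁻¹ • (s : Ω)) (hinv _ (L.inv_mem hx) _ s.2)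
    have e : {d : ↥M // (x * (d : G)) • (s : Ω) = s} ≃ stabilizer ↥M (s : Ω) := by
      refine (Equiv.mulLeft (⟨d₀, hd₀⟩⁻¹ : ↥M)).subtypeEquiv fun d => ?_
      rw [Equiv.coe_mulLeft, mem_stabilizer_iff, mul_smul, mul_smul, inv_smul_eq_iff]
      change x • ((d : G) • (s : Ω)) = s ↔ (d : G) • (s : Ω) = d₀ • (s : Ω)
      rw [he, eq_inv_smul_iff]
    have h2 := Subgroup.index_mul_card (stabilizer ↥M (s : Ω))
    rw [index_stabilizer, horb, ← Nat.card_coe_set_eq] at h2
    rw [Nat.card_congr e, mul_comm, h2]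
  let Φ : (Σ s : ↥S, {d : ↥M // (x * (d : G)) • (s : Ω) = s}) → ↥M := fun p => p.2.1
  have hinj : Function.Injective Φ := by
    rintro ⟨s, d, hd⟩ ⟨t, e, he⟩ hde
    obtain rfl : d = e := hde
    obtain rfl : s = t := Subtype.ext (h.uniq _ (hxd d) _ _ hd he)
    rfl
  have hcard : Nat.card (Σ s : ↥S, {d : ↥M // (x * (d : G)) • (s : Ω) = s}) = Nat.card ↥M := by
    haveI : Nonempty ↥S := hS.to_subtype
    refine Nat.eq_of_mul_eq_mul_right (Nat.card_pos (α := ↥S)) ?_
    rw [Nat.card_sigma, Finset.sum_mul, Finset.sum_congr rfl fun s _ => hfib s, Finset.sum_const,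
      Finset.card_univ, Nat.card_eq_fintype_card (α := ↥S), smul_eq_mul, mul_comm]
  obtain ⟨⟨s, d, hd⟩, he⟩ := ((Nat.bijective_iff_injective_and_card Φ).mpr ⟨hinj, hcard⟩).2 1
  obtain rfl : d = 1 := he
  exact ⟨s, s.2, by simpa using hd⟩

/-- If the elements of a covering subgroup outside `D` fix points of a set, a point
stabiliser of that subgroup covers. -/
theorem Hyp.exists_cover (h : Hyp D Ω) (hD : D ≠ ⊤) (L : Subgroup G) (hL : Cover D L) (S : Set Ω)
    (hfix : ∀ x ∈ L, x ∉ D → ∃ s ∈ S, x • s = s) :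
    ∃ a ∈ S, Cover D (L ⊓ stabilizer G a) := by
  classical
  haveI := h.normal
  haveI := Fintype.ofFinite G
  haveI := Fintype.ofFinite Ω
  let X : Ω → Subgroup G := fun s => L ⊓ stabilizer G s
  let W : Ω → Finset G := fun s => Finset.univ.filter fun x => x ∈ X s ∧ x ∉ D
  let O : Ω → Finset Ω := fun s => (orbit ↥L s).toFinset
  have hsub : ∀ K : Subgroup G, (Finset.univ.filter fun x => x ∈ K).card = Nat.card ↥K := fun K => by
    rw [Nat.card_eq_fintype_card, ← Fintype.card_subtype]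
  have hW : ∀ s, (W s).card + Nat.card ↥(X s ⊓ D) = Nat.card ↥(X s) := by
    intro s
    rw [← hsub (X s), ← hsub (X s ⊓ D)]
    rw [← Finset.card_filter_add_card_filter_not (s := Finset.univ.filter fun x => x ∈ X s) (fun x => x ∈ D),
      add_comm]
    congr 2 <;> ext x <;> simp [W]
  have hWO : ∀ s, ∀ t ∈ O s, (W t).card = (W s).card := by
    intro s t ht
    rw [Set.mem_toFinset] at ht
    obtain ⟨⟨l, hl⟩, rfl⟩ := ht
    refine (Finset.card_bij (fun x _ => l * x * l⁻¹) ?_ (fun x _ y _ hxy => ?_) ?_).symm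
    · intro x hx
      simp only [W, X, Finset.mem_filter, Finset.mem_univ, true_and, Subgroup.mem_inf, mem_stabilizer_iff] at hx ⊢
      refine ⟨⟨L.mul_mem (L.mul_mem hl hx.1.1) (L.inv_mem hl), ?_⟩, fun hd => hx.2 ?_⟩
      · change (l * x * l⁻¹) • (l • s) = l • s
        rw [mul_smul, mul_smul, inv_smul_smul, hx.1.2]
      · simpa [mul_assoc] using h.normal.conj_mem _ hd l⁻¹
    · simpa using hxy
    · intro y hy
      simp only [W, X, Finset.mem_filter, Finset.mem_univ, true_and, Subgroup.mem_inf, mem_stabilizer_iff] at hy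
      refine ⟨l⁻¹ * y * l, ?_, by group⟩
      simp only [W, X, Finset.mem_filter, Finset.mem_univ, true_and, Subgroup.mem_inf, mem_stabilizer_iff]
      refine ⟨⟨L.mul_mem (L.mul_mem (L.inv_mem hl) hy.1.1) hl, ?_⟩, fun hd => hy.2 ?_⟩
      · have h3 : y • (l • s) = l • s := hy.1.2
        rw [mul_smul, mul_smul, h3, inv_smul_smul]
      · simpa [mul_assoc] using h.normal.conj_mem _ hd l
  have horb : ∀ s, (O s).card * Nat.card ↥(X s) = Nat.card ↥L := by
    intro s
    have h1 : (O s).card = (stabilizer ↥L s).index := by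
      rw [index_stabilizer, Set.ncard_eq_toFinset_card']
    have h2 : (stabilizer ↥L s) = (stabilizer G s).subgroupOf L := by
      ext x; rfl
    have h3 : Nat.card ↥(X s) = Nat.card ↥((stabilizer G s).subgroupOf L) := by
      rw [← Nat.card_congr (Subgroup.subgroupOfEquivOfLe (inf_le_left : X s ≤ L)).toEquiv,
        Subgroup.inf_subgroupOf_left]
    rw [h1, h2, h3, Subgroup.index_mul_card]
  have hdisj : ∀ T : Finset Ω, (T.biUnion W).card = ∑ t ∈ T, (W t).card := by
    intro T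
    refine Finset.card_biUnion fun s _ t _ hst => Finset.disjoint_left.mpr fun x hx hx' => hst ?_
    simp only [W, X, Finset.mem_filter, Finset.mem_univ, true_and, Subgroup.mem_inf, mem_stabilizer_iff] at hx hx'
    exact h.uniq x hx.2 s t hx.1.2 hx'.1.2
  let Z : Finset G := Finset.univ.filter fun x => x ∈ L ∧ x ∉ D
  have hZ : Z.card + Nat.card ↥(L ⊓ D) = Nat.card ↥L := by
    rw [← hsub L, ← hsub (L ⊓ D)]
    rw [← Finset.card_filter_add_card_filter_not (s := Finset.univ.filter fun x => x ∈ L) (fun x => x ∈ D),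
      add_comm]
    congr 2 <;> ext x <;> simp [Z]
  have hWZ : ∀ t, W t ⊆ Z := fun t x hx => by
    simp only [W, X, Finset.mem_filter, Finset.mem_univ, true_and, Subgroup.mem_inf] at hx
    simp [Z, hx.1.1, hx.2]
  obtain ⟨x₀, hx₀⟩ : ∃ x ∈ L, x ∉ D := by
    by_contra hc
    push Not at hc
    refine hD ?_
    rw [← show L ⊔ D = ⊤ from hL, sup_eq_right.mpr hc]
  obtain ⟨s₀, hs₀S, hs₀⟩ := hfix x₀ hx₀.1 hx₀.2
  have hhalf : ∀ s, (W s).Nonempty → 2 * Nat.card ↥(X s ⊓ D) ≤ Nat.card ↥(X s) := by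
    intro s ⟨x, hx⟩
    simp only [W, Finset.mem_filter, Finset.mem_univ, true_and] at hx
    have h1 := (relIndex_mul_card' (inf_le_left : X s ⊓ D ≤ X s)).symm
    have h2 : 2 ≤ (X s ⊓ D).relIndex (X s) := by
      have h0 : (X s ⊓ D).relIndex (X s) ≠ 0 := Subgroup.index_ne_zero_of_finite
      have h1 : (X s ⊓ D).relIndex (X s) ≠ 1 := fun he => hx.2 ((Subgroup.relIndex_eq_one.mp he) hx.1).2
      omega
    rw [h1]
    exact Nat.mul_le_mul_right _ h2
  have hw₀ : (W s₀).Nonempty := ⟨x₀, by simp [W, X, hx₀.1, hx₀.2, hs₀]⟩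
  have hkey : ∀ s, (W s).Nonempty → Nat.card ↥L ≤ 2 * ((O s).card * (W s).card) := by
    intro s hs
    have h1 := hhalf s hs
    have h2 := hW s
    rw [← horb s]
    calc (O s).card * Nat.card ↥(X s) ≤ (O s).card * (2 * (W s).card) := Nat.mul_le_mul_left _ (by omega)
      _ = _ := by ring
  have hall : ∀ s, (W s).Nonempty → s ∈ O s₀ := by
    intro s hs
    by_contra hc
    have hd : Disjoint (O s₀) (O s) := Finset.disjoint_left.mpr fun t ht ht' => hc (by
      rw [Set.mem_toFinset] at ht ht' ⊢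
      rw [← orbit_eq_iff.mpr ht, orbit_eq_iff.mpr ht']
      exact mem_orbit_self s)
    have h1 : ((O s₀ ∪ O s).biUnion W).card ≤ Z.card :=
      Finset.card_le_card (Finset.biUnion_subset.mpr fun t _ => hWZ t)
    rw [hdisj, Finset.sum_union hd, Finset.sum_congr rfl (hWO s₀), Finset.sum_congr rfl (hWO s),
      Finset.sum_const, Finset.sum_const, smul_eq_mul, smul_eq_mul] at h1
    have h2 := hkey s₀ hw₀
    have h3 := hkey s hs
    have h4 : 0 < Nat.card ↥(L ⊓ D) := Nat.card_pos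
    omega
  have heq : (O s₀).biUnion W = Z := by
    refine le_antisymm (Finset.biUnion_subset.mpr fun t _ => hWZ t) fun x hx => ?_
    simp only [Z, Finset.mem_filter, Finset.mem_univ, true_and] at hx
    obtain ⟨s, hsS, hs⟩ := hfix x hx.1 hx.2
    have hxW : x ∈ W s := by simp [W, X, hx.1, hx.2, hs]
    exact Finset.mem_biUnion.mpr ⟨s, hall s ⟨x, hxW⟩, hxW⟩
  refine ⟨s₀, hs₀S, cover_of_relIndex ?_⟩
  have h1 := congrArg Finset.card heq
  rw [hdisj, Finset.sum_congr rfl (hWO s₀), Finset.sum_const, smul_eq_mul] at h1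
  have h2 := hW s₀
  have h3 := horb s₀
  have h5 : (O s₀).card * Nat.card ↥(X s₀ ⊓ D) = Nat.card ↥(L ⊓ D) := by
    have h6 : (O s₀).card * (W s₀).card + (O s₀).card * Nat.card ↥(X s₀ ⊓ D) = Nat.card ↥L := by
      rw [← mul_add, h2, h3]
    omega
  have h7 := relIndex_mul_card' (inf_le_left : X s₀ ⊓ D ≤ X s₀)
  have h8 := relIndex_mul_card' (inf_le_left : L ⊓ D ≤ L)
  rw [Subgroup.inf_relIndex_left] at h7 h8
  rw [← relIndex_of_cover hL]
  refine Nat.eq_of_mul_eq_mul_right (Nat.card_pos (α := ↥(L ⊓ D))) ?_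
  show D.relIndex (X s₀) * _ = _
  rw [h8, ← h3, ← h5, ← h7]
  ring

/-- A covering subgroup fixing a point makes invariant sets congruent. -/
theorem Hyp.index_dvd_ncard (h : Hyp D Ω) (X : Subgroup G) (hX : Cover D X) {a : Ω}
    (ha : ∀ x ∈ X, x • a = a) (S : Set Ω) (hinv : ∀ x ∈ X, ∀ s ∈ S, x • s ∈ S) (haS : a ∈ S) :
    D.index ∣ S.ncard - 1 := by
  classical
  haveI := h.normal
  let T : SubMulAction ↥X Ω :=
    ⟨S \ {a}, fun x {s} hs => ⟨hinv x x.2 s hs.1, fun he => hs.2 (by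
      have he' : (x : G) • s = a := he
      show s = a
      exact smul_left_cancel (x : G) (he'.trans (ha x x.2).symm))⟩⟩
  haveI : Finite ↥T := Subtype.finite
  have h1 : Nat.card ↥T = S.ncard - 1 := by
    rw [← Set.ncard_sdiff_singleton_of_mem haS]
    exact Nat.card_coe_set_eq _
  rw [← h1, Nat.card_congr (selfEquivSigmaOrbitsQuotientStabilizer ↥X ↥T)]
  haveI : Fintype (orbitRel.Quotient ↥X ↥T) := Fintype.ofFinite _
  rw [Nat.card_sigma]
  refine Finset.dvd_sum fun ω _ => ?_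
  rw [← Subgroup.index_eq_card, ← relIndex_of_cover hX]
  refine Subgroup.index_dvd_of_le (K := D.subgroupOf X) fun x hx => ?_
  rw [Subgroup.mem_subgroupOf]
  have hx' : (x : G) • ((ω.out : ↥T) : Ω) = (ω.out : ↥T) := congrArg Subtype.val (mem_stabilizer_iff.mp hx)
  exact h.mem_of_fix_two (fun he => (ω.out).2.2 he) hx' (ha x x.2)

theorem Hyp.index_dvd_card_sub_one (h : Hyp D Ω) (a : Ω) : D.index ∣ Nat.card Ω - 1 := by
  rw [← Set.ncard_univ]
  exact h.index_dvd_ncard _ (h.cover_stabilizer a) (fun x hx => hx) Set.univ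
    (fun _ _ _ _ => Set.mem_univ _) (Set.mem_univ a)

/-- A proper divisor congruent to one gives the bound. -/
theorem bound_of_dvd {m k n : ℕ} (hk : 2 ≤ k) (hkn : k < n) (hdvd : k ∣ n) (h1 : m ∣ k - 1)
    (h2 : m ∣ n - 1) : (m + 1) ^ 2 ≤ n := by
  obtain ⟨c, rfl⟩ := hdvd
  have hc : 2 ≤ c := by
    by_contra hc
    interval_cases c <;> omega
  have hkc : k * c - 1 = (k - 1) * c + (c - 1) := by
    have : k * c = (k - 1) * c + c := by
      conv_lhs => rw [show k = (k - 1) + 1 by omega]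
      ring
    omega
  have h3 : m ∣ c - 1 := by
    rw [hkc] at h2
    exact (Nat.dvd_add_right (h1.mul_right c)).mp h2
  have := Nat.le_of_dvd (by omega) h1
  have := Nat.le_of_dvd (by omega) h3
  rw [sq]
  exact Nat.mul_le_mul (by omega) (by omega)

/-- Without the bound the group is primitive. -/
theorem Hyp.preprimitive [IsPretransitive G Ω] (h : Hyp D Ω)
    (hn : ¬ (D.index + 1) ^ 2 ≤ Nat.card Ω) : IsPreprimitive G Ω where
  isTrivialBlock_of_isBlock {B} hB := by
    by_contra hc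
    rw [IsTrivialBlock, not_or, Set.not_subsingleton_iff] at hc
    obtain ⟨⟨a, ha, b, hb, hab⟩, huniv⟩ := hc
    have hk : 2 ≤ B.ncard := (Set.one_lt_ncard).mpr ⟨a, ha, b, hb, hab⟩
    have hkn : B.ncard < Nat.card Ω := by
      rw [← Set.ncard_univ]
      exact Set.ncard_lt_ncard (Set.ssubset_univ_iff.mpr huniv)
    have hinv : ∀ x ∈ stabilizer G a, ∀ s ∈ B, x • s ∈ B := by
      intro x hx s hs
      have hmem : a ∈ x • B := by
        rw [← mem_stabilizer_iff.mp hx]
        exact Set.smul_mem_smul_set ha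
      have he : x • B = B := (hB.smul_eq_or_disjoint x).resolve_right fun hd =>
        Set.disjoint_left.mp hd hmem ha
      rw [← he]
      exact Set.smul_mem_smul_set hs
    exact hn (bound_of_dvd hk hkn (hB.ncard_dvd_card ⟨a, ha⟩)
      (h.index_dvd_ncard _ (h.cover_stabilizer a) (fun x hx => hx) B hinv ha)
      (h.index_dvd_card_sub_one a))

/-- A group two-transitive on the points lies in `D` only if `D` is everything. -/
theorem Hyp.eq_top_of_two_transitive (h : Hyp D Ω) {a b : Ω} (hab : a ≠ b)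
    (h2 : ∀ c e : Ω, c ≠ e → ∃ d ∈ D, d • a = c ∧ d • b = e) : D = ⊤ := by
  refine eq_top_iff.mpr fun g _ => ?_
  obtain ⟨d, hd, h1, h3⟩ := h2 (g • a) (g • b) fun he => hab (smul_left_cancel g he)
  have := h.mem_of_fix_two (g := d⁻¹ * g) hab (by rw [mul_smul, ← h1, inv_smul_smul])
    (by rw [mul_smul, ← h3, inv_smul_smul])
  simpa using D.mul_mem hd this

end Cfsg.Agent.Lib.DerangeIndex3.Setup
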